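import Cfsg.Agent.StandardComponent.HS.Four
import Cfsg.Agent.HN.FactF4

set_option autoImplicit false

/-!
S1752, the case `|R| = 4`: there is an outer pair; the centraliser of `t` is `ψ(H0)⟨r⟩`.
-/

namespace Cfsg.Agent.StandardComponent.HS.FourOuter

open Cfsg.Agent.HN.Pres Cfsg.Agent.HN.HS100 Cfsg.Agent.HN.P1408 Cfsg.Agent.HN.H0Basic
open Cfsg.Agent.HN.Syl Cfsg.Agent.HN.Classes Cfsg.Agent.HN.FusGen Cfsg.Agent.HN.FusOne
open Cfsg.Agent.HN.FusK0
open Cfsg.Agent.StandardComponent.HS.FourK0 Cfsg.Agent.StandardComponent.HS.Four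
open Cfsg.Agent.HN
open Subgroup

/-! ### general facts -/

theorem τ0_comm (k : K) : k * τ0 = τ0 * k := Subtype.ext (τ_comm _)
theorem τ0_sq : (τ0 : K) * τ0 = 1 := Subtype.ext τ_mul_τ
theorem τ0_ne : (τ0 : K) ≠ 1 := fun h => τ_ne_one (congrArg Subtype.val h)

/-- The elements of `H0` centralising `K`. -/
theorem eq_of_central {h : H0} (hh : ∀ k ∈ K, h * k = k * h) : h = 1 ∨ h = τ := by
  have ha2 : a ^ 2 = 1 := a_sq'
  have hx2 : gx ^ 2 = τ := rfl
  rcases FactF1.cent_cent (h := a) (g := h) (Or.inl ha2) a_ne_one a_ne_τ (fun k hk _ => hh k hk) with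
    h1 | h1 | h1 | h1
  · exact Or.inl h1
  · exact Or.inr h1
  all_goals
    exfalso
    rcases FactF1.cent_cent (h := gx) (g := h) (Or.inr hx2) FactF4.x_ne_one FactF4.x_ne_τ
      (fun k hk _ => hh k hk) with h2 | h2 | h2 | h2
  · exact a_ne_one (h1.symm.trans h2)
  · exact a_ne_τ (h1.symm.trans h2)
  · have h3 : a = gx := h1.symm.trans h2
    rw [h3, hx2] at ha2
    exact τ_ne_one ha2
  · have h3 : a = gx * τ := h1.symm.trans h2
    rw [h3, pow_two, mul_assoc, ← mul_assoc τ gx, ← τ_comm gx, mul_assoc gx τ τ, τ_mul_τ, mul_one, ← pow_two, hx2] at ha2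
    exact τ_ne_one ha2
  · exact aτ_ne_one (h1.symm.trans h2)
  · exact aτ_ne_τ (h1.symm.trans h2)
  · have h3 : a * τ = gx := h1.symm.trans h2
    have h4 : (a * τ) ^ 2 = 1 := by
      rw [pow_two, mul_assoc, ← mul_assoc τ a, ← τ_comm a, mul_assoc a τ τ, τ_mul_τ, mul_one, ← pow_two, ha2]
    rw [h3, hx2] at h4
    exact τ_ne_one h4
  · have h3 : a = gx := mul_right_cancel (h1.symm.trans h2)
    rw [h3, hx2] at ha2
    exact τ_ne_one ha2

/-- The elements of `H0` inducing the same automorphism of `K`. -/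
theorem eq_of_conjK {h h' : H0} (H : ∀ k : K, conjK h k = conjK h' k) : h' = h ∨ h' = h * τ := by
  have h1 : h⁻¹ * h' = 1 ∨ h⁻¹ * h' = τ := by
    refine eq_of_central fun k hk => ?_
    have h2 : h * k * h⁻¹ = h' * k * h'⁻¹ := congrArg Subtype.val (H ⟨k, hk⟩)
    calc h⁻¹ * h' * k = h⁻¹ * (h' * k * h'⁻¹) * h' := by group
      _ = h⁻¹ * (h * k * h⁻¹) * h' := by rw [h2]
      _ = k * (h⁻¹ * h') := by group
  rcases h1 with h1 | h1
  · exact Or.inl (inv_mul_eq_one.1 h1).symm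
  · exact Or.inr (inv_mul_eq_iff_eq_mul.1 h1)

theorem mem_K_of_eq {h h' : H0} (H : h' = h ∨ h' = h * τ) : h' ∈ K ↔ h ∈ K := by
  rcases H with rfl | rfl
  · rfl
  · constructor
    · intro h1
      have h2 := K.mul_mem h1 τ_mem_K
      rwa [mul_assoc, τ_mul_τ, mul_one] at h2
    · intro h1
      exact K.mul_mem h1 τ_mem_K

theorem sq_mem_K (h : H0) : h * h ∈ K := by
  rw [mem_K_iff, map_mul]
  rcases Int.units_eq_one_or (sgn h) with h1 | h1 <;> rw [h1] <;> rfl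

/-- `g` normalises `φ K` and acts on it as `h`. -/
def Acts {Γ : Type*} [Group Γ] (φ : K →* Γ) (g : Γ) (h : H0) : Prop :=
  ∀ k : K, g * φ k * g⁻¹ = φ (conjK h k)

section

variable {Γ : Type*} [Group Γ] {φ : K →* Γ}

theorem acts_of (l : K) : Acts φ (φ l) l := by
  intro k
  rw [← map_inv, ← map_mul, ← map_mul]
  rfl

theorem Acts.mul {g g' : Γ} {h h' : H0} (H : Acts φ g h) (H' : Acts φ g' h') : Acts φ (g * g') (h * h') := by
  intro k
  calc g * g' * φ k * (g * g')⁻¹ = g * (g' * φ k * g'⁻¹) * g⁻¹ := by group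
    _ = φ (conjK h (conjK h' k)) := by rw [H', H]
    _ = φ (conjK (h * h') k) := by
      congr 1
      apply Subtype.ext
      rw [coe_conjK, coe_conjK, coe_conjK]
      group

theorem Acts.inv {g : Γ} {h : H0} (H : Acts φ g h) : Acts φ g⁻¹ h⁻¹ := by
  intro k
  have h1 := H (conjK h⁻¹ k)
  have h2 : conjK h (conjK h⁻¹ k) = k := by
    apply Subtype.ext
    rw [coe_conjK, coe_conjK]
    group
  rw [h2] at h1
  rw [← h1]
  group

theorem Acts.unique (hφ : Function.Injective φ) {g : Γ} {h h' : H0} (H : Acts φ g h) (H' : Acts φ g h') :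
    h' = h ∨ h' = h * τ := by
  refine eq_of_conjK fun k => hφ ?_
  rw [← H, ← H']

/-- **no inner-only configuration** -/
theorem false_of_inner (hφ : Function.Injective φ)
    (hex : ∃ g, g * φ τ0 * g⁻¹ ≠ φ τ0 ∧ g * φ τ0 * g⁻¹ * φ τ0 = φ τ0 * (g * φ τ0 * g⁻¹))
    (hb : ¬ IsConj (φ τ0) (φ b0))
    (hinv : ∀ g, IsConj (φ τ0) g → g * φ τ0 = φ τ0 * g → g = φ τ0 ∨ ∃ c : K, g = φ c * φ a0 * (φ c)⁻¹) :
    False := by
  let H : Subgroup Γ := centralizer {φ τ0}
  have memH : ∀ g : Γ, g ∈ H ↔ g * φ τ0 = φ τ0 * g := fun g => mem_centralizer_singleton_iff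
  have hφH : ∀ k : K, φ k ∈ H := fun k => by rw [memH, ← map_mul, ← map_mul, τ0_comm]
  let f : K → H := fun k => ⟨φ k, hφH k⟩
  have hfm : ∀ k l : K, f (k * l) = f k * f l := fun k l => Subtype.ext (map_mul φ k l)
  have hfc : ∀ {k l : K}, IsConj k l → IsConj (f k) (f l) := by
    intro k l h
    obtain ⟨c, rfl⟩ := isConj_iff.1 h
    refine isConj_iff.2 ⟨f c, ?_⟩
    rw [← hfm, mul_inv_eq_iff_eq_mul, ← hfm]
    congr 1
    group
  have E : Emb (H.subtype) (f τ0) :=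
    { inj := H.subtype_injective
      cent := fun g hg => ⟨⟨g, (memH g).2 hg⟩, rfl⟩
      comm := fun h => Subtype.ext ((memH _).1 h.2)
      sq := by rw [← hfm, τ0_sq]; exact Subtype.ext (map_one φ)
      ne := fun h => τ0_ne (hφ (by rw [map_one]; exact congrArg Subtype.val h)) }
  have hb' : ¬ InK H.subtype (f τ0) (f a0 * f τ0) := by
    intro h
    apply hb
    rw [← hfm, ← b0_eq] at h
    exact h
  have hK : ∀ h, InK H.subtype (f τ0) h → h = f τ0 ∨ IsConj (f a0) h := by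
    intro h hh
    rcases hinv h hh ((memH _).1 h.2) with h1 | ⟨c, hc⟩
    · exact Or.inl (Subtype.ext h1)
    · refine Or.inr (isConj_iff.2 ⟨f c, Subtype.ext ?_⟩)
      rw [hc]
      rfl
  obtain ⟨g, hg, hgc⟩ := hex
  have ha : InK H.subtype (f τ0) (f a0) := by
    have h1 : InK H.subtype (f τ0) ⟨g * φ τ0 * g⁻¹, (memH _).2 hgc⟩ := isConj_iff.2 ⟨g, rfl⟩
    rcases hK _ h1 with h2 | h2
    · exact absurd (congrArg Subtype.val h2) hg
    · exact h1.conj h2.symm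
  exact E.f4 (a₁ := f a0) (a₂ := f ⟨a2, a2_mem_K⟩)
    (by rw [← hfm, ← hfm]; exact congrArg f (Subtype.ext a2_comm.symm)) (IsConj.refl _)
    (hfc (isConj_of (g := a0) s8_a isConj_a_a2)) (by
      rw [← hfm]; exact hfc (isConj_of (g := a0) s8_a isConj_a_mul)) ha hb' hK

end

/-! ### the outer pair -/

section

variable {Γ : Type*} [Group Γ] {φ : K →* Γ} {r : Γ} (F : Four φ r)
include F

omit F in
theorem t_sq : φ τ0 * φ τ0 = 1 := by rw [← map_mul, τ0_sq, map_one]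
omit F in
theorem t_comm (k : K) : φ k * φ τ0 = φ τ0 * φ k := by rw [← map_mul, ← map_mul, τ0_comm]
theorem t_ne : φ τ0 ≠ 1 := fun h => τ0_ne (F.inj (h.trans (map_one φ).symm))

theorem four_cases {z : Γ} (hz : z ∈ zpowers r) : z = 1 ∨ z = φ τ0 ∨ z = r ∨ z = r * φ τ0 := by
  obtain ⟨n, rfl⟩ := mem_zpowers_iff.1 hz
  have h4 : r ^ (4 : ℤ) = 1 := by
    have : r ^ (4 : ℤ) = (r * r) * (r * r) := by
      rw [show (4 : ℤ) = 1 + 1 + 1 + 1 by norm_num, zpow_add, zpow_add, zpow_add, zpow_one, mul_assoc (r * r)]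
    rw [this, F.hr, t_sq]
  have h1 : r ^ n = r ^ (n % 4) := by
    conv_lhs => rw [← Int.mul_ediv_add_emod n 4]
    rw [zpow_add, zpow_mul, h4, one_zpow, one_mul]
  have h2 : n % 4 = 0 ∨ n % 4 = 1 ∨ n % 4 = 2 ∨ n % 4 = 3 := by omega
  rw [h1]
  rcases h2 with h2 | h2 | h2 | h2
  · left; rw [h2, zpow_zero]
  · right; right; left; rw [h2, zpow_one]
  · right; left; rw [h2, ← F.hr, show (2 : ℤ) = 1 + 1 by norm_num, zpow_add, zpow_one]
  · right; right; right
    rw [h2, ← F.hr, show (3 : ℤ) = 1 + (1 + 1) by norm_num, zpow_add, zpow_add, zpow_one]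

/-- An element acting as an inner automorphism. -/
theorem inner_form {u : Γ} {h : H0} (hu : Acts φ u h) (hh : h ∈ K) : ∃ l : K, u = φ l ∨ u = r * φ l := by
  have h1 : (φ ⟨h, hh⟩)⁻¹ * u ∈ zpowers r := by
    refine F.hR _ fun k => ?_
    have h2 := (acts_of (φ := φ) ⟨h, hh⟩) k
    have h3 := hu k
    have h4 : φ ⟨h, hh⟩ * φ k * (φ ⟨h, hh⟩)⁻¹ = u * φ k * u⁻¹ := h2.trans h3.symm
    calc (φ ⟨h, hh⟩)⁻¹ * u * φ k = (φ ⟨h, hh⟩)⁻¹ * (u * φ k * u⁻¹) * u := by group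
      _ = (φ ⟨h, hh⟩)⁻¹ * (φ ⟨h, hh⟩ * φ k * (φ ⟨h, hh⟩)⁻¹) * u := by rw [h4]
      _ = φ k * ((φ ⟨h, hh⟩)⁻¹ * u) := by group
  rcases four_cases F h1 with h2 | h2 | h2 | h2
  · exact ⟨⟨h, hh⟩, Or.inl (inv_mul_eq_one.1 h2).symm⟩
  · exact ⟨⟨h, hh⟩ * τ0, Or.inl (by rw [inv_mul_eq_iff_eq_mul.1 h2, map_mul])⟩
  · exact ⟨⟨h, hh⟩, Or.inr (by rw [inv_mul_eq_iff_eq_mul.1 h2, F.hrc])⟩
  · exact ⟨⟨h, hh⟩ * τ0, Or.inr (by rw [inv_mul_eq_iff_eq_mul.1 h2, ← mul_assoc, ← F.hrc, map_mul, mul_assoc])⟩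

/-- A conjugate of `t` acting as an inner automorphism. -/
theorem inner_cases {u : Γ} (hut : IsConj (φ τ0) u) {h : H0} (hu : Acts φ u h) (hh : h ∈ K) :
    u = φ τ0 ∨ ∃ c : K, u = φ c * φ a0 * (φ c)⁻¹ := by
  have hu2 : u * u = 1 := by
    obtain ⟨c, rfl⟩ := isConj_iff.1 hut
    calc c * φ τ0 * c⁻¹ * (c * φ τ0 * c⁻¹) = c * (φ τ0 * φ τ0) * c⁻¹ := by group
      _ = 1 := by rw [t_sq]; group
  have hu1 : u ≠ 1 := by
    rintro rfl
    exact t_ne F (isConj_one_left.1 hut)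
  obtain ⟨k, hk | hk⟩ := inner_form F hu hh
  · have hk2 : k * k = 1 := F.inj (by rw [map_mul, map_one, ← hk, hu2])
    rcases cases_K hk2 with h3 | h3 | h3 | h3
    · exact absurd (by rw [hk, h3, map_one]) hu1
    · exact Or.inl (by rw [hk, h3])
    · obtain ⟨c, hc⟩ := isConj_iff.1 h3
      exact Or.inr ⟨c, by rw [hk, ← hc, map_mul, map_mul, map_inv]⟩
    · exact absurd (hut.trans (by rw [hk]; exact (φ.map_isConj h3).symm)) F.hb
  · exfalso
    have hk2 : k * k = τ0 := by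
      have h3 : τ0 * (k * k) = 1 := F.inj (by
        rw [map_mul, map_mul, map_one, ← F.hr, ← hu2, hk]
        calc r * r * (φ k * φ k) = r * (r * φ k) * φ k := by group
          _ = r * (φ k * r) * φ k := by rw [F.hrc]
          _ = r * φ k * (r * φ k) := by group)
      calc k * k = τ0 * (τ0 * (k * k)) := by rw [← mul_assoc τ0 τ0, τ0_sq, one_mul]
        _ = τ0 := by rw [h3, mul_one]
    obtain ⟨c, hc⟩ := isConj_iff.1 (isConj_x0 hk2)
    apply F.hx
    refine hut.trans (isConj_iff.2 ⟨(φ c)⁻¹, ?_⟩)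
    rw [hk, ← hc, map_mul, map_mul, map_inv]
    calc (φ c)⁻¹ * (r * (φ c * φ x0 * (φ c)⁻¹)) * (φ c)⁻¹⁻¹ = (φ c)⁻¹ * (r * φ c) * φ x0 := by group
      _ = (φ c)⁻¹ * (φ c * r) * φ x0 := by rw [F.hrc]
      _ = r * φ x0 := by group

/-- There is an outer pair. -/
theorem exists_outer : ∃ (g : Γ) (h : H0), g * φ τ0 * g⁻¹ * φ τ0 = φ τ0 * (g * φ τ0 * g⁻¹) ∧
    Acts φ (g * φ τ0 * g⁻¹) h ∧ h ∉ K := by
  by_contra hno
  push Not at hno
  refine false_of_inner F.inj F.hex F.hb fun u hu huc => ?_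
  obtain ⟨h, hh⟩ := F.hM u huc
  obtain ⟨g, rfl⟩ := isConj_iff.1 hu
  exact inner_cases F hu hh (hno g h huc hh)

omit F in
variable (φ) in
/-- the homomorphism into the centraliser -/
def toC : K →* (centralizer {φ τ0} : Subgroup Γ) where
  toFun k := ⟨φ k, mem_centralizer_singleton_iff.2 (t_comm k)⟩
  map_one' := Subtype.ext (map_one φ)
  map_mul' k l := Subtype.ext (map_mul φ k l)

theorem range_normal : (toC φ).range.Normal := by
  refine ⟨?_⟩
  rintro _ ⟨k, rfl⟩ g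
  obtain ⟨h, hh⟩ := F.hM g (mem_centralizer_singleton_iff.1 g.2)
  exact ⟨conjK h k, Subtype.ext (hh k).symm⟩

/-- the index of the centraliser of `φ a0` in `C(t)` -/
theorem index_a [Finite Γ] : ((centralizer {φ a0}).subgroupOf (centralizer {φ τ0})).index = 5775 := by
  set C : Subgroup Γ := centralizer {φ τ0} with hC
  set A : Subgroup C := (centralizer {φ a0}).subgroupOf C with hA
  have memA : ∀ g : C, g ∈ A ↔ (g : Γ) * φ a0 = φ a0 * g := fun g => by
    rw [hA, mem_subgroupOf, mem_centralizer_singleton_iff]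
  set L : Subgroup C := (toC φ).range with hL
  have hLn : L.Normal := range_normal F
  have hsup : A ⊔ L = ⊤ := by
    rw [eq_top_iff]
    rintro g -
    obtain ⟨h, hh⟩ := F.hM g (mem_centralizer_singleton_iff.1 g.2)
    have h1 : IsConj a0 (conjK h a0) := by
      refine isConj_of (g := a0) s8_a ?_
      exact isConj_iff.2 ⟨h, rfl⟩
    obtain ⟨l, hl⟩ := isConj_iff.1 h1
    have h2 : (g : Γ) * φ a0 * (g : Γ)⁻¹ = φ l * φ a0 * (φ l)⁻¹ := by
      rw [hh, ← hl, map_mul, map_mul, map_inv]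
    have h3 : (toC φ l)⁻¹ * g ∈ A := by
      rw [memA]
      change (φ l)⁻¹ * (g : Γ) * φ a0 = φ a0 * ((φ l)⁻¹ * (g : Γ))
      calc (φ l)⁻¹ * (g : Γ) * φ a0 = (φ l)⁻¹ * ((g : Γ) * φ a0 * (g : Γ)⁻¹) * g := by group
        _ = (φ l)⁻¹ * (φ l * φ a0 * (φ l)⁻¹) * g := by rw [h2]
        _ = φ a0 * ((φ l)⁻¹ * (g : Γ)) := by group
    have h4 : g = toC φ l * ((toC φ l)⁻¹ * g) := by group
    rw [h4]
    exact mul_mem (mem_sup_right ⟨l, rfl⟩) (mem_sup_left h3)
  have e1 : A.relIndex L * L.index = (A ⊓ L).index := by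
    have := relIndex_inf_mul_relIndex A L ⊤
    rwa [inf_top_eq, relIndex_top_right, relIndex_top_right] at this
  have e2 : L.relIndex A * A.index = (L ⊓ A).index := by
    have := relIndex_inf_mul_relIndex L A ⊤
    rwa [inf_top_eq, relIndex_top_right, relIndex_top_right] at this
  have e3 : L.relIndex A = L.index := by
    have h1 : L.relIndex (A ⊔ L) = L.relIndex A := relIndex_sup_right ..
    rw [← h1, hsup, relIndex_top_right]
  have e4 : A.index = A.relIndex L := by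
    rw [e3] at e2
    rw [inf_comm, ← e2, mul_comm] at e1
    exact (Nat.eq_of_mul_eq_mul_left (Nat.pos_of_ne_zero index_ne_zero_of_finite) e1).symm
  have e5 : (A.comap (toC φ)).index = A.relIndex L := index_comap A (toC φ)
  have e6 : A.comap (toC φ) = (centralizer {a} : Subgroup H0).subgroupOf K := by
    ext k
    rw [mem_comap, memA, mem_subgroupOf, mem_centralizer_singleton_iff]
    constructor
    · intro h
      have h1 : φ (k * a0) = φ (a0 * k) := by rw [map_mul, map_mul]; exact h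
      exact congrArg Subtype.val (F.inj h1)
    · intro h
      have h1 : k * a0 = a0 * k := Subtype.ext h
      change φ k * φ a0 = φ a0 * φ k
      rw [← map_mul, ← map_mul, h1]
  rw [e4, ← e5, e6]
  exact FactF4.relIndex_centralizer_a

omit F in
theorem isPGroup_S0 : IsPGroup 2 (S0.map (toC φ)) := by
  have : Fact (Nat.Prime 2) := ⟨Nat.prime_two⟩
  exact (IsPGroup.iff_card.2 ⟨10, card_S0⟩ : IsPGroup 2 S0).map _

/-- An involution `u` of `C(t)` acting as an outer element has even index centraliser in `C(t)`. -/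
theorem even_of_outer [Finite Γ] {u : Γ} {h : H0} (hu : Acts φ u h) (hh : h ∉ K) :
    2 ∣ ((centralizer {u}).subgroupOf (centralizer {φ τ0})).index := by
  by_contra hodd
  obtain ⟨c, hc⟩ := FactF4.exists_conj_le isPGroup_S0 hodd
  obtain ⟨hc', hcc⟩ := F.hM c (mem_centralizer_singleton_iff.1 c.2)
  have hu' : Acts φ ((c : Γ) * u * (c : Γ)⁻¹) (hc' * h * hc'⁻¹) := (Acts.mul (Acts.mul hcc hu) (Acts.inv hcc))
  have key : hc' * h * hc'⁻¹ ∈ K := by
    have h4 := FactF4.F4 (h := hc' * h * hc'⁻¹) (fun s hs hsK => ?_)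
    · rcases h4 with h4 | h4 | h4 | h4
      · rw [h4]; exact K.one_mem
      · rw [h4]; exact τ_mem_K
      · rw [h4]; exact a0.2
      · rw [h4]; exact aτ_mem_K
    · have h1 := hc (toC φ ⟨s, hsK⟩) ⟨⟨s, hsK⟩, mem_S0.2 hs, rfl⟩
      rw [mem_subgroupOf, mem_centralizer_singleton_iff] at h1
      have h2 : (c : Γ)⁻¹ * φ ⟨s, hsK⟩ * c * u = u * ((c : Γ)⁻¹ * φ ⟨s, hsK⟩ * c) := h1
      have h3 : φ ⟨s, hsK⟩ * (c * u * (c : Γ)⁻¹) * (φ ⟨s, hsK⟩)⁻¹ = c * u * (c : Γ)⁻¹ := by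
        calc φ ⟨s, hsK⟩ * (c * u * (c : Γ)⁻¹) * (φ ⟨s, hsK⟩)⁻¹
            = c * ((c : Γ)⁻¹ * φ ⟨s, hsK⟩ * c * u) * (c : Γ)⁻¹ * (φ ⟨s, hsK⟩)⁻¹ := by group
          _ = c * (u * ((c : Γ)⁻¹ * φ ⟨s, hsK⟩ * c)) * (c : Γ)⁻¹ * (φ ⟨s, hsK⟩)⁻¹ := by rw [h2]
          _ = c * u * (c : Γ)⁻¹ := by group
      have h5 : Acts φ ((c : Γ) * u * (c : Γ)⁻¹) (s * (hc' * h * hc'⁻¹) * s⁻¹) := by
        have h6 := Acts.mul (Acts.mul (acts_of (φ := φ) ⟨s, hsK⟩) hu') (Acts.inv (acts_of (φ := φ) ⟨s, hsK⟩))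
        rwa [h3] at h6
      exact Acts.unique F.inj hu' h5
  apply hh
  have h7 := (inferInstance : (K : Subgroup H0).Normal).conj_mem _ key hc'⁻¹
  have h8 : hc'⁻¹ * (hc' * h * hc'⁻¹) * hc'⁻¹⁻¹ = h := by group
  rwa [h8] at h7

/-- An outer pair is mutually outer. -/
theorem outer_symm [Finite Γ] {g : Γ} {h h' : H0}
    (hg : Acts φ (g * φ τ0 * g⁻¹) h) (hh : h ∉ K) (hg' : Acts φ (g⁻¹ * φ τ0 * g) h') : h' ∉ K := by
  intro hh'
  have hut : IsConj (φ τ0) (g⁻¹ * φ τ0 * g) := isConj_iff.2 ⟨g⁻¹, by rw [inv_inv]⟩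
  rcases inner_cases F hut hg' hh' with h1 | ⟨c, hc⟩
  · have h2 : g * φ τ0 * g⁻¹ = φ τ0 := by
      have h3 : g * (g⁻¹ * φ τ0 * g) * g⁻¹ = φ τ0 := by group
      rwa [h1] at h3
    rw [h2] at hg
    exact hh ((mem_K_of_eq (Acts.unique F.inj (acts_of τ0) hg)).2 τ_mem_K)
  · set g' : Γ := g * φ c with hg'
    have e1 : g' * φ τ0 * g'⁻¹ = g * φ τ0 * g⁻¹ := by
      rw [hg']
      calc g * φ c * φ τ0 * (g * φ c)⁻¹ = g * (φ c * φ τ0) * (φ c)⁻¹ * g⁻¹ := by group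
        _ = g * (φ τ0 * φ c) * (φ c)⁻¹ * g⁻¹ := by rw [t_comm]
        _ = g * φ τ0 * g⁻¹ := by group
    have e2 : g' * φ a0 * g'⁻¹ = φ τ0 := by
      rw [hg']
      calc g * φ c * φ a0 * (g * φ c)⁻¹ = g * (φ c * φ a0 * (φ c)⁻¹) * g⁻¹ := by group
        _ = g * (g⁻¹ * φ τ0 * g) * g⁻¹ := by rw [hc]
        _ = φ τ0 := by group
    set C : Subgroup Γ := centralizer {φ τ0} with hC
    have hcard : Nat.card ((centralizer {φ a0}).subgroupOf C) =
        Nat.card ((centralizer {g * φ τ0 * g⁻¹}).subgroupOf C) := by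
      have f1 : ∀ x : Γ, x * φ τ0 = φ τ0 * x → x * φ a0 = φ a0 * x →
          g' * x * g'⁻¹ * φ τ0 = φ τ0 * (g' * x * g'⁻¹) ∧
          g' * x * g'⁻¹ * (g * φ τ0 * g⁻¹) = g * φ τ0 * g⁻¹ * (g' * x * g'⁻¹) := by
        intro x hx1 hx2
        constructor
        · calc g' * x * g'⁻¹ * φ τ0 = g' * x * g'⁻¹ * (g' * φ a0 * g'⁻¹) := by rw [e2]
            _ = g' * (x * φ a0) * g'⁻¹ := by group
            _ = g' * (φ a0 * x) * g'⁻¹ := by rw [hx2]
            _ = g' * φ a0 * g'⁻¹ * (g' * x * g'⁻¹) := by group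
            _ = φ τ0 * (g' * x * g'⁻¹) := by rw [e2]
        · rw [← e1]
          calc g' * x * g'⁻¹ * (g' * φ τ0 * g'⁻¹) = g' * (x * φ τ0) * g'⁻¹ := by group
            _ = g' * (φ τ0 * x) * g'⁻¹ := by rw [hx1]
            _ = g' * φ τ0 * g'⁻¹ * (g' * x * g'⁻¹) := by group
      have f2 : ∀ y : Γ, y * φ τ0 = φ τ0 * y → y * (g * φ τ0 * g⁻¹) = g * φ τ0 * g⁻¹ * y →
          g'⁻¹ * y * g' * φ τ0 = φ τ0 * (g'⁻¹ * y * g') ∧
          g'⁻¹ * y * g' * φ a0 = φ a0 * (g'⁻¹ * y * g') := by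
        intro y hy1 hy2
        rw [← e1] at hy2
        constructor
        · calc g'⁻¹ * y * g' * φ τ0 = g'⁻¹ * (y * (g' * φ τ0 * g'⁻¹)) * g' := by group
            _ = g'⁻¹ * (g' * φ τ0 * g'⁻¹ * y) * g' := by rw [hy2]
            _ = φ τ0 * (g'⁻¹ * y * g') := by group
        · rw [← e2] at hy1
          calc g'⁻¹ * y * g' * φ a0 = g'⁻¹ * (y * (g' * φ a0 * g'⁻¹)) * g' := by group
            _ = g'⁻¹ * (g' * φ a0 * g'⁻¹ * y) * g' := by rw [hy1]
            _ = φ a0 * (g'⁻¹ * y * g') := by group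
      have m1 : ∀ x : (centralizer {φ a0}).subgroupOf C, (x : Γ) * φ τ0 = φ τ0 * x ∧ (x : Γ) * φ a0 = φ a0 * x :=
        fun x => ⟨mem_centralizer_singleton_iff.1 x.1.2,
          mem_centralizer_singleton_iff.1 (mem_subgroupOf.1 x.2)⟩
      have m2 : ∀ y : (centralizer {g * φ τ0 * g⁻¹}).subgroupOf C, (y : Γ) * φ τ0 = φ τ0 * y ∧
          (y : Γ) * (g * φ τ0 * g⁻¹) = g * φ τ0 * g⁻¹ * y :=
        fun y => ⟨mem_centralizer_singleton_iff.1 y.1.2,
          mem_centralizer_singleton_iff.1 (mem_subgroupOf.1 y.2)⟩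
      refine Nat.card_congr
        { toFun := fun x => ⟨⟨g' * x * g'⁻¹, mem_centralizer_singleton_iff.2 (f1 _ (m1 x).1 (m1 x).2).1⟩,
            mem_subgroupOf.2 (mem_centralizer_singleton_iff.2 (f1 _ (m1 x).1 (m1 x).2).2)⟩
          invFun := fun y => ⟨⟨g'⁻¹ * y * g', mem_centralizer_singleton_iff.2 (f2 _ (m2 y).1 (m2 y).2).1⟩,
            mem_subgroupOf.2 (mem_centralizer_singleton_iff.2 (f2 _ (m2 y).1 (m2 y).2).2)⟩
          left_inv := fun x => ?_
          right_inv := fun y => ?_ }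
      · apply Subtype.ext
        apply Subtype.ext
        change g'⁻¹ * (g' * (x : Γ) * g'⁻¹) * g' = x
        group
      · apply Subtype.ext
        apply Subtype.ext
        change g' * (g'⁻¹ * (y : Γ) * g') * g'⁻¹ = y
        group
    have i1 := ((centralizer {φ a0}).subgroupOf C).card_mul_index
    have i2 := ((centralizer {g * φ τ0 * g⁻¹}).subgroupOf C).card_mul_index
    rw [index_a F] at i1
    rw [← hcard, ← i1] at i2
    have i3 := Nat.eq_of_mul_eq_mul_left Nat.card_pos i2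
    have i4 := even_of_outer F hg hh
    rw [← hC, i3] at i4
    omega

/-- In an outer pair the involution inverts `r`. -/
theorem inverts_r [Finite Γ] {g : Γ} (hgc : g * φ τ0 * g⁻¹ * φ τ0 = φ τ0 * (g * φ τ0 * g⁻¹)) {h : H0}
    (hg : Acts φ (g * φ τ0 * g⁻¹) h) (hh : h ∉ K) :
    r * (g * φ τ0 * g⁻¹) * r⁻¹ = g * φ τ0 * g⁻¹ * φ τ0 := by
  set u : Γ := g * φ τ0 * g⁻¹ with hu
  have huu : u * u = 1 := by
    rw [hu]
    calc g * φ τ0 * g⁻¹ * (g * φ τ0 * g⁻¹) = g * (φ τ0 * φ τ0) * g⁻¹ := by group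
      _ = 1 := by rw [t_sq]; group
  have h1 : u * r * u⁻¹ ∈ zpowers r := by
    refine F.hR _ fun k => ?_
    have h2 := (Acts.inv hg) k
    rw [inv_inv] at h2
    have h3 : φ k * u = u * φ (conjK h⁻¹ k) := by
      rw [← h2]; group
    have h4 := hg (conjK h⁻¹ k)
    have h5 : conjK h (conjK h⁻¹ k) = k := by
      apply Subtype.ext
      rw [coe_conjK, coe_conjK]
      group
    rw [h5] at h4
    calc u * r * u⁻¹ * φ k = u * r * (u⁻¹ * φ k * u) * u⁻¹ := by group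
      _ = u * (r * φ (conjK h⁻¹ k)) * u⁻¹ := by rw [h2]; group
      _ = u * (φ (conjK h⁻¹ k) * r) * u⁻¹ := by rw [F.hrc]
      _ = (u * φ (conjK h⁻¹ k) * u⁻¹) * (u * r * u⁻¹) := by group
      _ = φ k * (u * r * u⁻¹) := by rw [h4]
  have hrt : r * φ τ0 = φ τ0 * r := F.hrc τ0
  have h2 : u * r * u⁻¹ = r ∨ u * r * u⁻¹ = r * φ τ0 := by
    rcases four_cases F h1 with h3 | h3 | h3 | h3
    · exfalso
      have h4 : r = 1 := by
        calc r = u⁻¹ * (u * r * u⁻¹) * u := by group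
          _ = 1 := by rw [h3]; group
      apply t_ne F
      rw [← F.hr, h4, one_mul]
    · exfalso
      have h4 : r = φ τ0 := by
        calc r = u⁻¹ * (u * r * u⁻¹) * u := by group
          _ = u⁻¹ * (φ τ0 * u) := by rw [h3]; group
          _ = φ τ0 := by rw [← hgc]; group
      apply t_ne F
      rw [← F.hr, h4, t_sq]
    · exact Or.inl h3
    · exact Or.inr h3
  rcases h2 with h2 | h2
  · exfalso
    have hru : r * u = u * r := by
      calc r * u = (u * r * u⁻¹) * u := by rw [h2]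
        _ = u * r := by group
    -- `r` acts on the conjugate of `φ K`
    obtain ⟨h1', hh1⟩ := F.hM (g⁻¹ * r * g) (by
      calc g⁻¹ * r * g * φ τ0 = g⁻¹ * (r * (g * φ τ0 * g⁻¹)) * g := by group
        _ = g⁻¹ * (g * φ τ0 * g⁻¹ * r) * g := by rw [← hu, hru]
        _ = φ τ0 * (g⁻¹ * r * g) := by group)
    have h3 : Acts φ (g⁻¹ * φ τ0 * g) (h1' * h1') := by
      have h4 := Acts.mul (φ := φ) hh1 hh1
      have h5 : g⁻¹ * r * g * (g⁻¹ * r * g) = g⁻¹ * φ τ0 * g := by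
        rw [← F.hr]; group
      rwa [h5] at h4
    exact outer_symm F hg hh h3 (sq_mem_K h1')
  · clear_value u
    have h3 : u⁻¹ = u := inv_eq_of_mul_eq_one_left huu
    have h4 : u * r * u = r * φ τ0 := by rw [← h2, h3]
    calc r * u * r⁻¹ = 1 * r * u * r⁻¹ := by rw [one_mul]
      _ = u * (u * r * u) * r⁻¹ := by rw [← huu]; group
      _ = u * (φ τ0 * r) * r⁻¹ := by rw [h4, hrt]
      _ = u * φ τ0 := by group

end

/-! ### the homomorphism on `H0` -/

open Classical in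
/-- extension of a homomorphism from `K` to `H0 = K ⟨h⟩`. -/
theorem exists_ext {Γ : Type*} [Group Γ] {φ : K →* Γ} {u : Γ} {h : H0} (hh : h ∉ K) (hh2 : h * h = 1)
    (hu : Acts φ u h) (hu2 : u * u = 1) :
    ∃ ψ : H0 →* Γ, (∀ k : K, ψ k = φ k) ∧ ψ h = u ∧ ∀ m, m ∉ K → ∃ k : K, ψ m = φ k * u ∧ m = k * h := by
  have hm : ∀ m : H0, m ∉ K → m * h ∈ K := by
    intro m hmK
    rw [mem_K_iff, map_mul]
    have h2 := (Int.units_eq_one_or (sgn m)).resolve_left hmK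
    have h3 := (Int.units_eq_one_or (sgn h)).resolve_left hh
    rw [h2, h3]; rfl
  have hmm : ∀ m n : H0, m ∉ K → n ∉ K → m * n ∈ K := by
    intro m n hmK hnK
    rw [mem_K_iff, map_mul]
    have h2 := (Int.units_eq_one_or (sgn m)).resolve_left hmK
    have h3 := (Int.units_eq_one_or (sgn n)).resolve_left hnK
    rw [h2, h3]; rfl
  have hmn : ∀ m n : H0, m ∈ K → n ∉ K → m * n ∉ K := by
    intro m n hmK hnK h1
    exact hnK (by
      have := K.mul_mem (K.inv_mem hmK) h1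
      rwa [inv_mul_cancel_left] at this)
  have hnm : ∀ m n : H0, m ∉ K → n ∈ K → m * n ∉ K := by
    intro m n hmK hnK h1
    exact hmK (by
      have := K.mul_mem h1 (K.inv_mem hnK)
      rwa [mul_inv_cancel_right] at this)
  have hswap : ∀ k : K, u * φ k = φ (conjK h k) * u := by
    intro k
    rw [← hu k]; group
  have hcK : ∀ m ∈ K, h * m * h ∈ K := by
    intro m hmK
    have h1 := (inferInstance : (K : Subgroup H0).Normal).conj_mem m hmK h
    rwa [inv_eq_of_mul_eq_one_left hh2] at h1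
  have hinv : h⁻¹ = h := inv_eq_of_mul_eq_one_left hh2
  let f : H0 → Γ := fun m => if hmK : m ∈ K then φ ⟨m, hmK⟩ else φ ⟨m * h, hm m hmK⟩ * u
  have f1 : ∀ m (hmK : m ∈ K), f m = φ ⟨m, hmK⟩ := fun m hmK => dif_pos hmK
  have f2 : ∀ m (hmK : m ∉ K), f m = φ ⟨m * h, hm m hmK⟩ * u := fun m hmK => dif_neg hmK
  have fmul : ∀ m n, f (m * n) = f m * f n := by
    intro m n
    by_cases hmK : m ∈ K
    · by_cases hnK : n ∈ K
      · rw [f1 _ (K.mul_mem hmK hnK), f1 _ hmK, f1 _ hnK, ← map_mul]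
        rfl
      · rw [f2 _ (hmn m n hmK hnK), f1 _ hmK, f2 _ hnK, ← mul_assoc, ← map_mul]
        congr 2
        exact Subtype.ext (mul_assoc _ _ _)
    · by_cases hnK : n ∈ K
      · rw [f2 _ (hnm m n hmK hnK), f2 _ hmK, f1 _ hnK]
        calc φ ⟨m * n * h, _⟩ * u = φ (⟨m * h, hm m hmK⟩ * conjK h ⟨n, hnK⟩) * u := by
              congr 2
              apply Subtype.ext
              change m * n * h = m * h * (h * n * h⁻¹)
              rw [hinv]
              calc m * n * h = m * 1 * n * h := by group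
                _ = m * (h * h) * n * h := by rw [hh2]
                _ = m * h * (h * n * h) := by group
          _ = φ ⟨m * h, hm m hmK⟩ * (φ (conjK h ⟨n, hnK⟩) * u) := by rw [map_mul, mul_assoc]
          _ = φ ⟨m * h, hm m hmK⟩ * u * φ ⟨n, hnK⟩ := by rw [← hswap, mul_assoc]
      · rw [f1 _ (hmm m n hmK hnK), f2 _ hmK, f2 _ hnK]
        calc φ ⟨m * n, _⟩ = φ (⟨m * h, hm m hmK⟩ * conjK h ⟨n * h, hm n hnK⟩) * (u * u) := by
              rw [hu2, mul_one]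
              congr 1
              apply Subtype.ext
              change m * n = m * h * (h * (n * h) * h⁻¹)
              rw [hinv]
              calc m * n = m * 1 * n * 1 := by group
                _ = m * (h * h) * n * (h * h) := by rw [hh2]
                _ = m * h * (h * (n * h) * h) := by group
          _ = φ ⟨m * h, hm m hmK⟩ * (φ (conjK h ⟨n * h, hm n hnK⟩) * u) * u := by rw [map_mul]; group
          _ = φ ⟨m * h, hm m hmK⟩ * u * (φ ⟨n * h, hm n hnK⟩ * u) := by rw [← hswap]; group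
  refine ⟨MonoidHom.mk' f fmul, fun k => ?_, ?_, fun m hmK => ⟨⟨m * h, hm m hmK⟩, f2 m hmK, ?_⟩⟩
  · exact f1 k k.2
  · change f h = u
    rw [f2 h hh]
    have h1 : (⟨h * h, hm h hh⟩ : K) = 1 := Subtype.ext hh2
    rw [h1, map_one, one_mul]
  · change m = m * h * h
    rw [mul_assoc, hh2, mul_one]

/-- **The centraliser of `t` in the case `|R| = 4`.** -/
theorem exists_psi {Γ : Type*} [Group Γ] [Finite Γ] {φ : K →* Γ} {r : Γ} (F : Four φ r) :
    ∃ ψ : H0 →* Γ, Function.Injective ψ ∧ (∀ k : K, ψ k = φ k) ∧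
      (∀ g, g * ψ τ = ψ τ * g → ∃ h, g = ψ h ∨ g = ψ h * r) ∧
      (∀ m, m ∉ K → r * ψ m * r⁻¹ = ψ (τ * m)) ∧ r * ψ gz * r⁻¹ = ψ (τ * gz) ∧
      (IsConj (ψ τ) (ψ gz) ∨ IsConj (ψ τ) (ψ d)) := by
  obtain ⟨g, h, hgc, hg, hh⟩ := exists_outer F
  have hrel := inverts_r F hgc hg hh
  set u : Γ := g * φ τ0 * g⁻¹ with hu
  have huu : u * u = 1 := by
    rw [hu]
    calc g * φ τ0 * g⁻¹ * (g * φ τ0 * g⁻¹) = g * (φ τ0 * φ τ0) * g⁻¹ := by group
      _ = 1 := by rw [t_sq]; group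
  have h1 : IsConj gz h ∨ IsConj d h := by
    have h2 : h * h = 1 ∨ h * h = τ := by
      have h3 := Acts.mul hg hg
      rw [huu] at h3
      have h4 : Acts φ (1 : Γ) (1 : H0) := by
        intro k
        rw [one_mul, inv_one, mul_one]
        congr 1
        apply Subtype.ext
        rw [coe_conjK]
        group
      rcases Acts.unique F.inj h4 h3 with h5 | h5
      · exact Or.inl h5
      · exact Or.inr (by rw [h5, one_mul])
    rw [← pow_two] at h2
    rcases sq_cases h2 with h3 | h3 | h3 | h3 | h3 | h3 | h3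
    · exact absurd (h3 ▸ K.one_mem) hh
    · exact absurd (h3 ▸ τ_mem_K) hh
    · exact absurd ((mem_K_of_isConj h3).1 a0.2) hh
    · exact absurd ((mem_K_of_isConj h3).1 aτ_mem_K) hh
    · exact absurd ((mem_K_of_isConj h3).1 gx_mem) hh
    · exact Or.inl h3
    · exact Or.inr h3
  have hh2 : h * h = 1 := by
    rcases h1 with h1 | h1
    · obtain ⟨c, rfl⟩ := isConj_iff.1 h1
      calc c * gz * c⁻¹ * (c * gz * c⁻¹) = c * (gz * gz) * c⁻¹ := by group
        _ = 1 := by rw [z_sq]; group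
    · obtain ⟨c, rfl⟩ := isConj_iff.1 h1
      calc c * d * c⁻¹ * (c * d * c⁻¹) = c * (d * d) * c⁻¹ := by group
        _ = 1 := by rw [d_sq]; group
  obtain ⟨ψ, hψ, hψh, hψm⟩ := exists_ext hh hh2 hg huu
  have hψτ : ψ τ = φ τ0 := hψ τ0
  have hnotin : ∀ k : K, u ≠ φ k := by
    intro k hk
    rw [hk] at hg
    exact hh ((mem_K_of_eq (Acts.unique F.inj (acts_of k) hg)).2 k.2)
  have hacts : ∀ m : H0, Acts φ (ψ m) m := by
    intro m
    by_cases hmK : m ∈ K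
    · have h2 : ψ m = φ ⟨m, hmK⟩ := hψ ⟨m, hmK⟩
      rw [h2]
      exact acts_of _
    · obtain ⟨k, hk, hmk⟩ := hψm m hmK
      rw [hk, hmk]
      exact Acts.mul (acts_of k) hg
  have hout : ∀ m, m ∉ K → r * ψ m * r⁻¹ = ψ (τ * m) := by
    intro m hmK
    obtain ⟨k, hk, hmk⟩ := hψm m hmK
    rw [map_mul, hψτ, hk]
    calc r * (φ k * u) * r⁻¹ = (r * φ k) * u * r⁻¹ := by group
      _ = (φ k * r) * u * r⁻¹ := by rw [F.hrc]
      _ = φ k * (r * u * r⁻¹) := by group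
      _ = φ k * (u * φ τ0) := by rw [hrel]
      _ = φ k * (φ τ0 * u) := by rw [hgc]
      _ = φ k * φ τ0 * u := by group
      _ = φ τ0 * (φ k * u) := by rw [t_comm]; group
  refine ⟨ψ, ?_, hψ, ?_, hout, hout gz gz_notMem_K, ?_⟩
  · rw [injective_iff_map_eq_one]
    intro m hm1
    by_cases hmK : m ∈ K
    · have h2 : φ ⟨m, hmK⟩ = 1 := (hψ ⟨m, hmK⟩).symm.trans hm1
      exact congrArg Subtype.val (F.inj (h2.trans (map_one φ).symm))
    · obtain ⟨k, hk, hmk⟩ := hψm m hmK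
      exfalso
      refine hnotin k⁻¹ ?_
      rw [map_inv]
      exact (inv_eq_of_mul_eq_one_right (hk.symm.trans hm1)).symm
  · intro x hx
    rw [hψτ] at hx
    obtain ⟨m, hm⟩ := F.hM x hx
    have h2 : (ψ m)⁻¹ * x ∈ zpowers r := by
      refine F.hR _ fun k => ?_
      have h3 : ψ m * φ k * (ψ m)⁻¹ = x * φ k * x⁻¹ := (hacts m k).trans (hm k).symm
      calc (ψ m)⁻¹ * x * φ k = (ψ m)⁻¹ * (x * φ k * x⁻¹) * x := by group
        _ = (ψ m)⁻¹ * (ψ m * φ k * (ψ m)⁻¹) * x := by rw [h3]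
        _ = φ k * ((ψ m)⁻¹ * x) := by group
    rcases four_cases F h2 with h3 | h3 | h3 | h3
    · exact ⟨m, Or.inl (inv_mul_eq_one.1 h3).symm⟩
    · exact ⟨m * τ, Or.inl (by rw [map_mul, hψτ]; exact inv_mul_eq_iff_eq_mul.1 h3)⟩
    · exact ⟨m, Or.inr (inv_mul_eq_iff_eq_mul.1 h3)⟩
    · refine ⟨m * τ, Or.inr ?_⟩
      rw [inv_mul_eq_iff_eq_mul.1 h3, map_mul, hψτ, F.hrc, mul_assoc]
  · have h2 : IsConj (ψ τ) (ψ h) := by
      rw [hψτ, hψh]
      exact isConj_iff.2 ⟨g, rfl⟩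
    rcases h1 with h1 | h1
    · exact Or.inl (h2.trans (ψ.map_isConj h1).symm)
    · exact Or.inr (h2.trans (ψ.map_isConj h1).symm)

end Cfsg.Agent.StandardComponent.HS.FourOuter
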