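import Cfsg.Agent.StandardComponent.HS.Ctx
import Cfsg.Agent.StandardComponent.HS.FourOuter

set_option autoImplicit false

/-!
S1752, the case `|R| = 4`: passage from `G` to `Γ = N_G(W)/W`, `W = O(C(φ K))`.
-/

namespace Cfsg.Agent.StandardComponent.HS

open Cfsg.Agent.HN.Pres Cfsg.Agent.HN.HS100 Cfsg.Agent.HN.H0Basic Cfsg.Agent.HN.FusK0 Cfsg.Agent.HN.Syl
open Cfsg.Agent.HN.Classes
open Cfsg.Agent.StandardComponent.HS.FourK0 Cfsg.Agent.StandardComponent.HS.Four

/-- The output of the pair analysis in the case `|R| = 4`. -/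
structure FourData {G : Type*} [Group G] (φ : K →* G) (W : Subgroup G) (r : G) : Prop where
  ctx : Ctx φ
  odd : Odd (Nat.card W)
  cen : ∀ w ∈ W, Cen φ w
  nrm : ∀ g, Commute (φ τ0) (g * φ τ0 * g⁻¹) → ∀ w ∈ W, g * w * g⁻¹ ∈ W
  rc : Cen φ r
  r2 : r * r = φ τ0
  hR : ∀ v, Cen φ v → ∃ w ∈ W, v = w ∨ v = w * φ τ0 ∨ v = w * r ∨ v = w * (r * φ τ0)
  ex : ∃ g, g * φ τ0 * g⁻¹ ≠ φ τ0 ∧ g * φ τ0 * g⁻¹ * φ τ0 = φ τ0 * (g * φ τ0 * g⁻¹)
  hb : ¬ IsConj (φ τ0) (φ b0)
  hx : ∀ s, Cen φ s → s * s = φ τ0 → ¬ IsConj (φ τ0) (s * φ x0)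

end Cfsg.Agent.StandardComponent.HS

namespace Cfsg.Agent.StandardComponent.HS.FourOf

open Cfsg.Agent.HN.Pres Cfsg.Agent.HN.HS100 Cfsg.Agent.HN.H0Basic Cfsg.Agent.HN.FusK0 Cfsg.Agent.HN.Syl
open Cfsg.Agent.HN.Classes
open Cfsg.Agent.StandardComponent.HS.FourK0 Cfsg.Agent.StandardComponent.HS.Four
open Subgroup

variable {G : Type*} [Group G] {φ : K →* G} {W : Subgroup G} {r : G}

theorem b0_sq : b0 * b0 = 1 := Subtype.ext (by
  have := aτ_sq
  rwa [pow_two] at this)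

theorem t_sq : φ τ0 * φ τ0 = 1 := by
  rw [← map_mul, (Subtype.ext τ_mul_τ : (τ0 : K) * τ0 = 1), map_one]

/-- an element of square one of a group of odd order -/
theorem eq_one_of_sq (hodd : Odd (Nat.card W)) {w : G} (hw : w ∈ W) (h2 : w * w = 1) : w = 1 := by
  have h1 : (⟨w, hw⟩ : W) ^ Nat.card W = 1 := pow_card_eq_one'
  obtain ⟨m, hm⟩ := hodd
  have h3 : w ^ (2 * m + 1) = 1 := by
    rw [← hm]; exact congrArg Subtype.val h1
  rw [pow_succ, pow_mul, pow_two, h2, one_pow, one_mul] at h3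
  exact h3

variable (D : FourData φ W r)
include D

theorem t_ne : φ τ0 ≠ 1 := fun h => τ_ne_one (congrArg Subtype.val (D.ctx.inj (h.trans (map_one φ).symm)))

/-- `W` meets `φ K` trivially -/
theorem eq_one_of_mem {k : K} (hk : φ k ∈ W) : k = 1 := by
  have h1 : ∀ l : K, (k : H0) * l = l * k := by
    intro l
    have h2 := D.cen _ hk l
    rw [← map_mul, ← map_mul] at h2
    exact congrArg Subtype.val (D.ctx.inj h2)
  rcases cent_K h1 with h2 | h2
  · exact Subtype.ext h2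
  · exfalso
    have h3 : k = τ0 := Subtype.ext h2
    rw [h3] at hk
    exact t_ne D (eq_one_of_sq D.odd hk t_sq)

theorem mem_normalizer [Finite G] {g : G} (hg : Commute (φ τ0) (g * φ τ0 * g⁻¹)) : g ∈ normalizer (W : Set G) := by
  have h1 : W.map (MulAut.conj g).toMonoidHom = W := by
    apply eq_of_le_of_card_ge
    · rintro _ ⟨w, hw, rfl⟩
      exact D.nrm g hg w hw
    · exact (Nat.card_congr (W.equivMapOfInjective _ (MulAut.conj g).injective).toEquiv).le
  rw [mem_normalizer_iff]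
  intro w
  constructor
  · intro hw
    exact D.nrm g hg w hw
  · intro hw
    have hw' : g * w * g⁻¹ ∈ W := hw
    rw [← h1] at hw'
    obtain ⟨v, hv, hvw⟩ := hw'
    have h2 : g * v * g⁻¹ = g * w * g⁻¹ := hvw
    have h3 : v = w := by
      have := mul_right_cancel h2
      exact mul_left_cancel this
    rwa [← h3]

theorem mem_of_comm [Finite G] {g : G} (hg : g * φ τ0 = φ τ0 * g) : g ∈ normalizer (W : Set G) := by
  apply mem_normalizer D
  have h1 : g * φ τ0 * g⁻¹ = φ τ0 := by rw [hg]; group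
  rw [h1]

theorem φ_mem [Finite G] (k : K) : φ k ∈ normalizer (W : Set G) := by
  refine mem_of_comm D ?_
  rw [← map_mul, ← map_mul]
  congr 1
  exact Subtype.ext (τ_comm (k : H0))

theorem r_mem [Finite G] : r ∈ normalizer (W : Set G) := mem_of_comm D (D.rc τ0)

omit D in
/-- modulo `W`, commuting with `t` -/
theorem conj_eq (hodd : Odd (Nat.card W)) {u x : G} (hu : u * u = 1) (hx : x * x = 1)
    (huW : ∀ w ∈ W, w * u = u * w) (h : u⁻¹ * x ∈ W) : x = u := by
  have hui : u⁻¹ = u := inv_eq_of_mul_eq_one_left hu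
  rw [hui] at h
  have h1 : (u * x) * (u * x) = 1 := by
    have h2 := huW _ h
    calc (u * x) * (u * x) = ((u * x) * u) * x := by group
      _ = (u * (u * x)) * x := by rw [h2]
      _ = (u * u) * (x * x) := by group
      _ = 1 := by rw [hu, hx, one_mul]
  have h3 := eq_one_of_sq hodd h h1
  calc x = (u * u) * x := by rw [hu, one_mul]
    _ = u * (u * x) := by group
    _ = u := by rw [h3, mul_one]

/-- **The quotient.** -/
theorem exists_four [Finite G] : ∃ (π : normalizer (W : Set G) →* (normalizer (W : Set G) ⧸ W.subgroupOf (normalizer (W : Set G))))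
    (φ' : K →* normalizer (W : Set G)) (r' : normalizer (W : Set G)),
    Function.Surjective π ∧ Odd (Nat.card π.ker) ∧ (∀ k, (φ' k : G) = φ k) ∧ (r' : G) = r ∧
    Four (π.comp φ') (π r') := by
  set N : Subgroup G := normalizer (W : Set G) with hN
  have hWN : W ≤ N := le_normalizer
  let φ' : K →* N := φ.codRestrict N (φ_mem D)
  let r' : N := ⟨r, r_mem D⟩
  let π : N →* N ⧸ W.subgroupOf N := QuotientGroup.mk' _
  have hker : ∀ n : N, π n = 1 ↔ (n : G) ∈ W := by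
    intro n
    rw [← MonoidHom.mem_ker, QuotientGroup.ker_mk']
    exact mem_subgroupOf
  have hsurj : Function.Surjective π := QuotientGroup.mk'_surjective _
  have hoddker : Odd (Nat.card π.ker) := by
    have h1 : π.ker = W.subgroupOf N := QuotientGroup.ker_mk' _
    rw [h1]
    have h2 : Nat.card (W.subgroupOf N) = Nat.card W := Nat.card_congr (subgroupOfEquivOfLe hWN).toEquiv
    rw [h2]
    exact D.odd
  have hWφ : ∀ w ∈ W, ∀ k, w * φ k = φ k * w := fun w hw k => D.cen w hw k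
  -- commuting modulo `W` with `t`
  have hcomm : ∀ n : N, π n * π (φ' τ0) = π (φ' τ0) * π n → (n : G) * φ τ0 = φ τ0 * n := by
    intro n hn
    have h1 : π ((φ' τ0)⁻¹ * (n * φ' τ0 * n⁻¹)) = 1 := by
      simp only [map_mul, map_inv]
      rw [hn]; group
    rw [hker] at h1
    have h2 : (φ τ0)⁻¹ * ((n : G) * φ τ0 * (n : G)⁻¹) ∈ W := h1
    have h3 := conj_eq D.odd (u := φ τ0) (x := (n : G) * φ τ0 * (n : G)⁻¹) t_sq (by
      calc (n : G) * φ τ0 * (n : G)⁻¹ * ((n : G) * φ τ0 * (n : G)⁻¹) = n * (φ τ0 * φ τ0) * (n : G)⁻¹ := by group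
        _ = 1 := by rw [t_sq]; group) (fun w hw => hWφ w hw τ0) h2
    calc (n : G) * φ τ0 = (n : G) * φ τ0 * (n : G)⁻¹ * n := by group
      _ = φ τ0 * n := by rw [h3]
  refine ⟨π, φ', r', hsurj, hoddker, fun k => rfl, rfl, ?_⟩
  refine
    { inj := ?_
      hr := ?_
      hrc := ?_
      hR := ?_
      hM := ?_
      hex := ?_
      hb := ?_
      hx := ?_ }
  · rw [injective_iff_map_eq_one]
    intro k hk
    exact eq_one_of_mem D ((hker (φ' k)).1 hk)
  · change π r' * π r' = π (φ' τ0)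
    rw [← map_mul]
    exact congrArg π (Subtype.ext D.r2)
  · intro k
    change π r' * π (φ' k) = π (φ' k) * π r'
    rw [← map_mul, ← map_mul]
    exact congrArg π (Subtype.ext (D.rc k))
  · intro g hg
    obtain ⟨n, rfl⟩ := hsurj g
    have h1 := hcomm n (hg τ0)
    obtain ⟨h, hh⟩ := D.ctx.act n h1
    have h2 : Cen φ (n : G) := by
      intro k
      have h3 : π ((φ' k)⁻¹ * (n * φ' k * n⁻¹)) = 1 := by
        simp only [map_mul, map_inv]
        have h4 : π n * π (φ' k) = π (φ' k) * π n := hg k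
        rw [h4]; group
      rw [hker] at h3
      have h4 : (φ k)⁻¹ * ((n : G) * φ k * (n : G)⁻¹) ∈ W := h3
      rw [hh k, ← map_inv, ← map_mul] at h4
      have h5 := eq_one_of_mem D h4
      have h6 : k = conjK h k := inv_mul_eq_one.1 h5
      calc (n : G) * φ k = ((n : G) * φ k * (n : G)⁻¹) * n := by group
        _ = φ k * n := by rw [hh k, ← h6]
    obtain ⟨w, hw, hv⟩ := D.hR n h2
    have hwN : w ∈ N := hWN hw
    have hπw : π ⟨w, hwN⟩ = 1 := (hker _).2 hw
    have hrt : r' * r' = φ' τ0 := Subtype.ext D.r2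
    have hmem : π r' ∈ zpowers (π r') := mem_zpowers _
    have hmemt : π (φ' τ0) ∈ zpowers (π r') := by
      rw [← hrt, map_mul]; exact mul_mem hmem hmem
    rcases hv with hv | hv | hv | hv
    · have h3 : n = ⟨w, hwN⟩ := Subtype.ext hv
      rw [h3, hπw]; exact one_mem _
    · have h3 : n = ⟨w, hwN⟩ * φ' τ0 := Subtype.ext hv
      rw [h3, map_mul, hπw, one_mul]; exact hmemt
    · have h3 : n = ⟨w, hwN⟩ * r' := Subtype.ext hv
      rw [h3, map_mul, hπw, one_mul]; exact hmem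
    · have h3 : n = ⟨w, hwN⟩ * (r' * φ' τ0) := Subtype.ext hv
      rw [h3, map_mul, hπw, one_mul, map_mul]; exact mul_mem hmem hmemt
  · intro g hg
    obtain ⟨n, rfl⟩ := hsurj g
    have h1 := hcomm n hg
    obtain ⟨h, hh⟩ := D.ctx.act n h1
    refine ⟨h, fun k => ?_⟩
    change π n * π (φ' k) * (π n)⁻¹ = π (φ' (conjK h k))
    rw [← map_mul, ← map_inv, ← map_mul]
    exact congrArg π (Subtype.ext (hh k))
  · obtain ⟨g, hg1, hg2⟩ := D.ex
    have hgN : g ∈ N := mem_normalizer D (Commute.symm (hg2 : Commute _ _))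
    refine ⟨π ⟨g, hgN⟩, ?_, ?_⟩
    · intro h
      apply hg1
      have h1 : π ((φ' τ0)⁻¹ * (⟨g, hgN⟩ * φ' τ0 * ⟨g, hgN⟩⁻¹)) = 1 := by
        have h2 : π ⟨g, hgN⟩ * π (φ' τ0) * (π ⟨g, hgN⟩)⁻¹ = π (φ' τ0) := h
        simp only [map_mul, map_inv]
        rw [h2]; group
      rw [hker] at h1
      exact conj_eq D.odd (u := φ τ0) (x := g * φ τ0 * g⁻¹) t_sq (by
        calc g * φ τ0 * g⁻¹ * (g * φ τ0 * g⁻¹) = g * (φ τ0 * φ τ0) * g⁻¹ := by group
          _ = 1 := by rw [t_sq]; group) (fun w hw => hWφ w hw τ0) h1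
    · change π ⟨g, hgN⟩ * π (φ' τ0) * (π ⟨g, hgN⟩)⁻¹ * π (φ' τ0) = π (φ' τ0) * (π ⟨g, hgN⟩ * π (φ' τ0) * (π ⟨g, hgN⟩)⁻¹)
      simp only [← map_mul, ← map_inv]
      exact congrArg π (Subtype.ext hg2)
  · intro hc
    apply D.hb
    obtain ⟨g, hg⟩ := isConj_iff.1 hc
    obtain ⟨n, rfl⟩ := hsurj g
    refine isConj_iff.2 ⟨n, ?_⟩
    have h1 : π ((φ' b0)⁻¹ * (n * φ' τ0 * n⁻¹)) = 1 := by
      have h2 : π n * π (φ' τ0) * (π n)⁻¹ = π (φ' b0) := hg
      simp only [map_mul, map_inv]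
      rw [h2]; group
    rw [hker] at h1
    exact conj_eq D.odd (u := φ b0) (x := n * φ τ0 * (n : G)⁻¹) (by rw [← map_mul, b0_sq, map_one]) (by
      calc (n : G) * φ τ0 * (n : G)⁻¹ * ((n : G) * φ τ0 * (n : G)⁻¹) = n * (φ τ0 * φ τ0) * (n : G)⁻¹ := by group
        _ = 1 := by rw [t_sq]; group) (fun w hw => hWφ w hw b0) h1
  · intro hc
    obtain ⟨g, hg⟩ := isConj_iff.1 hc
    obtain ⟨n, rfl⟩ := hsurj g
    have h1 : π ((r' * φ' x0)⁻¹ * (n * φ' τ0 * n⁻¹)) = 1 := by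
      have h2 : π n * π (φ' τ0) * (π n)⁻¹ = π r' * π (φ' x0) := hg
      simp only [map_mul, map_inv]
      rw [h2]; group
    rw [hker] at h1
    have h3 : (r * φ x0)⁻¹ * ((n : G) * φ τ0 * (n : G)⁻¹) ∈ W := h1
    set w : G := (r * φ x0)⁻¹ * ((n : G) * φ τ0 * (n : G)⁻¹) with hw
    have e1 : (n : G) * φ τ0 * (n : G)⁻¹ = (r * w) * φ x0 := by
      calc (n : G) * φ τ0 * (n : G)⁻¹ = r * (φ x0 * w) := by rw [hw]; group
        _ = r * (w * φ x0) := by rw [hWφ w h3]
        _ = (r * w) * φ x0 := by group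
    have hs : Cen φ (r * w) := D.rc.mul (D.cen w h3)
    have e2 : (r * w) * (r * w) = φ τ0 := by
      have e3 : (r * w * φ x0) * (r * w * φ x0) = 1 := by
        rw [← e1]
        calc (n : G) * φ τ0 * (n : G)⁻¹ * ((n : G) * φ τ0 * (n : G)⁻¹) = n * (φ τ0 * φ τ0) * (n : G)⁻¹ := by group
          _ = 1 := by rw [t_sq]; group
      have e4 : (r * w) * (r * w) * (φ x0 * φ x0) = 1 := by
        rw [← e3]
        calc (r * w) * (r * w) * (φ x0 * φ x0) = (r * w) * ((r * w) * φ x0) * φ x0 := by group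
          _ = (r * w) * (φ x0 * (r * w)) * φ x0 := by rw [hs]
          _ = (r * w * φ x0) * (r * w * φ x0) := by group
      rw [← map_mul, x0_sq] at e4
      calc (r * w) * (r * w) = (r * w) * (r * w) * (φ τ0 * φ τ0) := by rw [t_sq, mul_one]
        _ = ((r * w) * (r * w) * φ τ0) * φ τ0 := by group
        _ = φ τ0 := by rw [e4, one_mul]
    exact D.hx (r * w) hs e2 (isConj_iff.2 ⟨n, e1⟩)

end Cfsg.Agent.StandardComponent.HS.FourOf
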