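import Cfsg.Agent.StandardComponent.HS.SixFinal
import Cfsg.Agent.StandardComponent.HS.FourOf

/-!
# S1752, the case `|R| = 4` is impossible, at the level of `G`
-/

set_option autoImplicit false

namespace Cfsg.Agent.StandardComponent.HS.FourFalse

open Cfsg.Agent.HN.Pres Cfsg.Agent.HN.HS100 Cfsg.Agent.HN.FusK0

/-- **The case `|R| = 4` is impossible** in a group without non-trivial homomorphisms to `{±1}`. -/
theorem false' {G : Type*} [Group G] [Finite G] (hG : ∀ (f : G →* ℤˣ) (u : G), f u = 1) {φ : K →* G}
    {W : Subgroup G} {r : G} (D : FourData φ W r) : False := by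
  obtain ⟨π, φ', r', hsurj, hodd, hφ', -, F⟩ := FourOf.exists_four D
  refine SixFinal.false_of_four hG π hsurj hodd (t := φ τ0) (FourOf.mem_of_comm D rfl) FourOf.t_sq (FourOf.t_ne D)
    (fun g hg => FourOf.mem_of_comm D hg) F ?_
  show _ = π (φ' τ0)
  congr 1
  exact Subtype.ext (hφ' τ0).symm

/-- **The case `|R| = 4` is impossible** in a non-abelian simple group. -/
theorem false {G : Type*} [Group G] [Finite G] [IsSimpleGroup G] (hG : ¬ IsMulCommutative G) {φ : K →* G}
    {W : Subgroup G} {r : G} (D : FourData φ W r) : False :=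
  false' (fun f u => SixFinal.hom_units hG f u) D

end Cfsg.Agent.StandardComponent.HS.FourFalse
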