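import Cfsg.Agent.StandardComponent.HS.PairE
import Cfsg.Agent.HN.FactO

set_option autoImplicit false

/-!
S1752, step 4: the elements of odd order of `C(L)` centralise `L'`, for a pair with `t' ∈ L` and `t ∈ L'`.
-/

namespace Cfsg.Agent.StandardComponent.HS.PairA

open Cfsg.Agent.HN.Pres Cfsg.Agent.HN.HS100 Cfsg.Agent.HN.P1408 Cfsg.Agent.HN.H0Basic
open Cfsg.Agent.HN.Syl Cfsg.Agent.HN.Classes Cfsg.Agent.HN.FusGen Cfsg.Agent.HN.FusOne
open Cfsg.Agent.HN.FusK0
open Cfsg.Agent.StandardComponent.HS.FourK0 Cfsg.Agent.StandardComponent.HS.Four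
open Cfsg.Agent.StandardComponent.HS.FourOuter
open Cfsg.Agent.HN Cfsg.Agent.HN.FactFA
open Subgroup

variable {G : Type*} [Group G] {φ φ' : K →* G}

/-- `L' ∩ C(L)` -/
def FF (φ φ' : K →* G) : Subgroup K where
  carrier := {f | Cen φ (φ' f)}
  mul_mem' := by
    intro f g hf hg
    change Cen φ (φ' (f * g))
    rw [map_mul]
    exact Cen.mul hf hg
  one_mem' := by
    change Cen φ (φ' 1)
    rw [map_one]
    exact cen_one
  inv_mem' := by
    intro f hf
    change Cen φ (φ' f⁻¹)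
    rw [map_inv]
    exact Cen.inv hf

theorem mem_FF {f : K} : f ∈ FF φ φ' ↔ Cen φ (φ' f) := Iff.rfl

/-- `C_K(a)` -/
def CA : Subgroup K := (centralizer {a} : Subgroup H0).subgroupOf K

theorem mem_CA {c : K} : c ∈ CA ↔ (c : H0) * a = a * c := by
  rw [CA, mem_subgroupOf, mem_centralizer_singleton_iff]

theorem card_CA : Nat.card CA = 15360 := by
  rw [← FactF4.card_centralizer_a_inf, CA, ← inf_subgroupOf_right]
  exact Nat.card_congr (subgroupOfEquivOfLe inf_le_right).toEquiv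

/-- the data of (FO3) and (FO5) -/
def FO (p : ℕ) : Prop := ∃ p1 ∈ K, ∃ p2 ∈ K, p1 * a = a * p1 ∧ p2 * a = a * p2 ∧ p1 ^ p = 1 ∧ p2 ^ p = 1 ∧
    (p1 * p2) ^ 2 = 1 ∧ p1 * p2 ≠ 1 ∧ p1 * p2 ≠ τ ∧ p1 * p2 ≠ a ∧ p1 * p2 ≠ a * τ

namespace AP

variable {e : K} (P : AP φ φ' e)

include P

theorem FF_le : FF φ φ' ≤ CA := by
  intro f hf
  rw [mem_CA, ← P.e_comm_iff]
  have h1 : φ' f * φ τ0 = φ τ0 * φ' f := hf τ0
  rw [P.ht, ← map_mul, ← map_mul] at h1
  exact P.two.std'.inj h1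

theorem FF_conj {c f : K} (hc : c ∈ CA) (hf : f ∈ FF φ φ') : c * f * c⁻¹ ∈ FF φ φ' := by
  rw [mem_CA, ← P.e_comm_iff] at hc
  rw [mem_FF, map_mul, map_mul, map_inv]
  refine P.two.std.cen_conj ?_ hf
  rw [P.ht, ← map_mul, hc, map_mul]

/-- no elements of order `p` -/
theorem no_prime {p m : ℕ} [hp : Fact p.Prime] (hc : 15360 = p * m) (hm : ¬ p ∣ m) (hp2 : p ≠ 2) (H : FO p) {f : K}
    (hf : f ∈ FF φ φ') : orderOf f ≠ p := by
  intro hfo
  obtain ⟨p1, h1, p2, h2, c1, c2, q1, q2, h12, n1, n2, n3, n4⟩ := H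
  have hsq : ∀ x : H0, x ^ p = 1 → x ^ 2 = 1 → x = 1 := by
    intro x hx hx2
    have h3 : orderOf x ∣ p := orderOf_dvd_of_pow_eq_one hx
    have h4 : orderOf x ∣ 2 := orderOf_dvd_of_pow_eq_one hx2
    have h5 : orderOf x ∣ 1 := by
      rw [← (Nat.coprime_primes hp.out Nat.prime_two).2 hp2]
      exact Nat.dvd_gcd h3 h4
    exact orderOf_eq_one_iff.1 (Nat.dvd_one.1 h5)
  have m1 : p1 ≠ 1 := by
    intro e1
    rw [e1, one_mul] at h12 n1
    exact n1 (hsq _ q2 h12)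
  have m2 : p2 ≠ 1 := by
    intro e1
    rw [e1, mul_one] at h12 n1
    exact n1 (hsq _ q1 h12)
  have key : ∀ x : K, (x : H0) * a = a * x → (x : H0) ^ p = 1 → (x : H0) ≠ 1 → x ∈ FF φ φ' := by
    intro x hx hxp hx1
    have ho : orderOf (⟨x, mem_CA.2 hx⟩ : CA) = p := by
      apply orderOf_eq_prime
      · exact Subtype.ext (Subtype.ext hxp)
      · intro e1
        exact hx1 (congrArg (fun y : CA => ((y : K) : H0)) e1)
    have ho' : orderOf (⟨f, P.FF_le hf⟩ : CA) = p := by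
      rw [Subgroup.orderOf_mk]; exact hfo
    obtain ⟨c, n, hcn⟩ := FactO.exists_conj_pow (C := CA) (card_CA.trans hc) hm ho' ho
    have e1 : x = (c : K) * f ^ n * (c : K)⁻¹ := congrArg Subtype.val hcn
    rw [e1]
    exact P.FF_conj c.2 ((FF φ φ').pow_mem hf n)
  have k1 := key ⟨p1, h1⟩ c1 q1 m1
  have k2 := key ⟨p2, h2⟩ c2 q2 m2
  have k3 := P.small (f := ⟨p1, h1⟩ * ⟨p2, h2⟩) ((FF φ φ').mul_mem k1 k2) (Or.inl (Subtype.ext (by
    rw [pow_two] at h12
    exact h12)))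
  rcases k3 with k3 | k3
  · exact n1 (congrArg Subtype.val k3)
  · have k4 : p1 * p2 = (e : H0) := congrArg Subtype.val k3
    rcases P.he with he | he
    · exact n3 (k4.trans he)
    · exact n4 (k4.trans he)

/-- `L' ∩ C(L)` is a 2-group -/
theorem pow_two_of_mem {f : K} (hf : f ∈ FF φ φ') : f ^ 2 ^ 10 = 1 := by
  have h1 : orderOf f ∣ 15360 := by
    rw [← card_CA, ← Subgroup.orderOf_mk f (P.FF_le hf)]
    exact orderOf_dvd_natCard _
  have key : ∀ {p m : ℕ}, p.Prime → 15360 = p * m → ¬ p ∣ m → p ≠ 2 → FO p → ¬ p ∣ orderOf f := by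
    intro p m hp hc hm hp2 H hpf
    have : Fact p.Prime := ⟨hp⟩
    refine P.no_prime hc hm hp2 H ((FF φ φ').pow_mem hf (orderOf f / p)) ?_
    have h0 : orderOf f ≠ 0 := by
      intro h0
      rw [h0] at h1
      exact absurd (Nat.eq_zero_of_zero_dvd h1) (by norm_num)
    exact orderOf_pow_orderOf_div h0 hpf
  have h3 := key (p := 3) (m := 5120) Nat.prime_three (by norm_num) (by norm_num) (by norm_num) FactPair.FO3
  have h5 := key (p := 5) (m := 3072) (by norm_num) (by norm_num) (by norm_num) (by norm_num) FactPair.FO5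
  have c3 : (orderOf f).Coprime 3 := ((Nat.Prime.coprime_iff_not_dvd Nat.prime_three).2 h3).symm
  have c5 : (orderOf f).Coprime 5 := ((Nat.Prime.coprime_iff_not_dvd (by norm_num)).2 h5).symm
  have h6 : orderOf f ∣ 2 ^ 10 * 15 := by norm_num; exact h1
  have h7 : (orderOf f).Coprime 15 := by
    rw [show (15 : ℕ) = 3 * 5 by norm_num]
    exact Nat.Coprime.mul_right c3 c5
  exact orderOf_dvd_iff_pow_eq_one.1 (h7.dvd_of_dvd_mul_right h6)

/-- the elements of `L' ∩ C(L)` -/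
theorem FF_cases {f : K} (hf : f ∈ FF φ φ') : (f : H0) = 1 ∨ (f : H0) = e ∨ (f : H0) = u0 ∨ (f : H0) = u0⁻¹ ∨
    (f : H0) = u0 * τ ∨ (f : H0) = u0⁻¹ * τ := by
  have h1 := P.pow_two_of_mem hf
  rcases P.two_elt (v := φ' f) hf (k := 10) (by rw [← map_pow, h1, map_one]) with h2 | h2 | h2
  · left
    rw [P.two.std'.inj (h2.trans (map_one φ').symm)]
    rfl
  · right; left
    rw [P.two.std'.inj (h2.trans P.ht)]
  · right; right
    exact (P.acts_four hf h2 (acts_of f)).1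

theorem card_FF : Nat.card (FF φ φ') ≤ 6 := by
  classical
  have h1 : Nat.card (FF φ φ') ≤ Nat.card (({(1 : H0), (e : H0), u0, u0⁻¹, u0 * τ, u0⁻¹ * τ} : Finset H0)) := by
    refine Nat.card_le_card_of_injective (fun f => ⟨((f : K) : H0), ?_⟩) ?_
    · simp only [Finset.mem_insert, Finset.mem_singleton]
      exact P.FF_cases f.2
    · intro f g hfg
      have h2 := congrArg Subtype.val hfg
      exact Subtype.ext (Subtype.ext h2)
  refine h1.trans ?_
  rw [Nat.card_eq_fintype_card, Fintype.card_coe]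
  exact Finset.card_le_six

end AP

theorem acts_pow {v : G} {h : H0} (H : Acts φ v h) (n : ℕ) : Acts φ (v ^ n) (h ^ n) := by
  induction n with
  | zero => rw [pow_zero, pow_zero]; exact acts_one cen_one
  | succ n ih => rw [pow_succ, pow_succ]; exact ih.mul H

/-- An element of odd order acts as an element of odd order. -/
theorem acts_odd (hφ : Function.Injective φ) {v : G} {h : H0} (H : Acts φ v h) (hv : Odd (orderOf v)) :
    ∃ h' : H0, Acts φ v h' ∧ Odd (orderOf h') := by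
  have h1 := acts_pow H (orderOf v)
  rw [pow_orderOf_eq_one] at h1
  have h2 := Acts.unique hφ (acts_one cen_one) h1
  rw [one_mul] at h2
  rcases h2 with h2 | h2
  · exact ⟨h, H, Odd.of_dvd_nat hv (orderOf_dvd_of_pow_eq_one h2)⟩
  · refine ⟨h * τ, Acts.mul_τ H, Odd.of_dvd_nat hv (orderOf_dvd_of_pow_eq_one ?_)⟩
    have hc : Commute h τ := τ_comm h
    rw [hc.mul_pow, h2]
    obtain ⟨m, hm⟩ := hv
    rw [hm, pow_succ, pow_mul, pow_two, τ_mul_τ, one_pow, one_mul, τ_mul_τ]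

/-- **(I)** the elements of odd order of `C(L)` centralise `L'`. -/
theorem AP.odd_cen {e : K} (P : AP φ φ' e) {v : G} (hv : v ∈ Wset φ) : Cen φ' v := by
  obtain ⟨h0, hh0⟩ := P.two.std'.acts v (P.comm_t' hv.1)
  obtain ⟨h, hh, hodd⟩ := acts_odd P.two.std'.inj hh0 hv.2
  have hhe : h * (e : H0) = e * h := by
    have h1 : v * φ' e = φ' e * v := by
      rw [← P.ht]; exact hv.1 τ0
    exact (Acts.comm_iff P.two.std'.inj hh e).1 h1
  have hha : h * a = a * h := by
    rcases P.he with he | he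
    · rwa [he] at hhe
    · rw [he] at hhe
      have h2 : h * a * τ = a * h * τ := by
        rw [mul_assoc, hhe, mul_assoc, mul_assoc, ← τ_comm]
      exact mul_right_cancel h2
  -- the centraliser of `h` in `C_K(a)`
  let S : Subgroup CA := ((centralizer {h} : Subgroup H0).subgroupOf K).subgroupOf CA
  have memS : ∀ c : CA, c ∈ S ↔ ((c : K) : H0) * h = h * ((c : K) : H0) := fun c => by
    rw [mem_subgroupOf, mem_subgroupOf, mem_centralizer_singleton_iff]
  let f : CA → FF φ φ' := fun c => ⟨conjK h c * (c : K)⁻¹, P.comm_mem hv.1 hh (P.e_comm_iff.2 (mem_CA.1 c.2))⟩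
  have hidx : S.index ≤ 6 := by
    refine le_trans ?_ P.card_FF
    refine Nat.card_le_card_of_injective (fun q : CA ⧸ S => f q.out) ?_
    intro q q' hqq
    have h1 : h * ((q.out : K) : H0) * h⁻¹ * ((q.out : K) : H0)⁻¹ = h * ((q'.out : K) : H0) * h⁻¹ * ((q'.out : K) : H0)⁻¹ :=
      congrArg (fun x : FF φ φ' => ((x : K) : H0)) hqq
    have h2 : (q.out)⁻¹ * q'.out ∈ S := by
      rw [memS]
      change ((q.out : K) : H0)⁻¹ * ((q'.out : K) : H0) * h = h * (((q.out : K) : H0)⁻¹ * ((q'.out : K) : H0))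
      generalize ((q.out : K) : H0) = x at h1 ⊢
      generalize ((q'.out : K) : H0) = y at h1 ⊢
      have h3 : x * h⁻¹ * x⁻¹ = y * h⁻¹ * y⁻¹ := by
        apply mul_left_cancel (a := h)
        rw [← mul_assoc, ← mul_assoc, ← mul_assoc, ← mul_assoc]
        exact h1
      have h4 : x⁻¹ * y * h⁻¹ = h⁻¹ * (x⁻¹ * y) := by
        calc x⁻¹ * y * h⁻¹ = x⁻¹ * (y * h⁻¹ * y⁻¹) * y := by group
          _ = x⁻¹ * (x * h⁻¹ * x⁻¹) * y := by rw [h3]
          _ = h⁻¹ * (x⁻¹ * y) := by group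
      calc x⁻¹ * y * h = h * (h⁻¹ * (x⁻¹ * y)) * h := by group
        _ = h * (x⁻¹ * y * h⁻¹) * h := by rw [h4]
        _ = h * (x⁻¹ * y) := by group
    rw [← q.out_eq', ← q'.out_eq']
    exact QuotientGroup.eq.2 h2
  have hcard : 2000 < Nat.card S := by
    have h1 := S.card_mul_index
    rw [card_CA] at h1
    by_contra hle
    have h2 : Nat.card S * S.index ≤ 2000 * 6 := Nat.mul_le_mul (not_lt.1 hle) hidx
    rw [h1] at h2
    norm_num at h2
  have hB : Nat.card ((S.map CA.subtype).map K.subtype) = Nat.card S := by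
    rw [← Nat.card_congr ((S.map CA.subtype).equivMapOfInjective K.subtype K.subtype_injective).toEquiv,
      ← Nat.card_congr (S.equivMapOfInjective CA.subtype CA.subtype_injective).toEquiv]
  have hh1 : h = 1 := by
    refine FactO.odd_comm hodd hha (B := (S.map CA.subtype).map K.subtype) ?_ (by rw [hB]; exact hcard)
    rintro _ ⟨_, ⟨c, hc, rfl⟩, rfl⟩
    rw [← map_mul, ← map_mul]
    congr 1
    exact (memS c).1 hc
  exact cen_of_acts hh (Or.inl hh1)

/-- **(I)** for all pairs with `t' ∈ L` and `t ∈ L'`. -/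
theorem odd_cen {φ₁ φ₂ : K →* G} (T : Two φ₁ φ₂) (h : ∃ k, φ₂ τ0 = φ₁ k) (h' : ∃ k, φ₁ τ0 = φ₂ k) :
    ∀ w ∈ Wset φ₁, Cen φ₂ w := by
  intro w hw
  obtain ⟨k, hk⟩ := h'
  have hk2 : k * k = 1 := T.std'.inj (by rw [map_mul, map_one, ← hk, t_sq])
  obtain ⟨l, hl⟩ := h
  have key : ∀ (e c : K), ((e : H0) = a ∨ (e : H0) = a * τ) → c * e * c⁻¹ = k → Cen φ₂ w := by
    intro e c he hc
    have hg : φ₂ c⁻¹ * φ₂ τ0 = φ₂ τ0 * φ₂ c⁻¹ := t_comm _
    have T' := T.symm.conj_right hg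
    have P : AP (conjHom φ₁ (φ₂ c⁻¹)) φ₂ e :=
      { two := T'.symm
        he := he
        ht := by
          rw [conjHom_apply, hk, ← hc, ← map_inv, ← map_mul, ← map_mul]
          congr 1
          group
        ht' := ⟨l, by rw [conjHom_apply, ← hl, hg, mul_assoc, mul_inv_cancel, mul_one]⟩ }
    have h1 := P.odd_cen ((mem_Wset_conjHom (g := φ₂ c⁻¹)).2 hw)
    have h2 := T.std'.cen_conj (g := φ₂ c) (t_comm c) h1
    have h3 : φ₂ c * (φ₂ c⁻¹ * w * (φ₂ c⁻¹)⁻¹) * (φ₂ c)⁻¹ = w := by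
      rw [map_inv]; group
    rwa [h3] at h2
  rcases cases_K hk2 with h3 | h3 | h3 | h3
  · exfalso
    rw [h3, map_one] at hk
    exact T.t_ne hk
  · exfalso
    rw [h3] at hk
    exact T.ne hk.symm
  · obtain ⟨c, hc⟩ := isConj_iff.1 h3
    exact key a0 c (Or.inl rfl) hc
  · obtain ⟨c, hc⟩ := isConj_iff.1 h3
    exact key b0 c (Or.inr rfl) hc

end Cfsg.Agent.StandardComponent.HS.PairA
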