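import Cfsg.Agent.StandardComponent.HS.FourK0

set_option autoImplicit false

/-!
S1752, the case `|R| = 4`: the interface.
-/

namespace Cfsg.Agent.StandardComponent.HS.Four

open Cfsg.Agent.HN.Pres Cfsg.Agent.HN.HS100 Cfsg.Agent.HN.H0Basic
open Cfsg.Agent.HN.FusK0
open Cfsg.Agent.StandardComponent.HS.FourK0

/-- conjugation of `K` by an element of `H0` -/
def conjK (h : H0) : K →* K where
  toFun k := ⟨h * k * h⁻¹, (inferInstance : (K : Subgroup H0).Normal).conj_mem k k.2 h⟩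
  map_one' := Subtype.ext (by simp)
  map_mul' k l := Subtype.ext (by
    change h * ((k : H0) * l) * h⁻¹ = h * k * h⁻¹ * (h * l * h⁻¹)
    group)

theorem coe_conjK (h : H0) (k : K) : (conjK h k : H0) = h * k * h⁻¹ := rfl

end Cfsg.Agent.StandardComponent.HS.Four

namespace Cfsg.Agent.StandardComponent.HS

open Cfsg.Agent.HN.Pres Cfsg.Agent.HN.HS100 Cfsg.Agent.HN.FusK0
open Cfsg.Agent.StandardComponent.HS.FourK0 Cfsg.Agent.StandardComponent.HS.Four

/-- `C(φ K) = ⟨r⟩` is cyclic of order 4 and the centraliser of `t = φ τ` acts on `φ K` as a subgroup of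
`H0`; `t` is not isolated, and it is fused neither to `b = a t` nor to `r x`. -/
structure Four {Γ : Type*} [Group Γ] (φ : K →* Γ) (r : Γ) : Prop where
  inj : Function.Injective φ
  hr : r * r = φ τ0
  hrc : ∀ k, r * φ k = φ k * r
  hR : ∀ g, (∀ k, g * φ k = φ k * g) → g ∈ Subgroup.zpowers r
  hM : ∀ g, g * φ τ0 = φ τ0 * g → ∃ h : H0, ∀ k : K, g * φ k * g⁻¹ = φ (conjK h k)
  hex : ∃ g, g * φ τ0 * g⁻¹ ≠ φ τ0 ∧ g * φ τ0 * g⁻¹ * φ τ0 = φ τ0 * (g * φ τ0 * g⁻¹)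
  hb : ¬ IsConj (φ τ0) (φ b0)
  hx : ¬ IsConj (φ τ0) (r * φ x0)

end Cfsg.Agent.StandardComponent.HS
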