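import Cfsg.Agent.HN.CoverUnique
import Cfsg.Agent.StandardComponent.StdCtx
import Cfsg.Agent.StandardComponent.HS.Four

/-!
# S1752: a standard subgroup `L` with `|Z(L)| = 2`, `L / Z(L) = HS` as the image of `K = 2.HS`
-/

set_option autoImplicit false

namespace Cfsg.Agent.StandardComponent.HS.StdPhi

open Cfsg.Agent.HN Cfsg.Agent.HN.Pres Cfsg.Agent.HN.HS100 Cfsg.Agent.HN.H0Basic Cfsg.Agent.HN.FusK0 Subgroup
open Cfsg.Agent.StandardComponent.StdCtx Cfsg.Agent.StandardComponent.HS.Four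

universe u

/-- the center of `K` is `⟨τ⟩`. -/
theorem eq_τ0_of_central {k : K} (hk : ∀ l : K, l * k = k * l) : k = 1 ∨ k = τ0 := by
  have h1 : (k : H0) = 1 ∨ (k : H0) = τ := by
    rw [← φ_eq_one_iff]
    apply NormalH.eq_one_of_commute_Q
    rintro q ⟨l, hl, rfl⟩
    rw [← map_mul, ← map_mul]
    exact congrArg φ (congrArg Subtype.val (hk ⟨l, hl⟩))
  rcases h1 with h1 | h1
  · exact Or.inl (Subtype.ext h1)
  · exact Or.inr (Subtype.ext h1)

theorem τ0_central (k : K) : k * τ0 = τ0 * k := Subtype.ext (τ_comm _)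

theorem τ0_ne : (τ0 : K) ≠ 1 := fun h => τ_ne_one (congrArg Subtype.val h)

theorem τ0_sq : (τ0 : K) * τ0 = 1 := Subtype.ext τ_mul_τ

/-- **The standard subgroup as the image of `K`.** -/
theorem exists_phi {G : Type u} [Group G] [Finite G] {L : Subgroup G} (hL : Cfsg.IsStandardSubgroup L)
    (hZ : Nat.card (center L) = 2) (hX : Nonempty (L ⧸ center L ≃* Cfsg.Spor.HS)) :
    ∃ φ : K →* G, Function.Injective φ ∧ φ.range = L ∧
      (∀ g, g ∈ normalizer (L : Set G) ↔ g * φ τ0 = φ τ0 * g) ∧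
      (∀ g, g ∈ centralizer (L : Set G) ↔ ∀ k, g * φ k = φ k * g) ∧
      (∀ g, g * φ τ0 = φ τ0 * g → ∃ h : H0, ∀ k : K, g * φ k * g⁻¹ = φ (conjK h k)) ∧
      (∀ v, (∀ k, v * φ k = φ k * v) → v * v = 1 → v ≠ 1 → ∀ g, g * v = v * g → g * φ τ0 = φ τ0 * g) ∧
      (∀ g, g * φ τ0 ≠ φ τ0 * g → ∀ D : Subgroup G, (∀ x ∈ D, ∀ k, x * φ k = φ k * x) →
        (∀ x ∈ D, ∀ k, x * (g * φ k * g⁻¹) = (g * φ k * g⁻¹) * x) → Odd (Nat.card D)) := by
  obtain ⟨e0⟩ := hX
  have hcov : Cfsg.IsNonsplitDoubleCover L Cfsg.Spor.HS := nonsplit hL.1.1 hZ e0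
  obtain ⟨e⟩ := CoverUnique.equiv_K hcov
  let φ' : K →* G := L.subtype.comp e.symm.toMonoidHom
  have hφ : ∀ k : K, φ' k = ((e.symm k : L) : G) := fun k => rfl
  have hinj : Function.Injective φ' := fun a b h => e.symm.injective (Subtype.ext h)
  have hrange : φ'.range = L := by
    ext x
    constructor
    · rintro ⟨k, rfl⟩
      exact (e.symm k).2
    · intro hx
      exact ⟨e ⟨x, hx⟩, by rw [hφ, e.symm_apply_apply]⟩
  have memL : ∀ k, φ' k ∈ L := fun k => (e.symm k).2
  have exL : ∀ x ∈ L, ∃ k, φ' k = x := by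
    intro x hx
    rw [← hrange] at hx
    exact hx
  have hcent : ∀ g, g ∈ centralizer (L : Set G) ↔ ∀ k, g * φ' k = φ' k * g := by
    intro g
    rw [mem_centralizer_iff]
    constructor
    · intro h k
      exact (h _ (memL k)).symm
    · intro h x hx
      obtain ⟨k, rfl⟩ := exL x hx
      exact (h k).symm
  have htc : φ' τ0 ∈ centralizer (L : Set G) := by
    rw [hcent]
    intro k
    rw [← map_mul, ← map_mul, τ0_central]
  have ht1 : φ' τ0 ≠ 1 := fun h => τ0_ne (hinj (h.trans (map_one φ').symm))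
  have ht2 : φ' τ0 * φ' τ0 = 1 := by rw [← map_mul, τ0_sq, map_one]
  have hN : ∀ g, g ∈ normalizer (L : Set G) ↔ g * φ' τ0 = φ' τ0 * g := by
    intro g
    constructor
    · intro hg
      have h1 : g * φ' τ0 * g⁻¹ ∈ L := (mem_normalizer_iff.1 hg _).1 (memL τ0)
      obtain ⟨k, hk⟩ := exL _ h1
      have h2 : ∀ l : K, l * k = k * l := by
        intro l
        apply hinj
        rw [map_mul, map_mul, hk]
        have h3 : g⁻¹ * φ' l * g ∈ L := by
          have h4 := (mem_normalizer_iff.1 ((normalizer (L : Set G)).inv_mem hg) _).1 (memL l)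
          rwa [inv_inv] at h4
        have h4 := (mem_centralizer_iff.1 htc) _ h3
        calc φ' l * (g * φ' τ0 * g⁻¹) = g * ((g⁻¹ * φ' l * g) * φ' τ0) * g⁻¹ := by group
          _ = g * (φ' τ0 * (g⁻¹ * φ' l * g)) * g⁻¹ := by rw [h4]
          _ = g * φ' τ0 * g⁻¹ * φ' l := by group
      rcases eq_τ0_of_central h2 with rfl | rfl
      · exfalso
        rw [map_one] at hk
        exact ht1 (conj_eq_one_iff.1 hk.symm)
      · rw [eq_comm, mul_inv_eq_iff_eq_mul] at hk
        exact hk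
    · intro hg
      exact (Cfsg.Agent.S1754.result L hL _ (orderOf_two ht1 ht2) htc).1
        (mem_centralizer_singleton_iff.2 hg)
  refine ⟨φ', hinj, hrange, hN, hcent, ?_, ?_, ?_⟩
  · intro g hg
    have hgN := (hN g).2 hg
    have hgN' := (normalizer (L : Set G)).inv_mem hgN
    -- the automorphism of `K` induced by `g`
    have h1 : ∀ k, ∃ l, φ' l = g * φ' k * g⁻¹ := fun k => exL _ ((mem_normalizer_iff.1 hgN _).1 (memL k))
    have h2 : ∀ k, ∃ l, φ' l = g⁻¹ * φ' k * g := fun k => exL _ (by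
      have h3 := (mem_normalizer_iff.1 hgN' _).1 (memL k)
      rwa [inv_inv] at h3)
    choose s hs using h1
    choose s' hs' using h2
    let σ : K ≃* K :=
      { toFun := s
        invFun := s'
        left_inv := fun k => hinj (by rw [hs', hs]; group)
        right_inv := fun k => hinj (by rw [hs, hs']; group)
        map_mul' := fun a b => hinj (by rw [hs, map_mul, map_mul, hs, hs]; group) }
    obtain ⟨h, hh⟩ := CoverUnique.exists_conj σ
    refine ⟨h, fun k => ?_⟩
    rw [← hs]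
    congr 1
    exact Subtype.ext (hh k)
  · intro v hv hv2 hv1 g hg
    rw [← hN]
    exact (Cfsg.Agent.S1754.result L hL v (orderOf_two hv1 hv2) ((hcent v).2 hv)).1
      (mem_centralizer_singleton_iff.2 hg)
  · intro g hg D hD hD'
    have h1 := hL.2.1.2 g (fun h => hg ((hN g).1 (by rw [hL.2.2.2]; exact h)))
    refine Odd.of_dvd_nat h1 (Subgroup.card_dvd_of_le ?_)
    intro x hx
    refine ⟨(hcent x).2 (hD x hx), ⟨g⁻¹ * x * g, ?_, ?_⟩⟩
    · refine (hcent _).2 fun k => ?_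
      have h2 := hD' x hx k
      calc g⁻¹ * x * g * φ' k = g⁻¹ * (x * (g * φ' k * g⁻¹)) * g := by group
        _ = g⁻¹ * ((g * φ' k * g⁻¹) * x) * g := by rw [h2]
        _ = φ' k * (g⁻¹ * x * g) := by group
    · simp only [MulEquiv.toMonoidHom_eq_coe, MonoidHom.coe_coe, MulAut.conj_apply]
      group

end Cfsg.Agent.StandardComponent.HS.StdPhi
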