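import Cfsg.Agent.StandardComponent.HS.TwoExt
import Cfsg.Agent.HN.StepFiveMain

set_option autoImplicit false

/-!
S1752, the case `|R| = 2`: `φ : K →* G` is injective (`K = 2.HS`), `C_G(φ K) = W × ⟨t⟩` with `W` of odd order, `C_G(t)`
acts on `φ K` as a subgroup of `H0`, and `W` is normalised by every `g` such that `gtg⁻¹` commutes with `t`.  Then a simple
group `G` is the Harada–Norton group.
-/

namespace Cfsg.Agent.StandardComponent.HS.TwoMain

open Cfsg.Agent.HN.Pres Cfsg.Agent.HN.HS100 Cfsg.Agent.HN.H0Basic Cfsg.Agent.HN.FusGen Cfsg.Agent.HN.FusK0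
open Cfsg.Agent.HN.Twist Cfsg.Agent.HN.FusOne Cfsg.Agent.HN.Classes Cfsg.Agent.HN.Syl Cfsg.Agent.HN.EmbW
open Cfsg.Agent.StandardComponent.HS Cfsg.Agent.StandardComponent.HS.Four Cfsg.Agent.StandardComponent.HS.FourOuter
open Cfsg.Agent.StandardComponent.HS.TwoExt Cfsg.Agent.HN Subgroup

/-- The data. -/
structure Data {G : Type*} [Group G] (φ : K →* G) (W : Subgroup G) : Prop where
  inj : Function.Injective φ
  odd : Odd (Nat.card W)
  comW : ∀ w ∈ W, ∀ k, w * φ k = φ k * w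
  hR : ∀ g, (∀ k, g * φ k = φ k * g) → ∃ w ∈ W, g = w ∨ g = w * φ τ0
  hM : ∀ g, g * φ τ0 = φ τ0 * g → ∃ h : H0, Acts φ g h
  nrm : ∀ g, Commute (φ τ0) (g * φ τ0 * g⁻¹) → ∀ w ∈ W, g * w * g⁻¹ ∈ W

namespace Data

variable {G : Type*} [Group G] {φ : K →* G} {W : Subgroup G} (D : Data φ W)

include D

omit D in
theorem tt : φ τ0 * φ τ0 = 1 := by rw [← map_mul, FourOuter.τ0_sq, map_one]

omit D in
theorem t_comm (k : K) : φ k * φ τ0 = φ τ0 * φ k := by rw [← map_mul, ← map_mul, τ0_comm]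

theorem t_ne : φ τ0 ≠ 1 := fun h => τ0_ne (D.inj (h.trans (map_one φ).symm))

theorem orderOf_t : orderOf (φ τ0) = 2 :=
  orderOf_eq_prime (by rw [pow_two]; exact tt) D.t_ne

theorem t_notMem : φ τ0 ∉ W := fun h => D.t_ne (eq_one_of_sq D.odd h tt)

theorem disj {k : K} (hk : φ k ∈ W) : k = 1 := by
  have h1 : ∀ l, k * l = l * k := by
    intro l
    apply D.inj
    rw [map_mul, map_mul]
    exact D.comW _ hk l
  rcases StepFive.cen_K k h1 with h | h
  · exact h
  · exact absurd (h ▸ hk) D.t_notMem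

/-- an involution in the coset `W t` is `t`. -/
theorem eq_t {u w : G} (hw : w ∈ W) (hu : u = w * φ τ0) (h2 : u * u = 1) : u = φ τ0 := by
  have h1 : w * w = 1 := by
    have h3 := D.comW w hw τ0
    calc w * w = w * (φ τ0 * φ τ0) * w := by rw [tt, mul_one]
      _ = (w * φ τ0) * (φ τ0 * w) := by group
      _ = u * u := by rw [← h3, hu]
      _ = 1 := h2
  rw [hu, eq_one_of_sq D.odd hw h1, one_mul]

omit D in
theorem conj_sq (g : G) : g * φ τ0 * g⁻¹ * (g * φ τ0 * g⁻¹) = 1 := by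
  calc g * φ τ0 * g⁻¹ * (g * φ τ0 * g⁻¹) = g * (φ τ0 * φ τ0) * g⁻¹ := by group
    _ = 1 := by rw [tt]; group

theorem mem_normalizer [Finite G] {g : G} (hg : Commute (φ τ0) (g * φ τ0 * g⁻¹)) : g ∈ NN W := by
  have h1 : W.map (MulAut.conj g).toMonoidHom ≤ W := by
    rintro _ ⟨w, hw, rfl⟩
    exact D.nrm g hg w hw
  have h2 : W.map (MulAut.conj g).toMonoidHom = W := by
    apply Subgroup.eq_of_le_of_card_ge h1
    rw [Nat.card_congr (Subgroup.equivMapOfInjective W (MulAut.conj g).toMonoidHom (MulAut.conj g).injective).toEquiv]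
  rw [mem_normalizer_iff]
  intro w
  constructor
  · intro hw
    exact D.nrm g hg w hw
  · intro hw
    rw [← h2] at hw
    obtain ⟨v, hv, he⟩ := hw
    have h3 : g * v * g⁻¹ = g * w * g⁻¹ := he
    have h4 : v = w := mul_left_cancel (mul_right_cancel h3)
    rwa [← h4]

theorem mem_of_comm [Finite G] {g : G} (hg : g * φ τ0 = φ τ0 * g) : g ∈ NN W := by
  apply D.mem_normalizer
  rw [mul_inv_eq_iff_eq_mul.2 hg]

theorem φ_mem [Finite G] (k : K) : φ k ∈ NN W := D.mem_of_comm (t_comm k)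

/-- `φ` with values in `N_G(W)` -/
def φN [Finite G] : K →* NN W := φ.codRestrict (NN W) D.φ_mem

/-- `φ` with values in `N_G(W)/W` -/
def φQ [Finite G] : K →* QN W := (pr W).comp D.φN

theorem φQ_apply [Finite G] (k : K) : D.φQ k = pr W (D.φN k) := rfl

theorem φQ_inj [Finite G] : Function.Injective D.φQ := by
  rw [injective_iff_map_eq_one]
  intro k hk
  exact D.disj (pr_eq_one.1 hk)

/-- an element of `N_G(W)` centralising `t` modulo `W` centralises `t`. -/
theorem comm_of_pr [Finite G] {g : NN W} (hg : pr W g * D.φQ τ0 = D.φQ τ0 * pr W g) :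
    (g : G) * φ τ0 = φ τ0 * g := by
  have h1 : pr W (g * D.φN τ0 * g⁻¹ * (D.φN τ0)⁻¹) = 1 := by
    rw [map_mul, map_mul, map_mul, map_inv, map_inv]
    rw [φQ_apply] at hg
    rw [hg]
    group
  have h2 : (g : G) * φ τ0 * (g : G)⁻¹ * (φ τ0)⁻¹ ∈ W := pr_eq_one.1 h1
  exact mul_inv_eq_iff_eq_mul.1 (D.eq_t h2 (by group) (conj_sq _))

theorem two [Finite G] : Two D.φQ where
  inj := D.φQ_inj
  hR := by
    intro x hx
    obtain ⟨g, rfl⟩ := pr_surj W x
    have hgt := D.comm_of_pr (hx τ0)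
    obtain ⟨h, hh⟩ := D.hM g hgt
    have h1 : ∀ k, conjK h k = k := by
      intro k
      have h2 : pr W (g * D.φN k * g⁻¹ * (D.φN k)⁻¹) = 1 := by
        rw [map_mul, map_mul, map_mul, map_inv, map_inv]
        have h3 := hx k
        rw [φQ_apply] at h3
        rw [h3]
        group
      have h4 : (g : G) * φ k * (g : G)⁻¹ * (φ k)⁻¹ ∈ W := pr_eq_one.1 h2
      rw [hh k, ← map_inv, ← map_mul] at h4
      exact mul_inv_eq_one.1 (D.disj h4)
    obtain ⟨w, hw, h5⟩ := D.hR g (fun k => by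
      have h6 := hh k
      rw [h1 k] at h6
      exact mul_inv_eq_iff_eq_mul.1 h6)
    have hwN : w ∈ NN W := le_normalizer hw
    rcases h5 with h5 | h5
    · left
      apply pr_eq_one.2
      rw [h5]
      exact hw
    · right
      rw [φQ_apply]
      have h6 : g = ⟨w, hwN⟩ * D.φN τ0 := Subtype.ext h5
      have h7 : pr W ⟨w, hwN⟩ = 1 := pr_eq_one.2 hw
      rw [h6, map_mul, h7, one_mul]
  hM := by
    intro x hx
    obtain ⟨g, rfl⟩ := pr_surj W x
    obtain ⟨h, hh⟩ := D.hM g (D.comm_of_pr hx)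
    refine ⟨h, fun k => ?_⟩
    rw [φQ_apply, φQ_apply, ← map_inv, ← map_mul, ← map_mul]
    congr 1
    exact Subtype.ext (hh k)

/-- a commuting conjugate of `t` in `N_G(W)/W` -/
theorem hexQ [Finite G] [IsSimpleGroup G] : ∃ x : QN W, x * D.φQ τ0 * x⁻¹ ≠ D.φQ τ0 ∧
    x * D.φQ τ0 * x⁻¹ * D.φQ τ0 = D.φQ τ0 * (x * D.φQ τ0 * x⁻¹) := by
  obtain ⟨g, hg, hcomm⟩ := Cfsg.Agent.SporRec.LyReduce.exists_conj_ne (φ τ0) D.orderOf_t
    ⟨φ ⟨gx, gx_mem⟩, φ ⟨gy, gy_mem⟩, fun h => by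
      rw [← map_mul, ← map_mul] at h
      have h1 : gx * gy = gy * gx := congrArg Subtype.val (D.inj h)
      have h2 : P1408.hw [0, 2] ≠ P1408.hw [2, 0] := hw_ne rfl rfl (p := 3) (by norm_num) (by decide +kernel)
      apply h2
      rw [P1408.hw_cons 0 [2], P1408.hw_cons 2 [], P1408.hw_cons 2 [0], P1408.hw_cons 0 [], P1408.hw_nil, P1408.hw_x,
        P1408.hw_y, mul_one, mul_one, h1]⟩
  have hN := D.mem_normalizer hcomm
  refine ⟨pr W ⟨g, hN⟩, ?_, ?_⟩
  · intro h
    have h2 : pr W (⟨g, hN⟩ * D.φN τ0 * (⟨g, hN⟩ : NN W)⁻¹ * (D.φN τ0)⁻¹) = 1 := by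
      rw [map_mul, map_mul, map_mul, map_inv, map_inv]
      rw [φQ_apply] at h
      rw [h, mul_inv_cancel]
    have h3 : g * φ τ0 * g⁻¹ * (φ τ0)⁻¹ ∈ W := pr_eq_one.1 h2
    exact hg (D.eq_t h3 (by group) (conj_sq g))
  · rw [φQ_apply, ← map_inv, ← map_mul, ← map_mul, ← map_mul, ← map_mul]
    congr 1
    exact Subtype.ext hcomm.symm.eq

omit D in
/-- the commuting conjugate in terms of an embedding -/
theorem hex_of {H Γ : Type*} [Group H] [Group Γ] {ψ : H →* Γ} {τ' : H} (E : Emb ψ τ')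
    (hx : ∃ x : Γ, x * ψ τ' * x⁻¹ ≠ ψ τ' ∧ x * ψ τ' * x⁻¹ * ψ τ' = ψ τ' * (x * ψ τ' * x⁻¹)) :
    ∃ h, InK ψ τ' h ∧ h ≠ τ' := by
  obtain ⟨x, h1, h2⟩ := hx
  obtain ⟨h, hh⟩ := E.cent _ h2
  refine ⟨h, isConj_iff.2 ⟨x, hh.symm⟩, ?_⟩
  rintro rfl
  exact h1 hh.symm

/-- an outer element can be chosen with square `1` or `t` and acting as `gz`. -/
theorem exists_outer_two [Finite G] {g : G} {h : H0} (hg : Acts φ g h) (hh : h ∉ K) :
    ∃ u : G, Acts φ u gz ∧ (u * u = 1 ∨ u * u = φ τ0) := by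
  have hk : gz * h⁻¹ ∈ K := out_mul gz_notMem_K (fun h1 => hh (inv_mem_iff.1 h1))
  obtain ⟨g1, hg1⟩ : ∃ g1, g1 = φ ⟨gz * h⁻¹, hk⟩ * g := ⟨_, rfl⟩
  have ha : Acts φ g1 gz := by
    have h1 := Acts.mul (acts_of (φ := φ) ⟨gz * h⁻¹, hk⟩) hg
    have h2 : ((⟨gz * h⁻¹, hk⟩ : K) : H0) * h = gz := by
      change gz * h⁻¹ * h = gz
      group
    rw [h2, ← hg1] at h1
    exact h1
  have hn : ∀ n : ℕ, Odd n → (gz : H0) ^ n = gz := by
    rintro n ⟨k, rfl⟩
    rw [pow_succ, pow_mul, pow_two, gz_sq', one_pow, one_mul]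
  have hsq : ∃ w ∈ W, g1 * g1 = w ∨ g1 * g1 = w * φ τ0 := by
    apply D.hR
    intro k
    have h1 := Acts.mul ha ha k
    rw [gz_sq'] at h1
    have h2 := acts_one (φ := φ) k
    rw [one_mul, inv_one, mul_one] at h2
    rw [← h2] at h1
    exact mul_inv_eq_iff_eq_mul.1 h1
  obtain ⟨w, hw, hsq⟩ := hsq
  have hwn : w ^ Nat.card W = 1 := by
    have h1 : (⟨w, hw⟩ : W) ^ Nat.card W = 1 := pow_card_eq_one'
    exact congrArg Subtype.val h1
  refine ⟨g1 ^ Nat.card W, ?_, ?_⟩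
  · have h1 := acts_pow ha (Nat.card W)
    rwa [hn _ D.odd] at h1
  · rw [← pow_add, ← two_mul, pow_mul, pow_two]
    rcases hsq with h1 | h1
    · left
      rw [h1, hwn]
    · right
      have h2 : Commute w (φ τ0) := D.comW w hw τ0
      rw [h1, h2.mul_pow, hwn, one_mul]
      obtain ⟨k, hk⟩ := D.odd
      rw [hk, pow_succ, pow_mul, pow_two, tt, one_pow, one_mul]

/-- **The case `|R| = 2`.** -/
theorem iso [Finite G] [IsSimpleGroup G] : Cfsg.Spor.IsoHN G := by
  haveI : Finite (QN W) := Quotient.finite _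
  by_cases hin : ∀ g, g * φ τ0 = φ τ0 * g → ∀ h, Acts φ g h → h ∈ K
  · -- the centraliser is `W × K`
    exfalso
    have E : EmbO φ τ0 W :=
      { inj := D.inj
        comm := τ0_comm
        sq := FourOuter.τ0_sq
        ne := τ0_ne
        odd := D.odd
        comW := D.comW
        cent := by
          intro g hg
          obtain ⟨h, hh⟩ := D.hM g hg
          have hK := hin g hg h hh
          obtain ⟨w, hw, h1⟩ := D.hR _ (comm_of_acts (acts_of (φ := φ) ⟨h, hK⟩) hh)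
          rcases h1 with h1 | h1
          · refine ⟨w, hw, ⟨h, hK⟩, ?_⟩
            rw [D.comW w hw, inv_mul_eq_iff_eq_mul.1 h1]
          · refine ⟨w, hw, ⟨h, hK⟩ * τ0, ?_⟩
            rw [D.comW w hw, inv_mul_eq_iff_eq_mul.1 h1, map_mul, mul_assoc, D.comW w hw]
        nrm := D.nrm
        cen := StepFive.cen_K }
    exact StepFive.false_K E
  · push Not at hin
    obtain ⟨g, -, h, hg, hh⟩ := hin
    obtain ⟨u, hu, hu2⟩ := D.exists_outer_two hg hh
    have hut : u * φ τ0 = φ τ0 * u := by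
      have h1 := hu τ0
      have h2 : conjK gz τ0 = τ0 := by
        apply Subtype.ext
        rw [coe_conjK]
        change gz * τ * gz⁻¹ = τ
        rw [τ_comm, mul_inv_cancel_right]
      rw [h2] at h1
      exact mul_inv_eq_iff_eq_mul.1 h1
    have huN := D.mem_of_comm hut
    have huQ : Acts D.φQ (pr W ⟨u, huN⟩) gz := by
      intro k
      rw [φQ_apply, φQ_apply, ← map_inv, ← map_mul, ← map_mul]
      congr 1
      exact Subtype.ext (hu k)
    rcases hu2 with hu2 | hu2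
    · -- `H0`
      have huQ2 : pr W ⟨u, huN⟩ * pr W ⟨u, huN⟩ = 1 := by
        rw [← map_mul]
        have : (⟨u, huN⟩ : NN W) * ⟨u, huN⟩ = 1 := Subtype.ext hu2
        rw [this, map_one]
      obtain ⟨ψ, E, hψ, hψz⟩ := embH D.two huQ huQ2
      have hex := hex_of E (by
        have h1 : ψ τ = D.φQ τ0 := hψ τ0
        rw [h1]
        exact D.hexQ)
      obtain ⟨hz, -, -⟩ := MainFus.main' E hex
      -- the involution `Z`
      obtain ⟨x, hx⟩ := isConj_iff.1 hz
      obtain ⟨c, rfl⟩ := pr_surj W x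
      obtain ⟨Z, hZ⟩ : ∃ Z : G, Z = c * φ τ0 * (c : G)⁻¹ := ⟨_, rfl⟩
      have hZ2 : Z * Z = 1 := by rw [hZ]; exact conj_sq _
      have hZW : ∀ w ∈ W, w * Z = Z * w := by
        intro w hw
        have h1 : (c : G)⁻¹ * w * c ∈ W := by
          have h2 := mem_normalizer_iff.1 ((NN W).inv_mem c.2) w
          rw [inv_inv] at h2
          exact h2.1 hw
        have h2 := D.comW _ h1 τ0
        rw [hZ]
        calc w * (c * φ τ0 * (c : G)⁻¹) = c * (((c : G)⁻¹ * w * c) * φ τ0) * (c : G)⁻¹ := by group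
          _ = c * (φ τ0 * ((c : G)⁻¹ * w * c)) * (c : G)⁻¹ := by rw [h2]
          _ = c * φ τ0 * (c : G)⁻¹ * w := by group
      have hZu : Z * u⁻¹ ∈ W := by
        have h1 : pr W (c * D.φN τ0 * c⁻¹ * (⟨u, huN⟩ : NN W)⁻¹) = 1 := by
          rw [map_mul, map_mul, map_mul, map_inv, map_inv]
          have h2 : ψ τ = pr W (D.φN τ0) := hψ τ0
          rw [h2, hψz] at hx
          rw [hx, mul_inv_cancel]
        have h3 : (c : G) * φ τ0 * (c : G)⁻¹ * u⁻¹ ∈ W := pr_eq_one.1 h1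
        rw [hZ]
        exact h3
      have hZa : Acts φ Z gz := by
        intro k
        have h1 := D.comW _ hZu (conjK gz k)
        calc Z * φ k * Z⁻¹ = (Z * u⁻¹) * (u * φ k * u⁻¹) * (Z * u⁻¹)⁻¹ := by group
          _ = (Z * u⁻¹) * φ (conjK gz k) * (Z * u⁻¹)⁻¹ := by rw [hu k]
          _ = φ (conjK gz k) := by rw [h1, mul_inv_cancel_right]
      obtain ⟨χ, hχ, hχz, hχm⟩ := exists_ext gz_notMem_K gz_sq' hZa hZ2
      have hχτ : χ τ = φ τ0 := hχ τ0
      have E' : EmbO χ τ W :=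
        { inj := inj_ext D.inj hZa hχ hχm
          comm := τ_comm
          sq := τ_mul_τ
          ne := τ_ne_one
          odd := D.odd
          comW := by
            intro w hw m
            by_cases hmK : m ∈ K
            · have h2 : χ m = φ ⟨m, hmK⟩ := hχ ⟨m, hmK⟩
              rw [h2]
              exact D.comW w hw _
            · obtain ⟨k, hk, -⟩ := hχm m hmK
              rw [hk, ← mul_assoc, D.comW w hw, mul_assoc, hZW w hw, mul_assoc]
          cent := by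
            intro g hg
            rw [hχτ] at hg
            obtain ⟨m, hm⟩ := D.hM g hg
            obtain ⟨w, hw, h1⟩ := D.hR _ (comm_of_acts (acts_ext hZa hχ hχm m) hm)
            have hcw : ∀ m : H0, w * χ m = χ m * w := by
              intro m
              by_cases hmK : m ∈ K
              · have h2 : χ m = φ ⟨m, hmK⟩ := hχ ⟨m, hmK⟩
                rw [h2]
                exact D.comW w hw _
              · obtain ⟨k, hk, -⟩ := hχm m hmK
                rw [hk, ← mul_assoc, D.comW w hw, mul_assoc, hZW w hw, mul_assoc]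
            rcases h1 with h1 | h1
            · exact ⟨w, hw, m, by rw [hcw, inv_mul_eq_iff_eq_mul.1 h1]⟩
            · refine ⟨w, hw, m * τ, ?_⟩
              rw [hcw, inv_mul_eq_iff_eq_mul.1 h1, map_mul, hχτ, mul_assoc, D.comW w hw]
          nrm := by rw [hχτ]; exact D.nrm
          cen := StepFive.cen_H0 }
      exact StepFiveMain.iso E'
    · -- the isoclinic group
      exfalso
      have huQ2 : pr W ⟨u, huN⟩ * pr W ⟨u, huN⟩ = D.φQ τ0 := by
        rw [← map_mul, φQ_apply]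
        congr 1
        exact Subtype.ext hu2
      obtain ⟨ψ, E, hψ⟩ := embT D.two huQ huQ2
      refine isoclinic_false' E (hex_of E ?_)
      have h1 : ψ τT = D.φQ τ0 := hψ τ0
      rw [h1]
      exact D.hexQ

end Data

end Cfsg.Agent.StandardComponent.HS.TwoMain
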