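import Cfsg.Agent.StandardComponent.HS.PairD
import Cfsg.Agent.StandardComponent.HS.TwoMain

set_option autoImplicit false

/-!
S1752, the case `|R| = 2`: the recognition of `HN` from `C(L) = W ⟨t⟩`.
-/

namespace Cfsg.Agent.StandardComponent.HS.FinalTwo

open Cfsg.Agent.HN.Pres Cfsg.Agent.HN.HS100 Cfsg.Agent.HN.H0Basic
open Cfsg.Agent.HN.FusK0
open Cfsg.Agent.StandardComponent.HS.FourK0 Cfsg.Agent.StandardComponent.HS.Four
open Cfsg.Agent.StandardComponent.HS.FourOuter
open Cfsg.Agent.StandardComponent.HS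
open Cfsg.Agent.StandardComponent.HS.PairA
open Cfsg.Agent.HN
open Subgroup

variable {G : Type*} [Group G] {φ : K →* G}

theorem odd_of_mem [Finite G] {W : Subgroup G} (hodd : Odd (Nat.card W)) {w : G} (hw : w ∈ W) : Odd (orderOf w) := by
  refine Odd.of_dvd_nat hodd ?_
  have h1 : orderOf (⟨w, hw⟩ : W) ∣ Nat.card W := orderOf_dvd_natCard _
  rwa [Subgroup.orderOf_mk] at h1

theorem mem_iff [Finite G] (S : Std φ) {W : Subgroup G} (hodd : Odd (Nat.card W)) (hcen : ∀ w ∈ W, Cen φ w)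
    (hR : ∀ g, Cen φ g → ∃ w ∈ W, g = w ∨ g = w * φ τ0) {g : G} : g ∈ W ↔ g ∈ Wset φ := by
  constructor
  · exact fun h => ⟨hcen g h, odd_of_mem hodd h⟩
  · rintro ⟨h1, h2⟩
    obtain ⟨w, hw, rfl | h3⟩ := hR g h1
    · exact hw
    · exfalso
      have hc : Commute w (φ τ0) := hcen w hw τ0
      have h4 : g ^ orderOf g = 1 := pow_orderOf_eq_one g
      obtain ⟨m, hm⟩ := h2
      have h5 : φ τ0 ^ orderOf g = φ τ0 := by
        rw [hm, pow_succ, pow_mul, pow_two, t_sq, one_pow, one_mul]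
      have h6 : w ^ orderOf g * φ τ0 = 1 := by
        have h7 : g ^ orderOf g = w ^ orderOf g * φ τ0 ^ orderOf g := by
          have h10 : ∀ n : ℕ, g ^ n = w ^ n * φ τ0 ^ n := by
            intro n
            rw [h3]
            exact hc.mul_pow n
          exact h10 _
        rw [h5, h4] at h7
        exact h7.symm
      have h8 : φ τ0 ∈ W := by
        rw [← inv_eq_of_mul_eq_one_right h6]
        exact W.inv_mem (W.pow_mem hw _)
      have h9 := odd_of_mem hodd h8
      rw [orderOf_eq_prime (by rw [pow_two, t_sq]) S.t_ne] at h9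
      exact absurd h9 (by decide)

/-- **The case `|R| = 2`.** -/
theorem iso [Finite G] [IsSimpleGroup G] (S : Std φ) {W : Subgroup G} (hodd : Odd (Nat.card W))
    (hcen : ∀ w ∈ W, Cen φ w) (hR : ∀ g, Cen φ g → ∃ w ∈ W, g = w ∨ g = w * φ τ0)
    (H : ∀ φ₁ φ₂ : K →* G, Two φ₁ φ₂ → (∃ k, φ₂ τ0 = φ₁ k) → (∃ k, φ₁ τ0 = φ₂ k) → ∀ w ∈ Wset φ₁, Cen φ₂ w) :
    Cfsg.Spor.IsoHN G := by
  have D : TwoMain.Data φ W :=
    { inj := S.inj
      odd := hodd
      comW := fun w hw k => hcen w hw k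
      hR := hR
      hM := S.acts
      nrm := by
        intro g hg w hw
        rw [mem_iff S hodd hcen hR] at hw ⊢
        exact S.nrm H g hg hw }
  exact D.iso

end Cfsg.Agent.StandardComponent.HS.FinalTwo
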