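import Cfsg.Agent.HN.FusK0

set_option autoImplicit false

/-!
S1752, the case `|R| = 4` without outer automorphisms: no group has an involution `t` whose centraliser is
`4 ∘ 2.HS` (the even part `K` of `H0 = 2.HS.2`, with a central element `r` of order 4 adjoined, `r ^ 2 = t`),
if `t` is not isolated and fused neither to `b = a t` nor to the elements `r k`, `k ^ 2 = t`.
-/

namespace Cfsg.Agent.StandardComponent.HS.FourK0

open Cfsg.Agent.HN.Pres Cfsg.Agent.HN.HS100 Cfsg.Agent.HN.P1408 Cfsg.Agent.HN.H0Basic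
open Cfsg.Agent.HN.Syl Cfsg.Agent.HN.Classes Cfsg.Agent.HN.FusGen Cfsg.Agent.HN.FusOne
open Cfsg.Agent.HN.FusK0
open Subgroup

/-- the element `x` of `K`, of order 4 -/
def x0 : K := ⟨gx, gx_mem⟩

theorem x0_sq : x0 * x0 = τ0 := Subtype.ext (pow_two gx).symm

/-- an outer element commuting with `x` -/
def wx : List ℕ := [2, 4, 2, 2, 0, 4, 3, 0, 2, 2, 0, 3, 0, 4, 3, 3, 4, 2, 4]

theorem wx_comm : hw wx * gx = gx * hw wx := by
  rw [← hw_x, ← hw_append, ← hw_append]
  exact hw_eq (by decide +kernel)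

theorem wx_notMem : hw wx ∉ K := not_mem_K_of_par rfl rfl

/-- conjugacy in `H0` of an element of `K` commuting with an outer element is conjugacy in `K`. -/
theorem isConj_of_outer {s : H0} (hs : s ∉ K) {g h : K} (hg : s * (g : H0) = g * s) (hc : IsConj (g : H0) h) :
    IsConj g h := by
  obtain ⟨c, hc⟩ := isConj_iff.1 hc
  by_cases hcK : c ∈ K
  · exact isConj_iff.2 ⟨⟨c, hcK⟩, Subtype.ext hc⟩
  · have h1 : c * s ∈ K := by
      rw [mem_K_iff, map_mul]
      have h2 := (Int.units_eq_one_or (sgn c)).resolve_left hcK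
      have h3 := (Int.units_eq_one_or (sgn s)).resolve_left hs
      rw [h2, h3]; rfl
    refine isConj_iff.2 ⟨⟨c * s, h1⟩, Subtype.ext ?_⟩
    change c * s * g * (c * s)⁻¹ = h
    rw [← hc]
    calc c * s * g * (c * s)⁻¹ = c * (s * g) * s⁻¹ * c⁻¹ := by group
      _ = c * (g * s) * s⁻¹ * c⁻¹ := by rw [hg]
      _ = c * g * c⁻¹ := by group

/-- the elements of `K` with square `τ` form one class of `K` -/
theorem isConj_x0 {k : K} (hk : k * k = τ0) : IsConj x0 k := by
  refine isConj_of_outer wx_notMem (g := x0) wx_comm (isConj_of_sq_eq_τ ?_)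
  rw [pow_two]
  exact congrArg Subtype.val hk

/-- the involutions of `K` -/
theorem cases_K {k : K} (hk : k * k = 1) : k = 1 ∨ k = τ0 ∨ IsConj a0 k ∨ IsConj b0 k := by
  have h2 : (k : H0) ^ 2 = 1 := by
    rw [pow_two]; exact congrArg Subtype.val hk
  rcases involution_cases h2 with h1 | h1 | h1 | h1 | h1 | h1
  · exact Or.inl (Subtype.ext h1)
  · exact Or.inr (Or.inl (Subtype.ext h1))
  · exact Or.inr (Or.inr (Or.inl (isConj_of (g := a0) s8_a h1)))
  · exact Or.inr (Or.inr (Or.inr (isConj_of (g := b0) s8_aτ h1)))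
  · exact absurd ((mem_K_of_isConj h1).2 k.2) gz_notMem_K
  · exact absurd ((mem_K_of_isConj h1).2 k.2) d_notMem_K

/-- **`C_G(t) = 4 ∘ 2.HS` is impossible** if `t` is not isolated, not fused to `b = a t` and not fused to
`r x`. -/
theorem false_of_four {G : Type*} [Group G] {φ : K →* G} (hφ : Function.Injective φ) {r : G}
    (hr : r * r = φ τ0) (hrc : ∀ k, r * φ k = φ k * r)
    (hC : ∀ g, g * φ τ0 = φ τ0 * g → ∃ k, g = φ k ∨ g = r * φ k)
    (hex : ∃ g, g * φ τ0 * g⁻¹ ≠ φ τ0 ∧ g * φ τ0 * g⁻¹ * φ τ0 = φ τ0 * (g * φ τ0 * g⁻¹))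
    (hb : ¬ IsConj (φ τ0) (φ b0)) (hx : ¬ IsConj (φ τ0) (r * φ x0)) : False := by
  -- the centraliser
  let H : Subgroup G := centralizer {φ τ0}
  have memH : ∀ g : G, g ∈ H ↔ g * φ τ0 = φ τ0 * g := fun g => mem_centralizer_singleton_iff
  have hτ0c : ∀ k : K, k * τ0 = τ0 * k := fun k => Subtype.ext (τ_comm _)
  have hφH : ∀ k : K, φ k ∈ H := fun k => by rw [memH, ← map_mul, ← map_mul, hτ0c]
  have hτ0sq : (τ0 : K) * τ0 = 1 := Subtype.ext τ_mul_τ
  have hτ0ne : (τ0 : K) ≠ 1 := fun h => τ_ne_one (congrArg Subtype.val h)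
  let f : K → H := fun k => ⟨φ k, hφH k⟩
  have hfm : ∀ k l : K, f (k * l) = f k * f l := fun k l => Subtype.ext (map_mul φ k l)
  have hfc : ∀ {k l : K}, IsConj k l → IsConj (f k) (f l) := by
    intro k l h
    obtain ⟨c, rfl⟩ := isConj_iff.1 h
    refine isConj_iff.2 ⟨f c, ?_⟩
    rw [← hfm, mul_inv_eq_iff_eq_mul, ← hfm]
    congr 1
    group
  have E : Emb (H.subtype) (f τ0) :=
    { inj := H.subtype_injective
      cent := fun g hg => ⟨⟨g, (memH g).2 hg⟩, rfl⟩
      comm := fun h => Subtype.ext ((memH _).1 h.2)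
      sq := by rw [← hfm, hτ0sq]; exact Subtype.ext (map_one φ)
      ne := fun h => hτ0ne (hφ (by rw [map_one]; exact congrArg Subtype.val h)) }
  have hb' : ¬ InK H.subtype (f τ0) (f a0 * f τ0) := by
    intro h
    apply hb
    rw [← hfm, ← b0_eq] at h
    exact h
  have hK : ∀ h, InK H.subtype (f τ0) h → h = f τ0 ∨ IsConj (f a0) h := by
    intro h hh
    have h2 : (h : G) * h = 1 := congrArg Subtype.val (E.sq_of_inK hh)
    have h1 : h ≠ 1 := E.ne_one_of_inK hh
    obtain ⟨k, hk | hk⟩ := hC h ((memH _).1 h.2)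
    · have hk2 : k * k = 1 := hφ (by rw [map_mul, map_one, ← hk, h2])
      have hhk : h = f k := Subtype.ext hk
      rcases cases_K hk2 with h3 | h3 | h3 | h3
      · exact absurd (by rw [hhk, h3]; exact Subtype.ext (map_one φ)) h1
      · exact Or.inl (by rw [hhk, h3])
      · exact Or.inr (by rw [hhk]; exact hfc h3)
      · exact absurd (hh.conj (by rw [hhk, ← hfm, ← b0_eq]; exact (hfc h3).symm)) hb'
    · exfalso
      have hk2 : k * k = τ0 := by
        have h3 : τ0 * (k * k) = 1 := hφ (by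
          rw [map_mul, map_mul, map_one, ← hr, ← h2, hk]
          calc r * r * (φ k * φ k) = r * (r * φ k) * φ k := by group
            _ = r * (φ k * r) * φ k := by rw [hrc]
            _ = r * φ k * (r * φ k) := by group)
        calc k * k = τ0 * (τ0 * (k * k)) := by rw [← mul_assoc τ0 τ0, hτ0sq, one_mul]
          _ = τ0 := by rw [h3, mul_one]
      obtain ⟨c, hc⟩ := isConj_iff.1 (isConj_x0 hk2)
      apply hx
      refine IsConj.trans (c := r * φ x0) (show IsConj (φ τ0) (h : G) from hh) ?_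
      refine isConj_iff.2 ⟨(φ c)⁻¹, ?_⟩
      rw [hk, ← hc, map_mul, map_mul, map_inv]
      calc (φ c)⁻¹ * (r * (φ c * φ x0 * (φ c)⁻¹)) * (φ c)⁻¹⁻¹ = (φ c)⁻¹ * (r * φ c) * φ x0 := by group
        _ = (φ c)⁻¹ * (φ c * r) * φ x0 := by rw [hrc]
        _ = r * φ x0 := by group
  obtain ⟨g, hg, hgc⟩ := hex
  have ha : InK H.subtype (f τ0) (f a0) := by
    have h1 : InK H.subtype (f τ0) ⟨g * φ τ0 * g⁻¹, (memH _).2 hgc⟩ := isConj_iff.2 ⟨g, rfl⟩
    rcases hK _ h1 with h2 | h2
    · exact absurd (congrArg Subtype.val h2) hg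
    · exact h1.conj h2.symm
  exact E.f4 (a₁ := f a0) (a₂ := f ⟨a2, a2_mem_K⟩)
    (by rw [← hfm, ← hfm]; exact congrArg f (Subtype.ext a2_comm.symm)) (IsConj.refl _)
    (hfc (isConj_of (g := a0) s8_a isConj_a_a2)) (by
      rw [← hfm]; exact hfc (isConj_of (g := a0) s8_a isConj_a_mul)) ha hb' hK

end Cfsg.Agent.StandardComponent.HS.FourK0
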