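import Cfsg.Agent.HN.CentUp2
import Cfsg.Agent.HN.Syl

set_option autoImplicit false

/-!
S1752, `|R| = 4`: the finite facts about `H0 = 2·HS.2` used in the exclusion of the fusion of `τ` and `d`
(`NoD4.lean`).  All of them are equations between words in the generators, and the list of the 256 elements of
the centraliser of `b`, `s2`, `s5`.
-/

namespace Cfsg.Agent.StandardComponent.HS.NoD4Facts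

open Cfsg.Agent.HN.Pres Cfsg.Agent.HN.HS100 Cfsg.Agent.HN.P1408 Cfsg.Agent.HN.H0Basic
open Cfsg.Agent.HN.Syl Cfsg.Agent.HN.Classes Cfsg.Agent.HN.ColChain Cfsg.Agent.HN.CentUp Cfsg.Agent.HN.CentUp2
open scoped commutatorElement
open Cfsg.Agent.HN
open Subgroup

/-- b = a τ -/
def wb : List ℕ := [0, 0, 2, 2, 2]
/-- s2 -/
def w2 : List ℕ := [4, 1, 2, 2, 0, 4, 3, 0, 2, 2, 2, 4, 2, 2, 2, 4, 3]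
/-- s3 -/
def w3 : List ℕ := [2, 0, 4, 2, 0, 4, 2, 0, 2, 2, 2, 4, 2, 2, 2, 4]
/-- s4 -/
def w4 : List ℕ := [2, 0, 4, 2, 2, 2, 1, 4, 3]
/-- s5 -/
def w5 : List ℕ := [0, 2, 4, 3, 3, 4, 3, 3, 4, 2, 2, 4, 2, 1]
/-- s8 -/
def w8 : List ℕ := [0, 4, 3, 0, 4, 3, 1, 4, 3]
/-- s3 s7 -/
def w37 : List ℕ := [4, 2, 2, 2, 4, 2, 2, 2, 0, 2, 0, 4, 2, 1, 4, 2]
/-- s4 s8 -/
def w48 : List ℕ := [0, 4, 2, 0, 4, 3, 3, 0, 4, 2]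
/-- s4 s3 s7 -/
def w437 : List ℕ := [3, 4, 1, 2, 2, 0, 4, 2, 2, 0, 2, 2, 2, 4, 2, 2, 2, 4]
/-- s2 s7 s8 -/
def w278 : List ℕ := [2, 4, 2, 2, 2, 4, 2, 2, 2, 4, 3]
/-- x1 = s0 s3 s5 s7 s8, conjugate to d -/
def wx1 : List ℕ := [4, 3, 4, 2, 1, 2, 0, 4, 3, 4, 2, 4, 2, 2, 4, 3, 3, 4, 3, 1]
/-- x2 = s10, conjugate to d -/
def wx2 : List ℕ := [0, 2, 2, 0, 2, 2, 2, 0, 3, 4, 3, 1]
/-- x1 = h1⁻¹ d h1 -/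
def wh1 : List ℕ := [2, 2, 0, 3, 0, 3, 3, 4, 3, 4, 3, 4]
/-- x2 = h2⁻¹ d h2 -/
def wh2 : List ℕ := [0, 2, 2, 2, 4, 3, 3, 0, 3, 0, 2, 4, 2, 2, 4]
/-- τ -/
def wt : List ℕ := [0, 0]
/-- d -/
def wd : List ℕ := [1, 3, 1, 2, 1, 4, 3, 4, 2, 4]
/-- a commutator in `C(x1)` -/
def u1_b : List ℕ := [3, 0, 4, 2, 2, 2, 0, 2, 2, 2, 4, 2, 2, 2, 4, 2]
/-- a commutator in `C(x1)` -/
def v1_b : List ℕ := [2, 0, 4, 2, 2, 2, 1, 4, 3]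
/-- a commutator in `C(x1)` -/
def u1_2 : List ℕ := [1, 3, 4, 3, 0, 3, 3, 4, 3, 0, 2, 4, 2, 1, 2, 2]
/-- a commutator in `C(x1)` -/
def v1_2 : List ℕ := [3, 4, 2, 2, 2, 4, 3, 3, 4, 3, 0, 3, 3, 1, 4]
/-- a commutator in `C(x1)` -/
def u1_4 : List ℕ := [0, 4, 3, 0, 4, 3, 0, 4, 3]
/-- a commutator in `C(x1)` -/
def v1_4 : List ℕ := [4, 3, 1, 3, 0, 3, 4, 3, 0, 3, 4, 3, 1, 2, 4, 2, 4, 2, 4]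
/-- a commutator in `C(x1)` -/
def u1_5 : List ℕ := [3, 4, 2, 2, 2, 4, 3, 3, 4, 3, 0, 3, 3, 1, 4]
/-- a commutator in `C(x1)` -/
def v1_5 : List ℕ := [3, 0, 2, 4, 2, 0, 2, 2, 4, 2, 0, 3, 4, 3, 1, 3]
/-- a commutator in `C(x1)` -/
def u1_37 : List ℕ := [1, 2, 2, 0, 2, 2, 2, 0, 2, 4, 3, 3, 4, 3, 0, 2]
/-- a commutator in `C(x1)` -/
def v1_37 : List ℕ := [4, 1, 2, 2, 0, 4, 3, 0, 2, 2, 2, 4, 2, 2, 2, 4, 3]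
/-- a commutator in `C(x2)` -/
def u2_b : List ℕ := [3, 4, 3, 1, 2, 4, 2, 2, 0, 2, 2, 0, 4, 2, 1, 2, 4, 3, 3]
/-- a commutator in `C(x2)` -/
def v2_b : List ℕ := [3, 0, 4, 3, 4, 3, 4, 3, 3, 4, 2, 2, 2, 4, 2, 2]
/-- a commutator in `C(x2)` -/
def u2_2 : List ℕ := [2, 2, 2]
/-- a commutator in `C(x2)` -/
def v2_2 : List ℕ := [3, 1, 2, 2, 2, 0, 3, 0, 4, 3, 3, 4, 3, 4, 3, 3, 1, 4]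
/-- a commutator in `C(x2)` -/
def u2_5 : List ℕ := [0, 2, 4, 3, 1]
/-- a commutator in `C(x2)` -/
def v2_5 : List ℕ := [4, 2, 4, 2, 1, 2, 4, 2, 4, 2, 0, 4, 3, 3, 4, 3, 3, 1, 2, 2]
/-- the 256 elements of the centraliser of `b`, `s2`, `s5` -/
def c3W : List (List ℕ) := [
  [],
  [0, 0],
  [2, 2, 2],
  [0, 0, 2, 2, 2],
  [0, 4, 2, 0, 4, 2, 0, 4, 2],
  [0, 4, 2, 0, 4, 2, 1, 4, 2],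
  [0, 4, 2, 0, 4, 2, 0, 4, 3, 3],
  [0, 4, 2, 0, 4, 2, 1, 4, 3, 3],
  [2, 4, 2, 2, 2, 4, 2, 2, 2, 4, 3],
  [0, 2, 2, 0, 2, 2, 2, 0, 3, 4, 3, 0],
  [0, 2, 2, 0, 2, 2, 2, 0, 3, 4, 3, 1],
  [2, 4, 2, 2, 2, 4, 2, 2, 2, 4, 2, 2],
  [0, 0, 2, 4, 2, 2, 2, 4, 2, 2, 2, 4, 3],
  [0, 0, 2, 4, 2, 2, 2, 4, 2, 2, 2, 4, 2, 2],
  [0, 2, 4, 2, 2, 2, 0, 2, 2, 2, 0, 2, 2, 0],
  [0, 2, 4, 2, 2, 2, 0, 2, 2, 2, 0, 2, 2, 1],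
  [0, 2, 4, 3, 3, 4, 3, 3, 4, 2, 2, 4, 2, 0],
  [0, 2, 4, 3, 3, 4, 3, 3, 4, 2, 2, 4, 2, 1],
  [0, 4, 2, 2, 2, 0, 2, 2, 2, 4, 2, 2, 2, 4],
  [0, 4, 2, 2, 2, 1, 2, 2, 2, 4, 2, 2, 2, 4],
  [3, 0, 3, 3, 0, 2, 2, 2, 0, 2, 4, 2, 0, 2],
  [3, 0, 3, 3, 0, 2, 2, 2, 0, 2, 4, 2, 1, 2],
  [2, 2, 0, 3, 3, 0, 2, 2, 2, 0, 2, 4, 2, 0, 2],
  [2, 2, 0, 3, 3, 0, 2, 2, 2, 0, 2, 4, 2, 1, 2],
  [1, 3, 4, 3, 0, 2, 2, 2, 0, 3, 4, 2, 2, 4, 2, 0],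
  [1, 3, 4, 3, 0, 2, 2, 2, 0, 3, 4, 2, 2, 4, 2, 1],
  [2, 0, 4, 2, 0, 4, 2, 0, 2, 2, 2, 4, 2, 2, 2, 4],
  [2, 0, 4, 2, 0, 4, 2, 1, 2, 2, 2, 4, 2, 2, 2, 4],
  [3, 0, 2, 4, 2, 2, 4, 3, 3, 4, 3, 3, 4, 2, 0, 2],
  [3, 0, 2, 4, 2, 2, 4, 3, 3, 4, 3, 3, 4, 2, 1, 2],
  [3, 0, 4, 2, 2, 2, 0, 2, 2, 2, 4, 2, 2, 2, 4, 2],
  [3, 0, 4, 2, 2, 2, 1, 2, 2, 2, 4, 2, 2, 2, 4, 2],
  [3, 4, 2, 2, 0, 2, 0, 4, 2, 0, 3, 3, 4, 3, 3, 4],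
  [3, 4, 2, 2, 0, 2, 0, 4, 2, 1, 3, 3, 4, 3, 3, 4],
  [4, 2, 2, 2, 4, 2, 2, 2, 0, 3, 0, 4, 3, 0, 4, 3],
  [4, 2, 2, 2, 4, 2, 2, 2, 0, 3, 0, 4, 3, 1, 4, 3],
  [4, 2, 2, 4, 2, 2, 0, 3, 0, 4, 3, 0, 3, 3, 4, 2],
  [4, 2, 2, 4, 2, 2, 0, 3, 0, 4, 3, 1, 3, 3, 4, 2],
  [4, 2, 2, 4, 3, 3, 4, 3, 4, 3, 3, 4, 2, 2, 4, 2],
  [1, 2, 0, 2, 0, 2, 4, 2, 4, 3, 3, 0, 2, 2, 4, 2, 4],
  [1, 2, 0, 2, 0, 2, 4, 2, 4, 3, 3, 1, 2, 2, 4, 2, 4],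
  [1, 2, 0, 2, 0, 3, 4, 2, 4, 2, 4, 2, 2, 4, 2, 0, 2],
  [1, 2, 0, 2, 0, 3, 4, 2, 4, 2, 4, 2, 2, 4, 2, 1, 2],
  [1, 2, 0, 2, 0, 4, 3, 4, 2, 4, 2, 4, 2, 2, 2, 0, 2],
  [1, 2, 0, 2, 0, 4, 3, 4, 2, 4, 2, 4, 2, 2, 2, 1, 2],
  [1, 2, 2, 0, 2, 2, 4, 2, 0, 2, 4, 2, 2, 4, 2, 0, 2],
  [1, 2, 2, 0, 2, 2, 4, 2, 0, 2, 4, 2, 2, 4, 2, 1, 2],
  [1, 2, 2, 0, 2, 2, 4, 3, 3, 0, 2, 4, 2, 2, 2, 0, 2],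
  [1, 2, 2, 0, 2, 2, 4, 3, 3, 0, 2, 4, 2, 2, 2, 1, 2],
  [1, 2, 2, 2, 4, 2, 0, 3, 3, 4, 3, 0, 2, 4, 2, 0, 2],
  [1, 2, 2, 2, 4, 2, 0, 3, 3, 4, 3, 0, 2, 4, 2, 1, 2],
  [1, 3, 3, 0, 3, 3, 0, 3, 3, 0, 4, 2, 4, 3, 3, 0, 2],
  [1, 3, 3, 0, 3, 3, 0, 3, 3, 0, 4, 2, 4, 3, 3, 1, 2],
  [1, 3, 3, 4, 2, 0, 4, 3, 3, 0, 3, 3, 0, 3, 3, 0, 2],
  [1, 3, 3, 4, 2, 0, 4, 3, 3, 0, 3, 3, 0, 3, 3, 1, 2],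
  [2, 2, 0, 4, 2, 2, 2, 0, 2, 2, 2, 4, 2, 2, 2, 4, 2],
  [2, 2, 0, 4, 2, 2, 2, 1, 2, 2, 2, 4, 2, 2, 2, 4, 2],
  [2, 2, 4, 2, 2, 0, 2, 0, 4, 2, 0, 3, 3, 4, 3, 3, 4],
  [2, 2, 4, 2, 2, 0, 2, 0, 4, 2, 1, 3, 3, 4, 3, 3, 4],
  [3, 1, 2, 2, 0, 2, 2, 0, 2, 2, 0, 4, 3, 4, 2, 2, 0],
  [3, 1, 2, 2, 0, 2, 2, 0, 2, 2, 0, 4, 3, 4, 2, 2, 1],
  [3, 1, 2, 2, 0, 2, 2, 4, 2, 0, 2, 4, 3, 3, 4, 3, 0],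
  [3, 1, 2, 2, 0, 2, 2, 4, 2, 0, 2, 4, 3, 3, 4, 3, 1],
  [3, 1, 2, 2, 0, 2, 2, 4, 3, 3, 0, 2, 4, 2, 2, 2, 0],
  [3, 1, 2, 2, 0, 2, 2, 4, 3, 3, 0, 2, 4, 2, 2, 2, 1],
  [3, 1, 2, 2, 2, 4, 3, 3, 0, 4, 2, 4, 3, 0, 4, 3, 0],
  [3, 1, 2, 2, 2, 4, 3, 3, 0, 4, 2, 4, 3, 0, 4, 3, 1],
  [3, 1, 2, 2, 4, 3, 0, 4, 2, 2, 0, 2, 2, 0, 2, 2, 0],
  [3, 1, 2, 2, 4, 3, 0, 4, 2, 2, 0, 2, 2, 0, 2, 2, 1],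
  [3, 1, 2, 4, 2, 2, 4, 3, 3, 4, 3, 3, 4, 2, 0, 3, 3],
  [3, 1, 2, 4, 2, 2, 4, 3, 3, 4, 3, 3, 4, 2, 1, 3, 3],
  [3, 1, 3, 0, 3, 0, 2, 4, 3, 4, 3, 4, 3, 3, 4, 3, 0],
  [3, 1, 3, 0, 3, 0, 2, 4, 3, 4, 3, 4, 3, 3, 4, 3, 1],
  [3, 1, 3, 3, 0, 3, 3, 4, 3, 0, 3, 4, 3, 3, 4, 3, 0],
  [3, 1, 3, 3, 0, 3, 3, 4, 3, 0, 3, 4, 3, 3, 4, 3, 1],
  [3, 3, 3, 0, 2, 4, 3, 3, 4, 3, 3, 4, 2, 2, 4, 2, 0],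
  [3, 3, 3, 0, 2, 4, 3, 3, 4, 3, 3, 4, 2, 2, 4, 2, 1],
  [4, 1, 2, 0, 3, 4, 3, 3, 4, 2, 2, 4, 2, 0, 3, 0, 4],
  [4, 1, 2, 0, 3, 4, 3, 3, 4, 2, 2, 4, 2, 0, 3, 1, 4],
  [4, 1, 2, 2, 0, 4, 3, 0, 2, 2, 2, 4, 2, 2, 2, 4, 3],
  [4, 1, 2, 2, 0, 4, 3, 1, 2, 2, 2, 4, 2, 2, 2, 4, 3],
  [4, 1, 2, 2, 2, 0, 2, 2, 2, 4, 2, 2, 2, 4, 2, 2, 2],
  [4, 1, 2, 2, 2, 1, 2, 2, 2, 4, 2, 2, 2, 4, 2, 2, 2],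
  [4, 1, 2, 4, 2, 4, 2, 2, 4, 3, 3, 4, 3, 4, 3, 0, 4],
  [4, 1, 2, 4, 2, 4, 2, 2, 4, 3, 3, 4, 3, 4, 3, 1, 4],
  [4, 1, 3, 0, 2, 4, 2, 2, 4, 3, 3, 4, 3, 0, 2, 0, 4],
  [4, 1, 3, 0, 2, 4, 2, 2, 4, 3, 3, 4, 3, 0, 2, 1, 4],
  [4, 2, 2, 0, 2, 2, 4, 2, 4, 2, 2, 0, 4, 2, 2, 4, 2],
  [4, 2, 2, 0, 2, 2, 4, 2, 4, 2, 2, 1, 4, 2, 2, 4, 2],
  [4, 2, 2, 0, 4, 2, 2, 4, 2, 4, 2, 2, 0, 2, 2, 4, 2],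
  [4, 2, 2, 0, 4, 2, 2, 4, 2, 4, 2, 2, 1, 2, 2, 4, 2],
  [4, 2, 2, 4, 2, 2, 0, 3, 0, 4, 3, 0, 3, 3, 4, 3, 3],
  [4, 2, 2, 4, 2, 2, 0, 3, 0, 4, 3, 1, 3, 3, 4, 3, 3],
  [4, 3, 0, 2, 4, 2, 4, 2, 2, 2, 0, 3, 3, 0, 3, 3, 0],
  [4, 3, 0, 2, 4, 2, 4, 2, 2, 2, 0, 3, 3, 0, 3, 3, 1],
  [4, 3, 4, 3, 3, 0, 2, 2, 4, 3, 4, 3, 0, 3, 0, 3, 0],
  [4, 3, 4, 3, 3, 0, 2, 2, 4, 3, 4, 3, 0, 3, 0, 3, 1],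
  [1, 2, 1, 2, 0, 3, 0, 4, 2, 4, 2, 2, 4, 2, 0, 3, 3, 0],
  [1, 2, 1, 2, 0, 3, 0, 4, 2, 4, 2, 2, 4, 2, 0, 3, 3, 1],
  [1, 2, 2, 0, 2, 2, 0, 4, 2, 2, 0, 4, 3, 4, 2, 4, 2, 0],
  [1, 2, 2, 0, 2, 2, 0, 4, 2, 2, 0, 4, 3, 4, 2, 4, 2, 1],
  [1, 2, 4, 2, 0, 2, 0, 2, 0, 4, 3, 4, 2, 2, 0, 3, 3, 4],
  [1, 2, 4, 2, 0, 2, 0, 2, 0, 4, 3, 4, 2, 2, 1, 3, 3, 4],
  [1, 3, 3, 0, 2, 2, 0, 4, 2, 4, 2, 4, 3, 0, 4, 3, 3, 0],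
  [1, 3, 3, 0, 2, 2, 0, 4, 2, 4, 2, 4, 3, 0, 4, 3, 3, 1],
  [1, 3, 3, 0, 3, 3, 0, 3, 3, 0, 4, 2, 4, 3, 3, 0, 3, 3],
  [1, 3, 3, 0, 3, 3, 0, 3, 3, 0, 4, 2, 4, 3, 3, 1, 3, 3],
  [1, 3, 3, 0, 3, 3, 4, 2, 2, 0, 3, 4, 2, 2, 2, 0, 3, 3],
  [1, 3, 3, 0, 3, 3, 4, 2, 2, 0, 3, 4, 2, 2, 2, 1, 3, 3],
  [1, 3, 3, 4, 2, 0, 4, 3, 3, 0, 3, 3, 0, 3, 3, 0, 3, 3],
  [1, 3, 3, 4, 2, 0, 4, 3, 3, 0, 3, 3, 0, 3, 3, 1, 3, 3],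
  [1, 3, 4, 2, 2, 2, 0, 2, 2, 2, 0, 2, 4, 2, 2, 4, 2, 0],
  [1, 3, 4, 2, 2, 2, 0, 2, 2, 2, 0, 2, 4, 2, 2, 4, 2, 1],
  [2, 2, 1, 2, 2, 0, 2, 2, 0, 2, 2, 0, 4, 3, 4, 2, 2, 0],
  [2, 2, 1, 2, 2, 0, 2, 2, 0, 2, 2, 0, 4, 3, 4, 2, 2, 1],
  [2, 2, 1, 2, 2, 0, 2, 2, 4, 3, 3, 0, 2, 4, 2, 2, 2, 0],
  [2, 2, 1, 2, 2, 0, 2, 2, 4, 3, 3, 0, 2, 4, 2, 2, 2, 1],
  [2, 2, 1, 2, 2, 4, 3, 0, 4, 2, 2, 0, 2, 2, 0, 2, 2, 0],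
  [2, 2, 1, 2, 2, 4, 3, 0, 4, 2, 2, 0, 2, 2, 0, 2, 2, 1],
  [4, 1, 1, 2, 2, 4, 3, 3, 4, 3, 4, 3, 3, 4, 2, 2, 4, 2],
  [4, 2, 2, 0, 2, 2, 4, 2, 4, 2, 2, 0, 4, 2, 2, 4, 3, 3],
  [4, 2, 2, 0, 2, 2, 4, 2, 4, 2, 2, 1, 4, 2, 2, 4, 3, 3],
  [4, 2, 2, 0, 3, 3, 0, 2, 0, 4, 3, 4, 3, 0, 3, 4, 3, 0],
  [4, 2, 2, 0, 3, 3, 0, 2, 0, 4, 3, 4, 3, 0, 3, 4, 3, 1],
  [4, 3, 3, 0, 3, 3, 4, 2, 2, 4, 3, 3, 0, 4, 3, 3, 4, 2],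
  [4, 3, 3, 0, 3, 3, 4, 2, 2, 4, 3, 3, 1, 4, 3, 3, 4, 2],
  [4, 3, 3, 3, 0, 2, 0, 2, 0, 3, 0, 3, 0, 4, 2, 2, 2, 4],
  [4, 3, 3, 3, 0, 2, 0, 2, 0, 3, 0, 3, 1, 4, 2, 2, 2, 4],
  [1, 2, 1, 2, 2, 4, 3, 0, 4, 3, 4, 3, 3, 0, 2, 4, 2, 0, 2],
  [1, 2, 1, 2, 2, 4, 3, 0, 4, 3, 4, 3, 3, 0, 2, 4, 2, 1, 2],
  [1, 2, 2, 1, 2, 2, 2, 0, 3, 4, 3, 4, 2, 0, 4, 2, 0, 4, 2],
  [1, 2, 2, 1, 2, 2, 2, 0, 3, 4, 3, 4, 2, 0, 4, 2, 1, 4, 2],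
  [1, 3, 3, 1, 2, 4, 2, 2, 2, 4, 3, 0, 3, 4, 2, 2, 2, 0, 2],
  [1, 3, 3, 1, 2, 4, 2, 2, 2, 4, 3, 0, 3, 4, 2, 2, 2, 1, 2],
  [3, 1, 2, 2, 0, 3, 4, 2, 2, 2, 4, 2, 0, 2, 4, 2, 2, 2, 0],
  [3, 1, 2, 2, 0, 3, 4, 2, 2, 2, 4, 2, 0, 2, 4, 2, 2, 2, 1],
  [3, 1, 3, 3, 0, 2, 2, 2, 0, 2, 4, 2, 4, 3, 0, 4, 3, 0, 4],
  [3, 1, 3, 3, 0, 2, 2, 2, 0, 2, 4, 2, 4, 3, 0, 4, 3, 1, 4],
  [3, 1, 3, 3, 0, 2, 2, 2, 4, 2, 0, 3, 4, 3, 4, 2, 2, 2, 0],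
  [3, 1, 3, 3, 0, 2, 2, 2, 4, 2, 0, 3, 4, 3, 4, 2, 2, 2, 1],
  [3, 4, 1, 2, 0, 3, 4, 3, 3, 4, 2, 2, 2, 0, 4, 3, 4, 2, 0],
  [3, 4, 1, 2, 0, 3, 4, 3, 3, 4, 2, 2, 2, 0, 4, 3, 4, 2, 1],
  [4, 2, 2, 1, 2, 2, 4, 3, 3, 4, 2, 2, 0, 4, 2, 2, 4, 3, 3],
  [4, 2, 2, 1, 2, 2, 4, 3, 3, 4, 2, 2, 1, 4, 2, 2, 4, 3, 3],
  [4, 3, 1, 3, 0, 3, 3, 0, 4, 2, 4, 2, 4, 2, 2, 0, 3, 3, 0],
  [4, 3, 1, 3, 0, 3, 3, 0, 4, 2, 4, 2, 4, 2, 2, 0, 3, 3, 1],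
  [4, 3, 3, 1, 3, 4, 3, 3, 0, 4, 3, 4, 3, 3, 4, 3, 0, 3, 0],
  [4, 3, 3, 1, 3, 4, 3, 3, 0, 4, 3, 4, 3, 3, 4, 3, 0, 3, 1],
  [4, 3, 4, 3, 3, 0, 2, 0, 2, 4, 2, 4, 3, 0, 3, 3, 4, 3, 3],
  [4, 3, 4, 3, 3, 0, 2, 0, 2, 4, 2, 4, 3, 1, 3, 3, 4, 3, 3],
  [1, 2, 2, 1, 2, 2, 0, 2, 2, 4, 3, 4, 3, 3, 4, 3, 0, 2, 2, 0],
  [1, 2, 2, 1, 2, 2, 0, 2, 2, 4, 3, 4, 3, 3, 4, 3, 0, 2, 2, 1],
  [1, 2, 2, 1, 2, 2, 4, 3, 3, 0, 3, 0, 4, 2, 4, 3, 0, 4, 3, 0],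
  [1, 2, 2, 1, 2, 2, 4, 3, 3, 0, 3, 0, 4, 2, 4, 3, 0, 4, 3, 1],
  [1, 2, 2, 4, 3, 0, 2, 4, 2, 2, 0, 2, 2, 4, 3, 0, 4, 2, 2, 0],
  [1, 2, 2, 4, 3, 0, 2, 4, 2, 2, 0, 2, 2, 4, 3, 0, 4, 2, 2, 1],
  [1, 2, 4, 1, 2, 0, 3, 0, 4, 2, 4, 2, 2, 4, 3, 3, 0, 3, 3, 0],
  [1, 2, 4, 1, 2, 0, 3, 0, 4, 2, 4, 2, 2, 4, 3, 3, 0, 3, 3, 1],
  [1, 2, 4, 2, 1, 3, 0, 2, 2, 4, 3, 4, 3, 3, 4, 3, 0, 2, 2, 0],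
  [1, 2, 4, 2, 1, 3, 0, 2, 2, 4, 3, 4, 3, 3, 4, 3, 0, 2, 2, 1],
  [1, 2, 4, 2, 2, 0, 2, 0, 4, 3, 3, 4, 2, 2, 4, 2, 0, 3, 3, 4],
  [1, 2, 4, 2, 2, 0, 2, 0, 4, 3, 3, 4, 2, 2, 4, 2, 1, 3, 3, 4],
  [1, 3, 3, 3, 1, 2, 0, 3, 3, 4, 2, 4, 2, 2, 4, 3, 3, 0, 3, 0],
  [1, 3, 3, 3, 1, 2, 0, 3, 3, 4, 2, 4, 2, 2, 4, 3, 3, 0, 3, 1],
  [1, 3, 3, 4, 1, 2, 4, 3, 3, 0, 2, 2, 2, 4, 2, 0, 3, 4, 3, 0],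
  [1, 3, 3, 4, 1, 2, 4, 3, 3, 0, 2, 2, 2, 4, 2, 0, 3, 4, 3, 1],
  [1, 3, 3, 4, 1, 2, 4, 3, 3, 0, 2, 2, 2, 4, 3, 3, 0, 3, 3, 0],
  [1, 3, 3, 4, 1, 2, 4, 3, 3, 0, 2, 2, 2, 4, 3, 3, 0, 3, 3, 1],
  [1, 3, 3, 4, 1, 2, 4, 3, 3, 0, 4, 2, 2, 2, 4, 2, 0, 3, 3, 0],
  [1, 3, 3, 4, 1, 2, 4, 3, 3, 0, 4, 2, 2, 2, 4, 2, 0, 3, 3, 1],
  [2, 2, 1, 3, 3, 0, 2, 2, 2, 4, 2, 0, 3, 4, 3, 4, 2, 2, 2, 0],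
  [2, 2, 1, 3, 3, 0, 2, 2, 2, 4, 2, 0, 3, 4, 3, 4, 2, 2, 2, 1],
  [2, 4, 1, 3, 1, 2, 4, 2, 2, 4, 3, 3, 4, 3, 0, 3, 3, 0, 4, 3],
  [2, 4, 1, 3, 1, 2, 4, 2, 2, 4, 3, 3, 4, 3, 0, 3, 3, 1, 4, 3],
  [3, 1, 3, 3, 1, 2, 2, 0, 4, 2, 2, 0, 4, 3, 4, 3, 4, 3, 0, 2],
  [3, 1, 3, 3, 1, 2, 2, 0, 4, 2, 2, 0, 4, 3, 4, 3, 4, 3, 1, 2],
  [3, 3, 3, 4, 3, 0, 2, 4, 2, 4, 2, 2, 2, 0, 3, 3, 0, 3, 3, 0],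
  [3, 3, 3, 4, 3, 0, 2, 4, 2, 4, 2, 2, 2, 0, 3, 3, 0, 3, 3, 1],
  [4, 2, 2, 4, 3, 3, 0, 2, 2, 2, 0, 2, 2, 2, 4, 3, 4, 3, 3, 4],
  [4, 2, 2, 4, 3, 3, 0, 2, 2, 2, 1, 2, 2, 2, 4, 3, 4, 3, 3, 4],
  [4, 3, 1, 2, 2, 0, 3, 3, 4, 3, 4, 2, 4, 2, 4, 2, 4, 2, 0, 2],
  [4, 3, 1, 2, 2, 0, 3, 3, 4, 3, 4, 2, 4, 2, 4, 2, 4, 2, 1, 2],
  [4, 3, 3, 3, 4, 2, 0, 3, 3, 4, 2, 2, 2, 4, 2, 2, 0, 2, 2, 4],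
  [4, 3, 3, 3, 4, 2, 0, 3, 3, 4, 2, 2, 2, 4, 2, 2, 1, 2, 2, 4],
  [4, 3, 3, 3, 4, 2, 0, 3, 3, 4, 3, 4, 3, 3, 0, 4, 3, 3, 4, 2],
  [4, 3, 3, 3, 4, 2, 0, 3, 3, 4, 3, 4, 3, 3, 1, 4, 3, 3, 4, 2],
  [4, 3, 4, 2, 1, 2, 0, 4, 3, 4, 2, 4, 2, 2, 4, 3, 3, 4, 3, 0],
  [4, 3, 4, 2, 1, 2, 0, 4, 3, 4, 2, 4, 2, 2, 4, 3, 3, 4, 3, 1],
  [4, 3, 4, 3, 4, 0, 3, 3, 0, 2, 0, 4, 2, 4, 2, 2, 0, 2, 2, 4],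
  [4, 3, 4, 3, 4, 0, 3, 3, 0, 2, 0, 4, 2, 4, 2, 2, 1, 2, 2, 4],
  [1, 2, 2, 1, 3, 3, 0, 4, 3, 3, 0, 4, 2, 4, 2, 4, 2, 0, 2, 2, 2],
  [1, 2, 2, 1, 3, 3, 0, 4, 3, 3, 0, 4, 2, 4, 2, 4, 2, 1, 2, 2, 2],
  [1, 2, 4, 2, 1, 2, 2, 4, 2, 2, 2, 4, 2, 0, 2, 4, 2, 2, 2, 0, 2],
  [1, 2, 4, 2, 1, 2, 2, 4, 2, 2, 2, 4, 2, 0, 2, 4, 2, 2, 2, 1, 2],
  [1, 2, 4, 2, 2, 4, 2, 4, 2, 0, 3, 4, 3, 3, 4, 3, 0, 2, 2, 0, 2],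
  [1, 2, 4, 2, 2, 4, 2, 4, 2, 0, 3, 4, 3, 3, 4, 3, 0, 2, 2, 1, 2],
  [1, 3, 3, 3, 4, 2, 0, 2, 4, 2, 2, 2, 4, 2, 2, 0, 2, 4, 2, 0, 2],
  [1, 3, 3, 3, 4, 2, 0, 2, 4, 2, 2, 2, 4, 2, 2, 0, 2, 4, 2, 1, 2],
  [2, 2, 1, 3, 3, 1, 2, 2, 0, 4, 2, 2, 0, 4, 3, 4, 3, 4, 3, 0, 2],
  [2, 2, 1, 3, 3, 1, 2, 2, 0, 4, 2, 2, 0, 4, 3, 4, 3, 4, 3, 1, 2],
  [2, 4, 2, 2, 1, 3, 3, 0, 2, 2, 0, 2, 4, 2, 4, 3, 0, 4, 3, 3, 0],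
  [2, 4, 2, 2, 1, 3, 3, 0, 2, 2, 0, 2, 4, 2, 4, 3, 0, 4, 3, 3, 1],
  [3, 1, 2, 4, 2, 1, 2, 2, 0, 4, 2, 2, 0, 4, 3, 4, 2, 2, 0, 3, 3],
  [3, 1, 2, 4, 2, 1, 2, 2, 0, 4, 2, 2, 0, 4, 3, 4, 2, 2, 1, 3, 3],
  [3, 1, 3, 1, 3, 4, 3, 3, 4, 3, 0, 4, 3, 3, 4, 3, 0, 3, 3, 4, 2],
  [3, 1, 3, 1, 3, 4, 3, 3, 4, 3, 0, 4, 3, 3, 4, 3, 1, 3, 3, 4, 2],
  [3, 1, 3, 3, 3, 4, 3, 0, 3, 4, 2, 2, 2, 4, 3, 3, 0, 3, 4, 3, 0],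
  [3, 1, 3, 3, 3, 4, 3, 0, 3, 4, 2, 2, 2, 4, 3, 3, 0, 3, 4, 3, 1],
  [3, 1, 3, 4, 3, 1, 2, 4, 2, 2, 0, 2, 4, 3, 3, 4, 3, 3, 4, 3, 0],
  [3, 1, 3, 4, 3, 1, 2, 4, 2, 2, 0, 2, 4, 3, 3, 4, 3, 3, 4, 3, 1],
  [3, 1, 3, 4, 3, 1, 3, 3, 4, 2, 2, 2, 4, 3, 0, 3, 4, 2, 2, 2, 0],
  [3, 1, 3, 4, 3, 1, 3, 3, 4, 2, 2, 2, 4, 3, 0, 3, 4, 2, 2, 2, 1],
  [4, 3, 3, 1, 2, 4, 3, 3, 4, 3, 3, 0, 4, 3, 4, 2, 2, 2, 0, 3, 0],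
  [4, 3, 3, 1, 2, 4, 3, 3, 4, 3, 3, 0, 4, 3, 4, 2, 2, 2, 0, 3, 1],
  [1, 2, 2, 1, 2, 2, 1, 2, 0, 3, 4, 2, 4, 2, 2, 4, 3, 3, 0, 3, 3, 0],
  [1, 2, 2, 1, 2, 2, 1, 2, 0, 3, 4, 2, 4, 2, 2, 4, 3, 3, 0, 3, 3, 1],
  [1, 3, 1, 2, 4, 2, 2, 0, 3, 3, 0, 4, 3, 4, 2, 2, 0, 2, 2, 0, 2, 0],
  [1, 3, 1, 2, 4, 2, 2, 0, 3, 3, 0, 4, 3, 4, 2, 2, 0, 2, 2, 0, 2, 1],
  [1, 3, 3, 3, 1, 3, 1, 2, 4, 2, 2, 4, 2, 2, 4, 2, 2, 0, 4, 3, 0, 3],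
  [1, 3, 3, 3, 1, 3, 1, 2, 4, 2, 2, 4, 2, 2, 4, 2, 2, 0, 4, 3, 1, 3],
  [1, 3, 3, 3, 4, 2, 1, 2, 4, 2, 2, 2, 4, 2, 2, 0, 2, 4, 2, 0, 3, 3],
  [1, 3, 3, 3, 4, 2, 1, 2, 4, 2, 2, 2, 4, 2, 2, 0, 2, 4, 2, 1, 3, 3],
  [2, 1, 3, 3, 4, 3, 1, 2, 0, 2, 2, 2, 4, 3, 3, 4, 3, 3, 0, 4, 2, 0],
  [2, 1, 3, 3, 4, 3, 1, 2, 0, 2, 2, 2, 4, 3, 3, 4, 3, 3, 0, 4, 2, 1],
  [2, 2, 1, 3, 4, 3, 1, 3, 3, 4, 2, 2, 2, 4, 3, 0, 3, 4, 2, 2, 2, 0],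
  [2, 2, 1, 3, 4, 3, 1, 3, 3, 4, 2, 2, 2, 4, 3, 0, 3, 4, 2, 2, 2, 1],
  [2, 4, 1, 2, 1, 3, 3, 0, 4, 3, 3, 4, 2, 2, 0, 2, 2, 0, 2, 2, 4, 3],
  [2, 4, 1, 2, 1, 3, 3, 0, 4, 3, 3, 4, 2, 2, 0, 2, 2, 1, 2, 2, 4, 3],
  [2, 4, 3, 3, 1, 3, 4, 2, 2, 0, 2, 4, 2, 4, 2, 0, 4, 3, 3, 4, 3, 4],
  [2, 4, 3, 3, 1, 3, 4, 2, 2, 0, 2, 4, 2, 4, 2, 1, 4, 3, 3, 4, 3, 4],
  [2, 4, 3, 3, 3, 1, 3, 0, 2, 2, 4, 3, 4, 3, 0, 3, 0, 4, 3, 4, 3, 4],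
  [2, 4, 3, 3, 3, 1, 3, 0, 2, 2, 4, 3, 4, 3, 0, 3, 1, 4, 3, 4, 3, 4],
  [3, 1, 3, 3, 3, 1, 3, 0, 2, 2, 4, 3, 4, 3, 3, 4, 2, 2, 0, 2, 0, 2],
  [3, 1, 3, 3, 3, 1, 3, 0, 2, 2, 4, 3, 4, 3, 3, 4, 2, 2, 0, 2, 1, 2],
  [3, 3, 3, 4, 3, 3, 1, 3, 4, 3, 3, 0, 4, 3, 4, 3, 3, 4, 3, 0, 3, 0],
  [3, 3, 3, 4, 3, 3, 1, 3, 4, 3, 3, 0, 4, 3, 4, 3, 3, 4, 3, 0, 3, 1],
  [3, 4, 3, 3, 3, 4, 3, 0, 2, 2, 4, 2, 2, 2, 4, 3, 3, 0, 3, 3, 4, 2],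
  [3, 4, 3, 3, 3, 4, 3, 0, 2, 2, 4, 2, 2, 2, 4, 3, 3, 1, 3, 3, 4, 2],
  [3, 4, 3, 3, 4, 2, 2, 0, 2, 2, 2, 0, 2, 2, 2, 4, 2, 4, 2, 2, 4, 2],
  [3, 4, 3, 3, 4, 2, 2, 0, 2, 2, 2, 1, 2, 2, 2, 4, 2, 4, 2, 2, 4, 2],
  [4, 1, 2, 4, 1, 2, 4, 2, 2, 0, 2, 2, 0, 2, 2, 0, 4, 3, 4, 2, 2, 0],
  [4, 1, 2, 4, 1, 2, 4, 2, 2, 0, 2, 2, 0, 2, 2, 0, 4, 3, 4, 2, 2, 1],
  [4, 2, 1, 2, 2, 1, 2, 2, 0, 4, 2, 4, 2, 0, 2, 4, 2, 2, 4, 3, 0, 3],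
  [4, 2, 1, 2, 2, 1, 2, 2, 0, 4, 2, 4, 2, 0, 2, 4, 2, 2, 4, 3, 1, 3],
  [4, 2, 1, 3, 3, 1, 3, 0, 4, 3, 4, 3, 4, 3, 0, 2, 2, 2, 4, 2, 0, 3],
  [4, 2, 1, 3, 3, 1, 3, 0, 4, 3, 4, 3, 4, 3, 0, 2, 2, 2, 4, 2, 1, 3],
  [4, 3, 3, 1, 2, 4, 3, 3, 0, 3, 0, 4, 2, 2, 4, 2, 4, 2, 0, 4, 2, 4],
  [4, 3, 3, 1, 2, 4, 3, 3, 0, 3, 0, 4, 2, 2, 4, 2, 4, 2, 1, 4, 2, 4],
  [4, 3, 3, 3, 1, 2, 1, 2, 4, 2, 0, 3, 4, 3, 0, 3, 0, 3, 4, 3, 3, 4],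
  [4, 3, 3, 3, 1, 2, 1, 2, 4, 2, 0, 3, 4, 3, 0, 3, 1, 3, 4, 3, 3, 4],
  [3, 3, 4, 3, 3, 1, 3, 4, 2, 2, 0, 2, 4, 2, 4, 2, 0, 4, 3, 3, 4, 3, 4],
  [3, 3, 4, 3, 3, 1, 3, 4, 2, 2, 0, 2, 4, 2, 4, 2, 1, 4, 3, 3, 4, 3, 4],
  [3, 4, 3, 4, 3, 3, 4, 1, 2, 4, 2, 4, 2, 0, 2, 2, 4, 3, 0, 3, 3, 4, 3],
  [3, 4, 3, 4, 3, 3, 4, 1, 2, 4, 2, 4, 2, 0, 2, 2, 4, 3, 1, 3, 3, 4, 3],
  [1, 2, 1, 3, 4, 3, 1, 2, 1, 2, 4, 2, 4, 2, 4, 2, 2, 0, 2, 0, 3, 4, 3, 3],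
  [1, 2, 1, 3, 4, 3, 1, 2, 1, 2, 4, 2, 4, 2, 4, 2, 2, 0, 2, 1, 3, 4, 3, 3]]
/-- tables for `c125` -/
def c125V : List ℕ := [0x98188308580b6178160290be0e82c8600ae0b82a8540500fc1201809e05c268630921282584803c0ec1e81208609c208110a40542283108c1681c82106802c110370660281e00905e1580d85d05607c2e053084014098510340d41c00805411c0780305a08c0c85009c0081f00e04a1102000103a0500680006c0c81802000e010130060380580800c, 0x981883082206215c2e8180780d02c8350bc00c2a83906403c0002909e084240630921282584d03c1180d01f0860201581b03a0981185b0760dc2a0170740502c05a06614c2f80605e0700882c0820482800a0400f81280c07a1802702708811c1f82e0801140c85c070058028360260a8168010a402c0682401c0a00204200e0c00a8090ac00808051, 0x981843101503e1782e8040540282c83e0ae1382a85406e02c0403009e158240630961282484d08e0ec1683100e0001582306c1600d81208c0c81c81c0a60fc130280660e82205005e05c2282c08216c030340180d412820080014018240be0780a03807a0440c80905c0083001d0260f00d00101c03c068270a41680c0510860a41105c04205808042]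
/-- chain for `c125` -/
def c125BS : List (ℕ × ℕ × ℕ × ℕ) := [
  (12, 64, 0x4000000062ee800062ee80004000000040000000e5c8800112a0000040000000400000004000000122c6800040000000e5c880004000000122c68000e5c880004000000040000000400000004000000122c68000400000004630800040000000d800000122c68000d800000046308000d80000005b200000400000004000000062ee8000400000004630800040000000400000004000000040000000400000005b20000040000000e5c88000400000004000000040000000400000004000000122c6800040000000400000004000000122c68000400000004000000112a0000046308000400000004000000040000000400000004000000112a00000400000004000000040000000400000004000000040000000d80000004000000040000000400000004000000122c6800040000000400000005b200000400000004000000112a00000400000004000000040000000400000004000000122c68000400000004000000040000000400000004000000062ee8000400000004000000040000000400000005b2000004000000040000,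 0x8b76e000040000000400000004000000040000),
  (64, 2, 0x2ef2fc590639ef6e0639ef6e37b3d32537034a1f1cd586892cadfb2037b3d32502c53bbe02c53bbe38fd523f02c53bbe1cd586891bcce34f38fd523f0fba7472304e78942ef2fc5902c53bbe2ef2fc5938fd523f02c53bbe2996dc121257304711bd0bcf38fd523f1c45b67d1ce5538e33a8010f1d548194117f21c337034a1f0179b04d02c53bbe272d71bf1a664c0705fbc4341a664c0702c53bbe1a664c071d54819402c53bbe06c2334302c53bbe37b3d3252ef2fc5902c53bbe37b3d32538fd523f117f21c32ef2fc5937b3d32538fd523f2ef2fc59117f21c3357f0628272d71bf1a664c07117f21c3304e789418405c231a664c07141cf4de03b638c61a664c0737b3d32537b3d32502c53bbe2ef2fc5933a8010f02c53bbe1bcce34f02c53bbe2abde6ee38fd523f1a664c0737b3d325013fbdf529315c2d117f21c3141cf4de02c53bbe2abde6ee02c53bbe117f21c302c53bbe24a24e8e379df2ed05fbc434117f21c3117f21c302c53bbe1f3554b21a664c0729315c2d2ef2fc592ef2fc591944a1ee02c53bbe16cbd61f,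 0x2b3b7d8cc1a664c071a664c0702c53bbe2abde6ee)]
/-- last table for `c125` -/
def c125T : ℕ := 0x1c507ff61c77ef8c00c7e8dc0e06a3ac2eec57823205a68339b495730ef19afb2dbda8a121be72b138bb1d4f13a1e1123205a68332f8aef038bb1d4f18f5572b2ef4c55c1c507ff62949cca82b9b6e9d38bb1d4f2dbda8a1117e293418314c3e2737e55438bb1d4f30115f550a5b06db03bd87390af38b0920e3fdf12b0f9fd51a1acde01b54596d2ffcaaa8141d24263a31c7d216d9757d13a1e11216d9757d2cb6904911246de7080624672949cca802f443a31c3d90b52dbda8a10d186e3d1ccb1d82247059d226fda2140ead8e9c38bb1d4f029294ef20e3fdf13a157a512451eb5603c8295a38aafa71222750e606045e7a03c8295a2e0dba2c346679d33ad676c30ef19afb0ead8e9c13a1e112029294ef03bd8739347b164d1ec24cfa2e5598811c0ee23c38bb1d4f02e4e7eb0ef19afb0c5ea510103da9fc05d0db5e2e0dba2c13a1e1123a1fbd212a4e30eb2c34b6d514124cf5254c5665024cf7b72cfef1a31593e35620e3fdf12949cca8141da4ee03c8295a2a5f273c029294ef2b9b6e9d2afb6d2221be72b129a4aa3f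
/-- ranks for `c125` -/
def c125R : ℕ := 0xa61042c83f00c038310290720800284c0360d82506302c0240d0510bc1741285c09a0ec1784e0741840e8460380c42b03806e154090580561242d8210200042f80005c01c04043004108078470880442282a02e0d02904f0160882d01404c12c1a8500c00640501f060078138030ae04c0a84007a0301681801a0c8198040580f81e05405012012023
/-- order for `c125` -/
def c125O : ℕ := 0xa81742301b06a13c2704c0720843083c0261041f0040c60942801c0481202585803c1541d0020581101482b0600b8310100c00180780509411c2d84007e1580e826012028210170920cc068070760a02e00302a07c268010000881c05a030058228430ae1440d00c04e14c088200240f41503705a1780580e0460642903106417c2c8080280bc1b034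

theorem c125_le : Nat.card (cenA [[0, 0, 2, 2, 2], [4, 1, 2, 2, 0, 4, 3, 0, 2, 2, 2, 4, 2, 2, 2, 4, 3], [0, 2, 4, 3, 3, 4, 3, 3, 4, 2, 2, 4, 2, 1]]) ≤ 128 :=
  card_cenA_le (VS := c125V) (bs := c125BS) (T := c125T) (R := c125R) (O := c125O) (by decide +kernel) (by decide +kernel)



/-! ### elements -/

/-- `b = aτ` -/
noncomputable abbrev b : H0 := hw wb
/-- `x1` -/
noncomputable abbrev x1 : H0 := hw wx1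
/-- `x2` -/
noncomputable abbrev x2 : H0 := hw wx2

theorem b_eq : b = a * τ := by
  have h : hw ([2, 2, 2] ++ [0, 0]) = b := hw_eq (by decide +kernel)
  rw [← h, hw_append, hw_a, hw_τ]



theorem d_eq : hw wd = d := rfl

theorem τ_eq : hw wt = τ := hw_τ

/-- two factors -/
theorem eq22 {p q p' q' : List ℕ} (h : eqw (p ++ q) (p' ++ q') = true) : hw p * hw q = hw p' * hw q' := by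
  have h1 := hw_eq h
  rwa [hw_append, hw_append] at h1

theorem eq21 {p q p' : List ℕ} (h : eqw (p ++ q) p' = true) : hw p * hw q = hw p' := by
  have h1 := hw_eq h
  rwa [hw_append] at h1

theorem eq23 {p q p' q' r' : List ℕ} (h : eqw (p ++ q) (p' ++ (q' ++ r')) = true) :
    hw p * hw q = hw p' * (hw q' * hw r') := by
  have h1 := hw_eq h
  rwa [hw_append, hw_append, hw_append] at h1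

theorem eq24 {p q p' q' r' s' : List ℕ} (h : eqw (p ++ q) (p' ++ (q' ++ (r' ++ s'))) = true) :
    hw p * hw q = hw p' * (hw q' * (hw r' * hw s')) := by
  have h1 := hw_eq h
  rwa [hw_append, hw_append, hw_append, hw_append] at h1

/-- the commutator of two words -/
theorem eqc {u v p : List ℕ} (h : eqw (u ++ v) (p ++ (v ++ u)) = true) : ⁅hw u, hw v⁆ = hw p := by
  have h1 := eq23 h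
  rw [commutatorElement_def, h1]
  group

theorem eqct {u v p : List ℕ} (h : eqw (u ++ v) ((wt ++ p) ++ (v ++ u)) = true) : ⁅hw u, hw v⁆ = τ * hw p := by
  rw [eqc h, hw_append, τ_eq]

/-! ### facts about `b` -/

theorem b_sq : b * b = 1 := eq21 (p' := []) (by decide +kernel)

theorem b_ne_one : b ≠ 1 := hw_ne (b := []) (by decide +kernel) (by decide +kernel) (p := 17) (by norm_num)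
  (by decide +kernel)

theorem b_ne_τ : b ≠ τ := by
  rw [← hw_τ]
  exact hw_ne (by decide +kernel) (by decide +kernel) (p := 17) (by norm_num) (by decide +kernel)

/-- the words commuting with `b` -/
theorem comm_b : ∀ w ∈ [w2, w3, w4, w5, w8, w37, w48, w437, w278, wx1, wx2], hw w * b = b * hw w := by
  have h : [w2, w3, w4, w5, w8, w37, w48, w437, w278, wx1, wx2].all (fun w => eqw (w ++ wb) (wb ++ w)) = true := by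
    decide +kernel
  intro w hw'
  exact eq22 (List.all_eq_true.1 h w hw')

/-! ### facts for `x1` -/

theorem x1_conj : d * hw wh1 = hw wh1 * x1 := by
  rw [← d_eq]; exact eq22 (by decide +kernel)

theorem x1_sq : x1 * x1 = 1 := eq21 (p' := []) (by decide +kernel)

theorem d1_b : hw u1_b * x1 = x1 * hw u1_b ∧ hw v1_b * x1 = x1 * hw v1_b ∧ ⁅hw u1_b, hw v1_b⁆ = b :=
  ⟨eq22 (by decide +kernel), eq22 (by decide +kernel), eqc (by decide +kernel)⟩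

theorem d1_2 : hw u1_2 * x1 = x1 * hw u1_2 ∧ hw v1_2 * x1 = x1 * hw v1_2 ∧ ⁅hw u1_2, hw v1_2⁆ = τ * hw w2 :=
  ⟨eq22 (by decide +kernel), eq22 (by decide +kernel), eqct (by decide +kernel)⟩

theorem d1_4 : hw u1_4 * x1 = x1 * hw u1_4 ∧ hw v1_4 * x1 = x1 * hw v1_4 ∧ ⁅hw u1_4, hw v1_4⁆ = τ * hw w4 :=
  ⟨eq22 (by decide +kernel), eq22 (by decide +kernel), eqct (by decide +kernel)⟩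

theorem d1_5 : hw u1_5 * x1 = x1 * hw u1_5 ∧ hw v1_5 * x1 = x1 * hw v1_5 ∧ ⁅hw u1_5, hw v1_5⁆ = τ * hw w5 :=
  ⟨eq22 (by decide +kernel), eq22 (by decide +kernel), eqct (by decide +kernel)⟩

theorem d1_37 : hw u1_37 * x1 = x1 * hw u1_37 ∧ hw v1_37 * x1 = x1 * hw v1_37 ∧ ⁅hw u1_37, hw v1_37⁆ = hw w37 :=
  ⟨eq22 (by decide +kernel), eq22 (by decide +kernel), eqc (by decide +kernel)⟩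

/-- `w1 = s2 s7 s8` commutes with `s2`, `s4`, `s5`, `s3 s7` -/
theorem w278_comm : ∀ w ∈ [w2, w4, w5, w37], hw w278 * hw w = hw w * hw w278 := by
  have h : [w2, w4, w5, w37].all (fun w => eqw (w278 ++ w) (w ++ w278)) = true := by decide +kernel
  intro w hw'
  exact eq22 (List.all_eq_true.1 h w hw')

theorem w278_x1 : x1 * hw w278 = hw w278 * (x1 * b) := eq23 (by decide +kernel)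

/-- `s8 = s3 s7 · s5 · τ · x1 · b` -/
theorem w8_eq : hw w8 = hw w37 * hw w5 * τ * x1 * b := by
  have h : hw w8 = hw (w37 ++ w5 ++ wt ++ wx1 ++ wb) := hw_eq (by decide +kernel)
  rw [hw_append, hw_append, hw_append, hw_append, τ_eq] at h
  exact h

theorem w48_eq : hw w48 = hw w4 * hw w8 := (eq21 (by decide +kernel)).symm

theorem w437_eq : hw w437 = hw w4 * hw w37 := (eq21 (by decide +kernel)).symm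

/-! ### facts for `x2` -/

theorem x2_conj : d * hw wh2 = hw wh2 * x2 := by
  rw [← d_eq]; exact eq22 (by decide +kernel)

theorem x2_sq : x2 * x2 = 1 := eq21 (p' := []) (by decide +kernel)

theorem d2_b : hw u2_b * x2 = x2 * hw u2_b ∧ hw v2_b * x2 = x2 * hw v2_b ∧ ⁅hw u2_b, hw v2_b⁆ = b :=
  ⟨eq22 (by decide +kernel), eq22 (by decide +kernel), eqc (by decide +kernel)⟩

theorem d2_2 : hw u2_2 * x2 = x2 * hw u2_2 ∧ hw v2_2 * x2 = x2 * hw v2_2 ∧ ⁅hw u2_2, hw v2_2⁆ = τ * hw w2 :=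
  ⟨eq22 (by decide +kernel), eq22 (by decide +kernel), eqct (by decide +kernel)⟩

theorem d2_5 : hw u2_5 * x2 = x2 * hw u2_5 ∧ hw v2_5 * x2 = x2 * hw v2_5 ∧ ⁅hw u2_5, hw v2_5⁆ = τ * hw w5 :=
  ⟨eq22 (by decide +kernel), eq22 (by decide +kernel), eqct (by decide +kernel)⟩

/-- `f = s3` commutes with `s2`, `s5` -/
theorem w3_comm : ∀ w ∈ [w2, w5], hw w3 * hw w = hw w * hw w3 := by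
  have h : [w2, w5].all (fun w => eqw (w3 ++ w) (w ++ w3)) = true := by decide +kernel
  intro w hw'
  exact eq22 (List.all_eq_true.1 h w hw')

theorem w3_sq : hw w3 * hw w3 = b := eq21 (by decide +kernel)

theorem w3_x2 : x2 * hw w3 = hw w3 * (x2 * b) := eq23 (by decide +kernel)

/-- `x2` commutes with `s2`, `s5` -/
theorem x2_comm : ∀ w ∈ [w2, w5], x2 * hw w = hw w * x2 := by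
  have h : [w2, w5].all (fun w => eqw (wx2 ++ w) (w ++ wx2)) = true := by decide +kernel
  intro w hw'
  exact eq22 (List.all_eq_true.1 h w hw')

theorem w48_x2 : hw w48 * x2 = x2 * (hw w48 * (τ * b)) := by
  rw [← hw_τ]; exact eq24 (by decide +kernel)

/-! ### the kill elements -/

theorem w2_sq : hw w2 * hw w2 = 1 := eq21 (p' := []) (by decide +kernel)
theorem w5_sq : hw w5 * hw w5 = 1 := eq21 (p' := []) (by decide +kernel)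
theorem w25 : hw w2 * hw w5 = hw w5 * hw w2 := eq22 (by decide +kernel)

theorem mem_K_w2 : hw w2 ∈ K := mem_K_of_par (by decide +kernel) (by decide +kernel)
theorem mem_K_w4 : hw w4 ∈ K := mem_K_of_par (by decide +kernel) (by decide +kernel)
theorem mem_K_w5 : hw w5 ∈ K := mem_K_of_par (by decide +kernel) (by decide +kernel)
theorem mem_K_w37 : hw w37 ∈ K := mem_K_of_par (by decide +kernel) (by decide +kernel)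
theorem mem_K_w437 : hw w437 ∈ K := mem_K_of_par (by decide +kernel) (by decide +kernel)
theorem mem_K_b : b ∈ K := mem_K_of_par (by decide +kernel) (by decide +kernel)
theorem not_mem_K_w8 : hw w8 ∉ K := not_mem_K_of_par (by decide +kernel) (by decide +kernel)
theorem not_mem_K_d : d ∉ K := by
  rw [← d_eq]; exact not_mem_K_of_par (by decide +kernel) (by decide +kernel)

/-! ### the centraliser of `b`, `s2`, `s5` -/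

theorem c3W_nodup : (c3W.map hw).Nodup := nodup_hw (p := 17) (by decide +kernel) (by norm_num) (by decide +kernel)

theorem c3W_comm : c3W.all (fun w => eqw (w ++ wb) (wb ++ w) && (eqw (w ++ w2) (w2 ++ w) && eqw (w ++ w5) (w5 ++ w)))
    = true := by decide +kernel

theorem mem_c3W {g : H0} (h1 : g * b = b * g) (h2 : g * hw w2 = hw w2 * g) (h5 : g * hw w5 = hw w5 * g) :
    ∃ w ∈ c3W, hw w = g := by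
  have hle : Nat.card (Subgroup.centralizer (wset [wb, w2, w5])) ≤ 2 * 128 := card_centralizer_le c125_le
  have hg : g ∈ Subgroup.centralizer (wset [wb, w2, w5]) := by
    rw [Subgroup.mem_centralizer_iff]
    rintro _ ⟨w, hw', rfl⟩
    simp only [List.mem_cons, List.not_mem_nil, or_false] at hw'
    rcases hw' with rfl | rfl | rfl
    · exact h1.symm
    · exact h2.symm
    · exact h5.symm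
  have hL : ∀ g ∈ c3W.map hw, g ∈ Subgroup.centralizer (wset [wb, w2, w5]) := by
    intro g hg
    obtain ⟨v, hv, rfl⟩ := List.mem_map.1 hg
    have h := List.all_eq_true.1 c3W_comm v hv
    simp only [Bool.and_eq_true] at h
    rw [Subgroup.mem_centralizer_iff]
    rintro _ ⟨w, hw', rfl⟩
    simp only [List.mem_cons, List.not_mem_nil, or_false] at hw'
    rcases hw' with rfl | rfl | rfl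
    · exact (eq22 h.1).symm
    · exact (eq22 h.2.1).symm
    · exact (eq22 h.2.2).symm
  have hlen : c3W.length = 2 * 128 := by decide +kernel
  have h := mem_of_card_le c3W_nodup hL (by rw [List.length_map, hlen]; exact hle) hg
  exact List.mem_map.1 h

/-- `h` maps `w` to `w s` modulo `b`. -/
def mv (h w s : List ℕ) : Bool := eqw (w ++ h) (h ++ (w ++ s)) || eqw (w ++ h) (h ++ (w ++ (s ++ wb)))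

theorem of_mv {h w s : List ℕ} (H : mv h w s = true) :
    ∃ β : H0, (β = 1 ∨ β = b) ∧ hw w * hw h = hw h * (hw w * hw s * β) := by
  rw [mv, Bool.or_eq_true] at H
  rcases H with H | H
  · refine ⟨1, Or.inl rfl, ?_⟩
    rw [mul_one]; exact eq23 H
  · refine ⟨b, Or.inr rfl, ?_⟩
    rw [mul_assoc (hw w)]; exact eq24 H

/-- `τ s2 s5` -/
def w025 : List ℕ := wt ++ (w2 ++ w5)

theorem w025_eq : hw w025 = τ * (hw w2 * hw w5) := by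
  rw [w025, hw_append, hw_append, τ_eq]

/-- the cases for `φ h` -/
theorem kill_a : c3W.all (fun h => mv h w48 [] || (mv h w48 wt || (mv h w4 w2 || mv h w37 w025))) = true := by
  decide +kernel

/-- the cases for `φ h * r` -/
theorem kill_b : c3W.all (fun h => mv h w8 [] || (mv h w437 w5 || (mv h w4 w2 || mv h w37 w025))) = true := by
  decide +kernel

end Cfsg.Agent.StandardComponent.HS.NoD4Facts
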