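import Cfsg.Agent.HN.ExtR
import Cfsg.Agent.StandardComponent.HS.NoD4Facts

set_option autoImplicit false

/-!
S1752, `|R| = 4`: the central involution `τ` of the component is not conjugate to `d`.

Let `r² = φ τ`, and let `r'` be the corresponding element for `φ d`.  Then `ρ = r' r` maps `τ ↦ d ↦ τ d` and
commutes with the commutators of elements of `C(d)`.  Two conjugates of such elements (`q` from `x1 ~ d`, `y` from
`x2 ~ d`) act on the Sylow 2-subgroup of `C(τ)` modulo `b` in incompatible ways.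
-/

namespace Cfsg.Agent.StandardComponent.HS.NoD4

open Cfsg.Agent.HN.Pres Cfsg.Agent.HN.HS100 Cfsg.Agent.HN.P1408 Cfsg.Agent.HN.H0Basic
open Cfsg.Agent.HN.Syl (d)
open Cfsg.Agent.HN.ExtR Cfsg.Agent.StandardComponent.HS.NoD4Facts
open Cfsg.Agent.HN
open scoped commutatorElement

variable {G : Type*} [Group G]

/-- `w ^ q = w'` for elements of `H0`. -/
def A (φ : H0 →* G) (q : G) (w w' : H0) : Prop := φ w * q = q * φ w'

section

variable {φ : H0 →* G} {q c : G} {w w' w'' v v' : H0}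

theorem A.mul (h : A φ q w w') (h' : A φ q v v') : A φ q (w * v) (w' * v') := by
  unfold A at *
  rw [map_mul, map_mul, mul_assoc, h', ← mul_assoc, h, mul_assoc]

theorem A.trans (h : A φ q w w') (h' : A φ c w' w'') : A φ (q * c) w w'' := by
  unfold A at *
  rw [← mul_assoc, h, mul_assoc, h', ← mul_assoc]

theorem A.inv (h : A φ q w w') : A φ q⁻¹ w' w := by
  unfold A at *
  rw [eq_inv_mul_iff_mul_eq, ← mul_assoc, ← h, mul_inv_cancel_right]

theorem A.unique (hi : Function.Injective φ) (h : A φ q w w') (h' : A φ q w w'') : w' = w'' :=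
  hi (mul_left_cancel (h.symm.trans h'))

theorem A.of {h : H0} (H : w * h = h * w') : A φ (φ h) w w' := by
  unfold A
  rw [← map_mul, H, map_mul]

theorem A.one : A φ q 1 1 := by
  unfold A
  rw [map_one, one_mul, mul_one]

theorem A.or {β : H0} (hb : A φ q b b) (hβ : β = 1 ∨ β = b) : A φ q β β := by
  rcases hβ with rfl | rfl
  · exact A.one
  · exact hb

end

/-- **the contradiction** -/
theorem kill {φ : H0 →* G} (hi : Function.Injective φ) {q c v : G} {w s β β' : H0} (hv : v = q * c)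
    (h1 : A φ q w (w * β)) (h2 : A φ c w (w * s * β')) (h3 : A φ v s (s * b)) (h4 : A φ q b b) (h5 : A φ c b b)
    (h6 : v * v = φ b) (hβ : β = 1 ∨ β = b) (hβ' : β' = 1 ∨ β' = b) (hw : w * b = b * w) (hs : s * b = b * s)
    (hs2 : s * s = 1) : False := by
  have hb2 : b * b = 1 := b_sq
  have hvb : A φ v b b := hv ▸ h4.trans h5
  have e1 : A φ v w (w * s * β' * β) := hv ▸ h1.trans (h2.mul (h5.or hβ))
  have e2 : A φ v (w * s * β' * β) (w * s * β' * β * (s * b) * β' * β) :=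
    ((e1.mul h3).mul (hvb.or hβ')).mul (hvb.or hβ)
  have e3 := e1.trans e2
  rw [h6] at e3
  have e4 : A φ (φ b) w w := A.of hw
  have e5 := e3.unique hi e4
  have e6 : w * s * β' * β * (s * b) * β' * β = w * b := by
    rcases hβ with rfl | rfl <;> rcases hβ' with rfl | rfl <;> try simp only [mul_one]
    · rw [mul_assoc w s, ← mul_assoc s s b, hs2, one_mul]
    · rw [mul_assoc (w * s) b, ← mul_assoc b s b, ← hs, mul_assoc s b b, hb2, mul_one, mul_assoc w s s, hs2, mul_one]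
    · rw [mul_assoc (w * s) b, ← mul_assoc b s b, ← hs, mul_assoc s b b, hb2, mul_one, mul_assoc w s s, hs2, mul_one]
    · rw [mul_assoc (w * s) b b, hb2, mul_one, mul_assoc w s, ← mul_assoc s s b, hs2, one_mul, mul_assoc (w * b) b b,
        hb2, mul_one]
  rw [e6] at e5
  exact b_ne_one (mul_eq_left.1 e5)

section

variable {φ : H0 →* G} {r : G} (E : Ext φ r)
include E

theorem r_conj' (h : H0) : ∃ h', r * φ h * r⁻¹ = φ h' ∧ sgn h' = sgn h := by
  rcases E.r_conj h with h1 | h1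
  · exact ⟨h, h1, rfl⟩
  · refine ⟨τ * h, h1, ?_⟩
    rw [map_mul, (mem_K_iff).1 τ_mem_K, one_mul]

theorem r_out {h : H0} (hh : h ∉ K) : r * φ h = φ τ * φ h * r := by
  rw [← map_mul]
  have e : h = (h * gz) * gz := by rw [mul_assoc, LocFromFusion.gz_sq, mul_one]
  have h1 := (E.rK _ (not_mem_K_iff hh)).eq
  have h2 : r * φ gz = φ (τ * gz) * r := by rw [← E.rz, inv_mul_cancel_right]
  conv_lhs => rw [e, map_mul, ← mul_assoc, h1, mul_assoc, h2, ← mul_assoc, ← map_mul, ← mul_assoc, τ_comm (h * gz),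
    mul_assoc, mul_assoc, LocFromFusion.gz_sq, mul_one]

/-- the commutator of two elements commuting with `φ τ` is in `φ K` -/
theorem comm_mem {g g' : G} (hg : Commute g (φ τ)) (hg' : Commute g' (φ τ)) : ∃ k ∈ K, ⁅g, g'⁆ = φ k := by
  obtain ⟨h, h1⟩ := E.cent g hg
  obtain ⟨h', h1'⟩ := E.cent g' hg'
  rcases h1 with rfl | rfl <;> rcases h1' with rfl | rfl
  · refine ⟨⁅h, h'⁆, ?_, ?_⟩
    · rw [mem_K_iff, map_commutatorElement, commutatorElement_eq_one_iff_mul_comm, mul_comm]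
    · rw [map_commutatorElement]
  · obtain ⟨k, hk, hk'⟩ := r_conj' E h⁻¹
    refine ⟨h * h' * k * h'⁻¹, ?_, ?_⟩
    · rw [mem_K_iff, map_mul, map_mul, map_mul, hk', map_inv, map_inv, mul_assoc (sgn h) , mul_comm (sgn h'),
        ← mul_assoc, mul_inv_cancel, one_mul, mul_inv_cancel]
    · rw [commutatorElement_def, map_mul, map_mul, map_mul, ← hk, map_inv, map_inv]
      group
  · obtain ⟨k, hk, hk'⟩ := r_conj' E h'
    refine ⟨h * k * h⁻¹ * h'⁻¹, ?_, ?_⟩
    · rw [mem_K_iff, map_mul, map_mul, map_mul, hk', map_inv, map_inv, mul_comm (sgn h), mul_assoc (sgn h'),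
        mul_inv_cancel, mul_one, mul_inv_cancel]
    · rw [commutatorElement_def, map_mul, map_mul, map_mul, ← hk, map_inv, map_inv]
      group
  · obtain ⟨k, hk, hk'⟩ := r_conj' E (h' * h⁻¹)
    refine ⟨h * k * h'⁻¹, ?_, ?_⟩
    · rw [mem_K_iff, map_mul, map_mul, hk', map_mul, map_inv, map_inv, mul_comm (sgn h'), ← mul_assoc,
        mul_inv_cancel, one_mul, mul_inv_cancel]
    · rw [commutatorElement_def, map_mul, map_mul, ← hk, map_mul, map_inv, map_inv]
      group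

/-- the square of an element commuting with `φ τ` is not `φ d` -/
theorem sq_ne {g : G} (hg : Commute g (φ τ)) : g * g ≠ φ d := by
  intro H
  apply not_mem_K_d
  obtain ⟨h, rfl | rfl⟩ := E.cent g hg
  · rw [← map_mul] at H
    rw [← E.inj H, mem_K_iff, map_mul]
    rcases Int.units_eq_one_or (sgn h) with h1 | h1 <;> rw [h1] <;> rfl
  · obtain ⟨k, hk, hk'⟩ := r_conj' E h
    have e : φ h * r * (φ h * r) = φ (h * k * τ) := by
      rw [map_mul, map_mul, ← hk, ← E.r2]
      group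
    rw [e] at H
    rw [← E.inj H, mem_K_iff, map_mul, map_mul, hk', (mem_K_iff).1 τ_mem_K, mul_one]
    rcases Int.units_eq_one_or (sgn h) with h1 | h1 <;> rw [h1] <;> rfl

theorem exists_rho0 (hc : IsConj (φ τ) (φ d)) : ∃ ρ : G, A φ ρ τ d ∧ A φ ρ d (τ * d) ∧
    ∀ u v : H0, u * d = d * u → v * d = d * v → A φ ρ ⁅u, v⁆ ⁅u, v⁆ := by
  obtain ⟨g, hg⟩ := isConj_iff.1 hc
  have hcom : ∀ w : H0, w * d = d * w → Commute (g⁻¹ * φ w * g) (φ τ) := by
    intro w hw'
    have h1 : φ w * (g * φ τ * g⁻¹) = (g * φ τ * g⁻¹) * φ w := by rw [hg, ← map_mul, hw', map_mul]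
    show g⁻¹ * φ w * g * φ τ = φ τ * (g⁻¹ * φ w * g)
    calc g⁻¹ * φ w * g * φ τ = g⁻¹ * (φ w * (g * φ τ * g⁻¹)) * g := by group
      _ = φ τ * (g⁻¹ * φ w * g) := by rw [h1]; group
  obtain ⟨r', hr'⟩ : ∃ r' : G, r' = g * r * g⁻¹ := ⟨_, rfl⟩
  have h1 : r' * r' = φ d := by
    rw [hr', ← hg, ← E.r2]; group
  have hrd : φ d * r' = r' * φ d := by rw [← h1, mul_assoc]
  have h3 : ∀ u v : H0, u * d = d * u → v * d = d * v → Commute r' (φ ⁅u, v⁆) := by
    intro u v hu hv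
    obtain ⟨k, hk, hk'⟩ := comm_mem E (hcom u hu) (hcom v hv)
    have e : φ ⁅u, v⁆ = g * φ k * g⁻¹ := by
      rw [← hk', map_commutatorElement, commutatorElement_def, commutatorElement_def]
      group
    rw [e, hr']
    exact (E.rK k hk).map (MulAut.conj g).toMonoidHom
  have h4 : φ τ * r' = φ d * r' * φ τ := by
    have hτ := hcom τ (τ_comm d).symm
    obtain ⟨h, hh⟩ := E.cent _ hτ
    by_cases hK : h ∈ K
    · exfalso
      have h5 : Commute (g⁻¹ * φ τ * g) r := by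
        rcases hh with hh | hh
        · rw [hh]; exact (E.rK h hK).symm
        · rw [hh]; exact (E.rK h hK).symm.mul_left (Commute.refl r)
      have h6 : Commute (φ τ) r' := by
        have h7 := h5.map (MulAut.conj g).toMonoidHom
        have e : (MulAut.conj g).toMonoidHom (g⁻¹ * φ τ * g) = φ τ := by
          show g * (g⁻¹ * φ τ * g) * g⁻¹ = φ τ
          group
        rw [e] at h7
        rw [hr']
        exact h7
      exact sq_ne E h6.symm h1
    · have h5 : (g⁻¹ * φ τ * g) * r = φ τ * r * (g⁻¹ * φ τ * g) := by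
        have h6 := r_out E hK
        have h7 : φ h * r = φ τ * r * φ h := by
          rw [mul_assoc (φ τ) r, h6, ← mul_assoc, ← mul_assoc, ← map_mul, τ_mul_τ, map_one, one_mul]
        rcases hh with hh | hh
        · rw [hh, h7]
        · rw [hh, ← mul_assoc, ← h7]
      rw [hr']
      calc φ τ * (g * r * g⁻¹) = g * ((g⁻¹ * φ τ * g) * r) * g⁻¹ := by group
        _ = g * (φ τ * r * (g⁻¹ * φ τ * g)) * g⁻¹ := by rw [h5]
        _ = (g * φ τ * g⁻¹) * (g * r * g⁻¹) * φ τ := by group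
        _ = φ d * (g * r * g⁻¹) * φ τ := by rw [hg]
  have hd := r_out E not_mem_K_d
  refine ⟨r' * r, ?_, ?_, ?_⟩
  · show φ τ * (r' * r) = r' * r * φ d
    rw [← mul_assoc, h4, hrd, mul_assoc r' r, hd, mul_assoc, mul_assoc, mul_assoc (φ τ), ← mul_assoc (φ d) (φ τ) r,
      ← map_mul, τ_comm d, map_mul, mul_assoc]
  · show φ d * (r' * r) = r' * r * φ (τ * d)
    have h5 : r * φ (τ * d) = φ d * r := by
      rw [map_mul, ← mul_assoc, (E.rK τ τ_mem_K).eq, mul_assoc, hd, ← mul_assoc, ← mul_assoc, ← map_mul, τ_mul_τ,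
        map_one, one_mul]
    rw [← mul_assoc, hrd, mul_assoc, mul_assoc, h5]
  · intro u v hu hv
    have hk : ⁅u, v⁆ ∈ K := by
      rw [mem_K_iff, map_commutatorElement, commutatorElement_eq_one_iff_mul_comm, mul_comm]
    have h5 : Commute (r' * r) (φ ⁅u, v⁆) := (h3 u v hu hv).mul_left (E.rK _ hk)
    exact h5.symm

theorem exists_rho (hc : IsConj (φ τ) (φ d)) {x y : H0} (hx : d * y = y * x) : ∃ ρ : G, A φ ρ τ x ∧
    A φ ρ x (τ * x) ∧ ∀ u v : H0, u * x = x * u → v * x = x * v → A φ ρ ⁅u, v⁆ ⁅u, v⁆ := by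
  obtain ⟨ρ, h1, h2, h3⟩ := exists_rho0 E hc
  have k1 : ∀ w : H0, A φ (φ y)⁻¹ w (y * w * y⁻¹) := by
    intro w
    show φ w * (φ y)⁻¹ = (φ y)⁻¹ * φ (y * w * y⁻¹)
    rw [map_mul, map_mul, map_inv]; group
  have k2 : ∀ w : H0, A φ (φ y) (y * w * y⁻¹) w := by
    intro w
    exact A.of (by group)
  have ex : y * x * y⁻¹ = d := by rw [← hx, mul_inv_cancel_right]
  have eτ : y * τ * y⁻¹ = τ := by rw [τ_comm y, mul_inv_cancel_right]
  refine ⟨(φ y)⁻¹ * ρ * φ y, ?_, ?_, ?_⟩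
  · have := k1 τ
    rw [eτ] at this
    have h5 := k2 x
    rw [ex] at h5
    exact (this.trans h1).trans h5
  · have h4 := k1 x
    rw [ex] at h4
    have h5 := k2 (τ * x)
    have e : y * (τ * x) * y⁻¹ = τ * d := by
      rw [← ex, ← mul_assoc, τ_comm y]; group
    rw [e] at h5
    exact (h4.trans h2).trans h5
  · intro u v hu hv
    have h4 := k1 ⁅u, v⁆
    have h5 := k2 ⁅u, v⁆
    have hcj : ∀ w : H0, w * x = x * w → (y * w * y⁻¹) * d = d * (y * w * y⁻¹) := by
      intro w hw'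
      rw [← ex]
      calc y * w * y⁻¹ * (y * x * y⁻¹) = y * (w * x) * y⁻¹ := by group
        _ = y * x * y⁻¹ * (y * w * y⁻¹) := by rw [hw']; group
    have h6 := h3 _ _ (hcj u hu) (hcj v hv)
    rw [← conjugate_commutatorElement] at h6
    exact (h4.trans h6).trans h5

/-- the elements `q`, `y` -/
theorem exists_q (hc : IsConj (φ τ) (φ d)) {x y W : H0} (hx : d * y = y * x) (hx2 : x * x = 1)
    (hxb : x * b = b * x) (hW : x * W = W * (x * b)) (hWb : b * W = W * b)
    (hb : ∃ u v : H0, u * x = x * u ∧ v * x = x * v ∧ ⁅u, v⁆ = b) :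
    ∃ q : G, A φ q τ (τ * b) ∧ A φ q x x ∧ A φ q b b ∧ (W * W = b → q * q = φ b) ∧
      ∀ u v : H0, u * x = x * u → v * x = x * v → ⁅u, v⁆ * W = W * ⁅u, v⁆ → A φ q ⁅u, v⁆ ⁅u, v⁆ := by
  obtain ⟨ρ, h1, h2, h3⟩ := exists_rho E hc hx
  have hρb : A φ ρ b b := by
    obtain ⟨u, v, hu, hv, e⟩ := hb
    rw [← e]; exact h3 u v hu hv
  have k1 : A φ (ρ⁻¹ * φ W * ρ) (τ * x) (τ * x * b) := (h2.inv.trans (A.of hW)).trans (h2.mul hρb)
  have k2 : A φ (ρ⁻¹ * φ W * ρ) x x := (h1.inv.trans (A.of (τ_comm W).symm)).trans h1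
  have k3 : A φ (ρ⁻¹ * φ W * ρ) b b := (hρb.inv.trans (A.of hWb)).trans hρb
  refine ⟨ρ⁻¹ * φ W * ρ, ?_, k2, k3, ?_, ?_⟩
  · have := k1.mul k2
    rwa [mul_assoc τ x x, hx2, mul_one, mul_assoc τ x b, hxb, mul_assoc τ, mul_assoc b, hx2, mul_one] at this
  · intro hWW
    have e : ρ⁻¹ * φ W * ρ * (ρ⁻¹ * φ W * ρ) = ρ⁻¹ * (φ (W * W) * ρ) := by rw [map_mul]; group
    rw [e, hWW, hρb, inv_mul_cancel_left]
  · intro u v hu hv huv
    have h4 := h3 u v hu hv
    exact (h4.inv.trans (A.of huv)).trans h4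

theorem A_r_in {w : H0} (h : w ∈ K) : A φ r w w := (E.rK w h).symm

theorem A_r_out {w : H0} (h : w ∉ K) : A φ r w (τ * w) := by
  show φ w * r = r * φ (τ * w)
  have h1 := r_out E h
  rw [map_mul, ← mul_assoc, (E.rK τ τ_mem_K).eq, mul_assoc, h1, ← mul_assoc, ← mul_assoc, ← map_mul, τ_mul_τ, map_one,
    one_mul]

/-- an element of `φ(H0)⟨r⟩` commuting with an even element -/
theorem comm_of_A {c : G} {h w : H0} (hc : c = φ h ∨ c = φ h * r) (hw' : w ∈ K) (H : A φ c w w) : h * w = w * h := by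
  rcases hc with rfl | rfl
  · apply E.inj
    rw [map_mul, map_mul]
    exact H.symm
  · apply E.inj
    rw [map_mul, map_mul]
    have h1 : φ w * (φ h * r) = φ h * r * φ w := H
    rw [mul_assoc (φ h), (E.rK w hw').eq, ← mul_assoc, ← mul_assoc] at h1
    exact (mul_right_cancel h1).symm

end

section

variable {φ : H0 →* G} {q : G} {w : H0}

theorem A.out (h1 : A φ q τ (τ * b)) (h2 : A φ q (τ * w) (τ * w)) (hw' : w * b = b * w) : A φ q w (w * b) := by
  have h := h1.mul h2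
  have e1 : τ * (τ * w) = w := by rw [← mul_assoc, τ_mul_τ, one_mul]
  have e2 : τ * b * (τ * w) = w * b := by
    rw [mul_assoc τ b, ← mul_assoc b τ w, τ_comm b, mul_assoc τ b w, ← mul_assoc τ τ, τ_mul_τ, one_mul, hw']
  rwa [e1, e2] at h

theorem A.flip (h : A φ q w (w * b)) (hb : A φ q b b) : A φ q (w * b) w := by
  have h1 := h.mul hb
  rwa [mul_assoc w b b, b_sq, mul_one] at h1

end

theorem b_or_mem_K {β : H0} (h : β = 1 ∨ β = b) : β ∈ K := by
  rcases h with rfl | rfl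
  · exact K.one_mem
  · exact mem_K_b

theorem w025_sq : hw w025 * hw w025 = 1 := eq21 (p' := []) (by decide +kernel)

theorem w025_b : hw w025 * b = b * hw w025 := eq22 (by decide +kernel)

theorem w025_mem_K : hw w025 ∈ K := mem_K_of_par (by decide +kernel) (by decide +kernel)

theorem τ_b : τ * b = b * τ := (τ_comm b).symm

theorem of_mv_nil {h w : List ℕ} (H : mv h w [] = true) :
    ∃ β : H0, (β = 1 ∨ β = b) ∧ hw w * hw h = hw h * (hw w * β) := by
  obtain ⟨β, hβ, h1⟩ := of_mv H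
  refine ⟨β, hβ, ?_⟩
  rw [hw_nil, mul_one] at h1
  exact h1

/-- **The exclusion of `d`.** -/
theorem false_of_d {φ : H0 →* G} {r : G} (E : Ext φ r) : ¬ IsConj (φ τ) (φ d) := by
  intro hc
  have cb := comm_b
  obtain ⟨q, q1, q2, q3, -, q5⟩ := exists_q E hc x1_conj x1_sq (cb wx1 (by simp)) w278_x1 (cb w278 (by simp)).symm
    ⟨hw u1_b, hw v1_b, d1_b⟩
  obtain ⟨y, y1, y2, y3, y4, y5⟩ := exists_q E hc x2_conj x2_sq (cb wx2 (by simp)) w3_x2 (cb w3 (by simp)).symm
    ⟨hw u2_b, hw v2_b, d2_b⟩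
  have hτw : ∀ {W w : H0}, W * w = w * W → τ * w * W = W * (τ * w) := by
    intro W w h
    rw [mul_assoc, ← h, ← mul_assoc, ← τ_comm W, mul_assoc]
  -- the action of `q`
  have qw2 : A φ q (hw w2) (hw w2 * b) := by
    have h := q5 _ _ d1_2.1 d1_2.2.1 (by rw [d1_2.2.2]; exact hτw (w278_comm w2 (by simp)))
    rw [d1_2.2.2] at h
    exact q1.out h (cb w2 (by simp))
  have qw4 : A φ q (hw w4) (hw w4 * b) := by
    have h := q5 _ _ d1_4.1 d1_4.2.1 (by rw [d1_4.2.2]; exact hτw (w278_comm w4 (by simp)))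
    rw [d1_4.2.2] at h
    exact q1.out h (cb w4 (by simp))
  have qw5 : A φ q (hw w5) (hw w5 * b) := by
    have h := q5 _ _ d1_5.1 d1_5.2.1 (by rw [d1_5.2.2]; exact hτw (w278_comm w5 (by simp)))
    rw [d1_5.2.2] at h
    exact q1.out h (cb w5 (by simp))
  have qw37 : A φ q (hw w37) (hw w37) := by
    have h := q5 _ _ d1_37.1 d1_37.2.1 (by rw [d1_37.2.2]; exact (w278_comm w37 (by simp)).symm)
    rwa [d1_37.2.2] at h
  have qw8 : A φ q (hw w8) (hw w8) := by
    have h := (((qw37.mul qw5).mul q1).mul q2).mul q3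
    have e : hw w37 * (hw w5 * b) * (τ * b) * x1 * b = hw w8 := by
      rw [w8_eq, ← mul_assoc (hw w37) (hw w5) b, mul_assoc (hw w37 * hw w5) b (τ * b), τ_b, ← mul_assoc b b τ, b_sq,
        one_mul]
    rwa [e, ← w8_eq] at h
  have qw48 : A φ q (hw w48) (hw w48 * b) := by
    have h := qw4.mul qw8
    rwa [mul_assoc, ← cb w8 (by simp), ← mul_assoc, ← w48_eq] at h
  have qw437 : A φ q (hw w437) (hw w437 * b) := by
    have h := qw4.mul qw37
    rwa [mul_assoc, ← cb w37 (by simp), ← mul_assoc, ← w437_eq] at h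
  -- the action of `y`
  have yw2 : A φ y (hw w2) (hw w2 * b) := by
    have h := y5 _ _ d2_2.1 d2_2.2.1 (by rw [d2_2.2.2]; exact hτw (w3_comm w2 (by simp)))
    rw [d2_2.2.2] at h
    exact y1.out h (cb w2 (by simp))
  have yw5 : A φ y (hw w5) (hw w5 * b) := by
    have h := y5 _ _ d2_5.1 d2_5.2.1 (by rw [d2_5.2.2]; exact hτw (w3_comm w5 (by simp)))
    rw [d2_5.2.2] at h
    exact y1.out h (cb w5 (by simp))
  have hyy : y * y = φ b := y4 w3_sq
  -- the main step
  have main : ∀ v : G, A φ v τ (τ * b) → A φ v (hw w2) (hw w2 * b) → A φ v (hw w5) (hw w5 * b) → A φ v b b →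
      v * v = φ b → ∃ h : H0, v = q * φ h ∧ h * b = b * h ∧ ∃ β : H0, (β = 1 ∨ β = b) ∧ hw w48 * h = h * (hw w48 * β) := by
    intro v v1 v2 v5 vb hvv
    obtain ⟨c, hc'⟩ : ∃ c : G, c = q⁻¹ * v := ⟨_, rfl⟩
    have hv : v = q * c := by rw [hc', mul_inv_cancel_left]
    have key : ∀ w : H0, A φ q w (w * b) → A φ v w (w * b) → A φ c w w := by
      intro w h1 h2
      rw [hc']
      exact (h1.flip q3).inv.trans (h2.flip vb)
    have cτ := key τ q1 v1
    have c2 := key _ qw2 v2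
    have c5 := key _ qw5 v5
    have cbb : A φ c b b := by
      rw [hc']; exact q3.inv.trans vb
    obtain ⟨h, hh⟩ := E.cent c cτ.symm
    have hhb := comm_of_A E hh mem_K_b cbb
    obtain ⟨l, hl, hlh⟩ := mem_c3W hhb (comm_of_A E hh mem_K_w2 c2) (comm_of_A E hh mem_K_w5 c5)
    have v25 : A φ v (hw w025) (hw w025 * b) := by
      have h1 := v1.mul (v2.mul v5)
      have e : τ * b * (hw w2 * b * (hw w5 * b)) = τ * (hw w2 * hw w5) * b := by
        rw [← mul_assoc (hw w2 * b) (hw w5) b, ← mul_assoc (τ * b), mul_assoc (hw w2) b (hw w5), ← cb w5 (by simp),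
          ← mul_assoc (hw w2) (hw w5) b, mul_assoc τ b, ← mul_assoc b, ← mul_assoc b (hw w2) (hw w5),
          ← cb w2 (by simp), mul_assoc (hw w2) b (hw w5), ← cb w5 (by simp), ← mul_assoc (hw w2) (hw w5) b,
          mul_assoc _ b b, b_sq, mul_one]
      rw [e, ← w025_eq] at h1
      exact h1
    have kl : ∀ {w s β β' : H0}, A φ q w (w * β) → A φ c w (w * s * β') → A φ v s (s * b) → (β = 1 ∨ β = b) →
        (β' = 1 ∨ β' = b) → w * b = b * w → s * b = b * s → s * s = 1 → False :=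
      fun h1 h2 h3 hβ hβ' h4 h5 h6 => kill E.inj hv h1 h2 h3 q3 cbb hvv hβ hβ' h4 h5 h6
    have qw37' : A φ q (hw w37) (hw w37 * 1) := by rwa [mul_one]
    have qw8' : A φ q (hw w8) (hw w8 * 1) := by rwa [mul_one]
    rcases hh with hh | hh
    · have H := List.all_eq_true.1 kill_a l hl
      rw [Bool.or_eq_true, Bool.or_eq_true, Bool.or_eq_true] at H
      have cA : ∀ {w w' : H0}, w * h = h * w' → A φ c w w' := fun e => hh ▸ A.of e
      rcases H with H | H | H | H
      · obtain ⟨β, hβ, h1⟩ := of_mv_nil H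
        rw [hlh] at h1
        exact ⟨h, by rw [hv, hh], hhb, β, hβ, h1⟩
      · exfalso
        obtain ⟨β, hβ, h1⟩ := of_mv H
        rw [hlh, τ_eq] at h1
        exact kl qw48 (cA h1) v1 (Or.inr rfl) hβ (cb w48 (by simp)) τ_b τ_mul_τ
      · exfalso
        obtain ⟨β, hβ, h1⟩ := of_mv H
        rw [hlh] at h1
        exact kl qw4 (cA h1) v2 (Or.inr rfl) hβ (cb w4 (by simp)) (cb w2 (by simp)) w2_sq
      · exfalso
        obtain ⟨β, hβ, h1⟩ := of_mv H
        rw [hlh] at h1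
        exact kl qw37' (cA h1) v25 (Or.inl rfl) hβ (cb w37 (by simp)) w025_b w025_sq
    · exfalso
      have H := List.all_eq_true.1 kill_b l hl
      rw [Bool.or_eq_true, Bool.or_eq_true, Bool.or_eq_true] at H
      have cA : ∀ {w w' w'' : H0}, w * h = h * w' → A φ r w' w'' → A φ c w w'' :=
        fun e e' => hh ▸ (A.of e).trans e'
      rcases H with H | H | H | H
      · obtain ⟨β, hβ, h1⟩ := of_mv_nil H
        rw [hlh] at h1
        have h2 : hw w8 * β ∉ K := fun h3 => not_mem_K_w8 ((K.mul_mem_cancel_right (b_or_mem_K hβ)).1 h3)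
        have h3 := cA h1 (A_r_out E h2)
        rw [← mul_assoc, ← τ_comm (hw w8)] at h3
        exact kl qw8' h3 v1 (Or.inl rfl) hβ (cb w8 (by simp)) τ_b τ_mul_τ
      · obtain ⟨β, hβ, h1⟩ := of_mv H
        rw [hlh] at h1
        have h2 := K.mul_mem (K.mul_mem mem_K_w437 mem_K_w5) (b_or_mem_K hβ)
        exact kl qw437 (cA h1 (A_r_in E h2)) v5 (Or.inr rfl) hβ (cb w437 (by simp)) (cb w5 (by simp)) w5_sq
      · obtain ⟨β, hβ, h1⟩ := of_mv H
        rw [hlh] at h1
        have h2 := K.mul_mem (K.mul_mem mem_K_w4 mem_K_w2) (b_or_mem_K hβ)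
        exact kl qw4 (cA h1 (A_r_in E h2)) v2 (Or.inr rfl) hβ (cb w4 (by simp)) (cb w2 (by simp)) w2_sq
      · obtain ⟨β, hβ, h1⟩ := of_mv H
        rw [hlh] at h1
        have h2 := K.mul_mem (K.mul_mem mem_K_w37 w025_mem_K) (b_or_mem_K hβ)
        exact kl qw37' (cA h1 (A_r_in E h2)) v25 (Or.inl rfl) hβ (cb w37 (by simp)) w025_b w025_sq
  obtain ⟨h, hh, hhb, β, hβ, e1⟩ := main y y1 yw2 yw5 y3 hyy
  obtain ⟨h', hh', hhb', β', hβ', e2⟩ := main (φ x2 * y) ((A.of (τ_comm x2).symm).trans y1)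
    ((A.of (x2_comm w2 (by simp)).symm).trans yw2) ((A.of (x2_comm w5 (by simp)).symm).trans yw5)
    ((A.of (cb wx2 (by simp)).symm).trans y3) (by
      have h1 : φ x2 * y = y * φ x2 := y2
      rw [h1, mul_assoc, ← mul_assoc (φ x2), h1, mul_assoc y, ← map_mul, x2_sq, map_one, mul_one, hyy])
  -- the elements `x2 q` and `q h' h⁻¹` agree
  have h1 : φ x2 * q = q * φ (h' * h⁻¹) := by
    rw [map_mul, map_inv, ← mul_assoc, eq_mul_inv_iff_mul_eq, mul_assoc, ← hh, hh']
  have f1 : A φ (φ x2 * q) (hw w48) (hw w48 * b * (τ * b * b)) :=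
    (A.of w48_x2).trans (qw48.mul (q1.mul q3))
  have g1 : A φ (φ h)⁻¹ (hw w48) (hw w48 * β) := by
    have k1 : A φ (φ h) (hw w48 * β) (hw w48 * β * β) := (A.of e1).mul ((A.of hhb.symm).or hβ)
    have k2 : hw w48 * β * β = hw w48 := by
      rcases hβ with rfl | rfl
      · rw [mul_one, mul_one]
      · rw [mul_assoc, b_sq, mul_one]
    rw [k2] at k1
    exact k1.inv
  have g2 : A φ (φ h)⁻¹ b b := (A.of hhb.symm).inv
  have f2 : A φ (φ x2 * q) (hw w48) (hw w48 * β * β' * b) := by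
    rw [h1, map_mul, map_inv, ← mul_assoc]
    exact (qw48.trans ((A.of e2).mul (A.of hhb'.symm))).trans ((g1.mul (g2.or hβ')).mul g2)
  have h2 := f1.unique E.inj f2
  have h3 : b * (τ * b * b) = τ * b := by rw [mul_assoc τ b b, b_sq, mul_one, τ_b]
  rw [mul_assoc, h3, ← mul_assoc] at h2
  have h4 := mul_right_cancel h2
  rw [mul_assoc] at h4
  have h5 := mul_left_cancel h4
  rcases hβ with rfl | rfl <;> rcases hβ' with rfl | rfl
  · exact τ_ne_one (by rw [h5, mul_one])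
  · exact b_ne_τ (by rw [h5, one_mul])
  · exact b_ne_τ (by rw [h5, mul_one])
  · exact τ_ne_one (by rw [h5, b_sq])

end Cfsg.Agent.StandardComponent.HS.NoD4
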