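import Cfsg.Agent.HN.FactFA
import Cfsg.Agent.HN.Iota
import Cfsg.Agent.StandardComponent.HS.FourK0

/-!
# S1752, the case `|R| = 4`: `z` and `r z` are not both fused to `t`

`f : H0 →* Γ` injective, `r ^ 2 = f τ`, `r` centralises `f K`, `C_Γ(f τ) = f(H0) ∪ f(H0) r`, `b = a τ` is not fused
to `t = f τ` and `z` is.  Then `r z` is not fused to `t`.
-/

set_option autoImplicit false

namespace Cfsg.Agent.StandardComponent.HS.NotBoth

open Cfsg.Agent.HN Cfsg.Agent.HN.Pres Cfsg.Agent.HN.HS100 Cfsg.Agent.HN.H0Basic Cfsg.Agent.HN.Syl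
open Cfsg.Agent.HN.FusK0 Cfsg.Agent.HN.Classes Cfsg.Agent.HN.Iota Cfsg.Agent.HN.FactFA Cfsg.Agent.HN.P1408
open Cfsg.Agent.HN.Local (A8)
open Cfsg.Agent.StandardComponent.HS.FourK0
open Cfsg.Agent.Lib.AltCarmichael (cyc cyc_mem)
open scoped commutatorElement

/-! ### Facts on `H0` -/

/-- `τ` is a product of elements of order 3 of `C_K(a)` -/
def wc : List ℕ := [4, 2, 4, 2, 2, 0, 2, 0, 2, 2, 4, 3, 1, 3, 3, 4]

theorem wc_comm : hw wc * a = a * hw wc := by
  rw [← hw_a, ← hw_append, ← hw_append]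
  exact hw_eq (by decide +kernel)

theorem hw22 : hw [2, 2] = gy ^ 2 := by rw [pow_two, ← hw_y, ← hw_append]; rfl

theorem y2_cube : gy ^ 2 * gy ^ 2 * gy ^ 2 = 1 := by
  rw [← hw22, ← hw_append, ← hw_append, ← hw_nil]
  exact hw_eq (by decide +kernel)

theorem y2_comm : gy ^ 2 * a = a * gy ^ 2 := by
  rw [a, ← pow_add, ← pow_add]

theorem τ_eq : τ = (gy ^ 2 * ((hw wc)⁻¹ * (gy ^ 2)⁻¹ * hw wc)) * (gy ^ 2 * ((hw wc)⁻¹ * (gy ^ 2)⁻¹ * hw wc)) := by
  rw [← hw22, ← hw_iw, ← hw_iw, ← hw_append, ← hw_append, ← hw_append, ← hw_append, ← hw_τ]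
  exact hw_eq (by decide +kernel)

/-- a subgroup containing the elements of order 3 of `C_K(a)` contains `τ` -/
theorem τ_mem {T : Subgroup H0} (hT : ∀ g ∈ K, g * a = a * g → g * g * g = 1 → g ∈ T) : τ ∈ T := by
  have hyK : gy ^ 2 ∈ K := sq_mem_K gy
  have h1 : gy ^ 2 ∈ T := hT _ hyK y2_comm y2_cube
  have h2 : (hw wc)⁻¹ * (gy ^ 2)⁻¹ * hw wc ∈ T := by
    apply hT
    · have h3 := (inferInstance : (K : Subgroup H0).Normal).conj_mem _ (K.inv_mem hyK) (hw wc)⁻¹
      rwa [inv_inv] at h3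
    · have h3 : (hw wc)⁻¹ * a = a * (hw wc)⁻¹ := by
        rw [inv_mul_eq_iff_eq_mul, ← mul_assoc, wc_comm, mul_inv_cancel_right]
      have h4 : (gy ^ 2)⁻¹ * a = a * (gy ^ 2)⁻¹ := by
        rw [inv_mul_eq_iff_eq_mul, ← mul_assoc, y2_comm, mul_inv_cancel_right]
      calc (hw wc)⁻¹ * (gy ^ 2)⁻¹ * hw wc * a = (hw wc)⁻¹ * (gy ^ 2)⁻¹ * (hw wc * a) := by group
        _ = (hw wc)⁻¹ * ((gy ^ 2)⁻¹ * a) * hw wc := by rw [wc_comm]; group
        _ = ((hw wc)⁻¹ * a) * (gy ^ 2)⁻¹ * hw wc := by rw [h4]; group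
        _ = a * ((hw wc)⁻¹ * (gy ^ 2)⁻¹ * hw wc) := by rw [h3]; group
    · calc (hw wc)⁻¹ * (gy ^ 2)⁻¹ * hw wc * ((hw wc)⁻¹ * (gy ^ 2)⁻¹ * hw wc) *
            ((hw wc)⁻¹ * (gy ^ 2)⁻¹ * hw wc) = (hw wc)⁻¹ * (gy ^ 2 * gy ^ 2 * gy ^ 2)⁻¹ * hw wc := by group
        _ = 1 := by rw [y2_cube]; group
  rw [τ_eq]
  exact T.mul_mem (T.mul_mem h1 h2) (T.mul_mem h1 h2)

theorem XU.sq {v : H0} (hv : v = u0 ∨ v = u0⁻¹ ∨ v = u0 * τ ∨ v = u0⁻¹ * τ) : v * v = a * τ := by
  have h0 : u0 * u0 = a * τ := by rw [← pow_two, u0_sq]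
  have h1 : u0⁻¹ * u0⁻¹ = a * τ := by
    rw [← mul_inv_rev, h0, mul_inv_rev, τ_inv, ← τ_comm]
    congr 1
    exact inv_eq_of_mul_eq_one_left a_sq
  rcases hv with rfl | rfl | rfl | rfl
  · exact h0
  · exact h1
  · calc u0 * τ * (u0 * τ) = u0 * (τ * u0) * τ := by group
      _ = (u0 * u0) * (τ * τ) := by rw [← τ_comm]; group
      _ = a * τ := by rw [h0, τ_mul_τ, mul_one]
  · calc u0⁻¹ * τ * (u0⁻¹ * τ) = u0⁻¹ * (τ * u0⁻¹) * τ := by group
      _ = (u0⁻¹ * u0⁻¹) * (τ * τ) := by rw [← τ_comm]; group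
      _ = a * τ := by rw [h1, τ_mul_τ, mul_one]

/-- an element of `K` all of whose conjugates under `C_K(a)` are in `{v, v a}` is not a square root of `a` -/
theorem false_of_root {v : H0} (hv : v * v = a)
    (h : ∀ c ∈ K, c * a = a * c → c * v * c⁻¹ = v ∨ c * v * c⁻¹ = v * a) : False := by
  have hva : v * a = a * v := by rw [← hv, mul_assoc]
  have H : HA v := by
    intro c hc hca _
    rcases h c hc hca with h1 | h1
    · left
      have h2 : c * v = v * c := by rwa [mul_inv_eq_iff_eq_mul] at h1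
      rw [commutatorElement_def, ← h2]; group
    · right; right; left
      have h2 : c * v = v * a * c := by rwa [mul_inv_eq_iff_eq_mul] at h1
      have h3 : v * c = c * v * a := by
        rw [h2, mul_assoc (v * a), hca, ← mul_assoc, mul_assoc v a a, a_sq, mul_one]
      rw [commutatorElement_def]
      calc v * c * v⁻¹ * c⁻¹ = c * v * a * v⁻¹ * c⁻¹ := by rw [h3]
        _ = c * (v * a) * v⁻¹ * c⁻¹ := by group
        _ = c * a * c⁻¹ := by rw [hva]; group
        _ = a := by rw [hca]; group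
  have h1 := FA (Or.inl (by rw [pow_two, hv])) H
  have h2 := XU.sq h1
  rw [hv] at h2
  exact τ_ne_one (by
    have h3 : a * 1 = a * τ := by rw [mul_one]; exact h2
    exact (mul_left_cancel h3).symm)

/-! ### The group `Γ` -/

/-- the hypotheses -/
structure Hyp {Γ : Type*} [Group Γ] (f : H0 →* Γ) (r : Γ) : Prop where
  inj : Function.Injective f
  hr : r * r = f τ
  hrK : ∀ k ∈ K, r * f k = f k * r
  hrz : r * f gz * r⁻¹ = f (τ * gz)
  cent : ∀ g : Γ, g * f τ = f τ * g → ∃ h : H0, g = f h ∨ g = f h * r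
  hb : ¬ IsConj (f τ) (f (a * τ))

namespace Hyp

variable {Γ : Type*} [Group Γ] {f : H0 →* Γ} {r : Γ} (F : Hyp f r)

include F

theorem hrn {h : H0} (hh : h ∉ K) : r * f h = f (τ * h) * r := by
  have h1 : h * gz ∈ K := by
    rw [mem_K_iff, map_mul, sgn_gz]
    rw [(Int.units_eq_one_or (sgn h)).resolve_left hh]; rfl
  have h2 : h = (h * gz) * gz := by rw [mul_assoc, Syl.z_sq, mul_one]
  have h3 : r * f gz = f (τ * gz) * r := by rw [← F.hrz]; group
  calc r * f h = r * f ((h * gz) * gz) := by rw [← h2]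
    _ = (r * f (h * gz)) * f gz := by rw [map_mul, mul_assoc]
    _ = f (h * gz) * (r * f gz) := by rw [F.hrK _ h1, mul_assoc]
    _ = f (h * gz * (τ * gz)) * r := by rw [h3, ← mul_assoc, ← map_mul]
    _ = f (τ * h) * r := by
        congr 2
        calc h * gz * (τ * gz) = h * (gz * τ) * gz := by group
          _ = h * (τ * gz) * gz := by rw [τ_comm]
          _ = (h * τ) * (gz * gz) := by group
          _ = τ * h := by rw [Syl.z_sq, mul_one, τ_comm]

theorem r_notMem : r ∉ f.range := by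
  rintro ⟨h, hh⟩
  have h1 : ∀ k ∈ K, h * k = k * h := by
    intro k hk
    apply F.inj
    rw [map_mul, map_mul, hh, F.hrK k hk]
  have h2 : h * h = τ := by
    apply F.inj
    rw [map_mul, hh, F.hr]
  have h3 : h = 1 ∨ h = τ := by
    rw [← φ_eq_one_iff]
    apply NormalH.eq_one_of_commute_Q
    rintro q ⟨k, hk, rfl⟩
    rw [← map_mul, ← map_mul, h1 k hk]
  rcases h3 with rfl | rfl
  · rw [mul_one] at h2; exact τ_ne_one h2.symm
  · rw [τ_mul_τ] at h2; exact τ_ne_one h2.symm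

theorem rt : r * f τ = f τ * r := F.hrK τ τ_mem_K

/-- elements of order 3 of `C(t)` are in `f K` -/
theorem mem_of_cube {g : Γ} (hg : g * f τ = f τ * g) (h3 : g * g * g = 1) : ∃ k ∈ K, g = f k := by
  obtain ⟨h, rfl | rfl⟩ := F.cent g hg
  · refine ⟨h, ?_, rfl⟩
    have h4 : h * h * h = 1 := F.inj (by rw [map_mul, map_mul, h3, map_one])
    have h5 : sgn (h * h * h) = 1 := by rw [h4, map_one]
    rw [map_mul, map_mul, ← pow_two, Int.units_sq, one_mul] at h5
    exact h5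
  · exfalso
    apply F.r_notMem
    by_cases hK : h ∈ K
    · have h4 : f h * r * (f h * r) * (f h * r) = f (h * h * τ * h) * r := by
        calc f h * r * (f h * r) * (f h * r) = f h * (r * f h) * r * f h * r := by group
          _ = f h * f h * (r * r) * f h * r := by rw [F.hrK h hK]; group
          _ = f (h * h * τ * h) * r := by rw [F.hr, map_mul, map_mul, map_mul]
      rw [h4] at h3
      exact ⟨(h * h * τ * h)⁻¹, by rw [map_inv, inv_eq_iff_mul_eq_one]; exact h3⟩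
    · have h4 : f h * r * (f h * r) * (f h * r) = f (h * (τ * h) * τ * h) * r := by
        calc f h * r * (f h * r) * (f h * r) = f h * (r * f h) * r * f h * r := by group
          _ = f h * f (τ * h) * (r * r) * f h * r := by rw [F.hrn hK]; group
          _ = f (h * (τ * h) * τ * h) * r := by rw [F.hr, map_mul _ (h * (τ * h) * τ), map_mul _ (h * (τ * h)),
              map_mul _ h]
      rw [h4] at h3
      exact ⟨(h * (τ * h) * τ * h)⁻¹, by rw [map_inv, inv_eq_iff_mul_eq_one]; exact h3⟩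

/-- `C(t)` normalises `f K` -/
theorem conj_mem {g : Γ} (hg : g * f τ = f τ * g) {k : H0} (hk : k ∈ K) : ∃ l ∈ K, g * f k * g⁻¹ = f l := by
  have hn : (K : Subgroup H0).Normal := inferInstance
  obtain ⟨h, rfl | rfl⟩ := F.cent g hg
  · exact ⟨h * k * h⁻¹, hn.conj_mem k hk h, by rw [map_mul, map_mul, map_inv]⟩
  · refine ⟨h * k * h⁻¹, hn.conj_mem k hk h, ?_⟩
    calc f h * r * f k * (f h * r)⁻¹ = f h * (r * f k) * r⁻¹ * (f h)⁻¹ := by group
      _ = f h * f k * (f h)⁻¹ := by rw [F.hrK k hk]; group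
      _ = f (h * k * h⁻¹) := by rw [map_mul, map_mul, map_inv]

/-- the action of `C(t)` on `r` -/
theorem conj_r {g : Γ} (hg : g * f τ = f τ * g) : g * r * g⁻¹ = r ∨ g * r * g⁻¹ = r * f τ := by
  have key : ∀ h : H0, f h * r * (f h)⁻¹ = r ∨ f h * r * (f h)⁻¹ = r * f τ := by
    intro h
    by_cases hK : h ∈ K
    · left; rw [← F.hrK h hK]; group
    · right
      have h1 := F.hrn hK
      rw [map_mul] at h1
      have h2 : f τ * f τ = 1 := by rw [← map_mul, τ_mul_τ, map_one]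
      have h3 : f h * f τ = f τ * f h := by rw [← map_mul, ← map_mul, τ_comm]
      have h4 : f h * r = f τ * (r * f h) := by
        rw [h1, mul_assoc, ← mul_assoc, h2, one_mul]
      rw [h4]
      calc f τ * (r * f h) * (f h)⁻¹ = f τ * r := by group
        _ = r * f τ := F.rt.symm
  obtain ⟨h, rfl | rfl⟩ := F.cent g hg
  · exact key h
  · have h1 : f h * r * r * (f h * r)⁻¹ = f h * r * (f h)⁻¹ := by group
    rw [h1]
    exact key h

/-- the elements of `f K` fused to `t` -/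
theorem cases_inner {k : K} (hk : IsConj (f τ) (f k)) : k = τ0 ∨ IsConj a0 k := by
  have h1 : k * k = 1 := by
    obtain ⟨c, hc⟩ := isConj_iff.1 hk
    apply Subtype.ext
    apply F.inj
    show f ((k : H0) * k) = f 1
    rw [map_mul, ← hc]
    calc c * f τ * c⁻¹ * (c * f τ * c⁻¹) = c * (f τ * f τ) * c⁻¹ := by group
      _ = f 1 := by rw [← map_mul, τ_mul_τ, map_one]; group
  rcases cases_K h1 with h | h | h | h
  · exfalso
    rw [h] at hk
    have h2 := isConj_one_left.1 (by simpa using hk : IsConj (f τ) 1)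
    exact τ_ne_one (F.inj (h2.trans (map_one f).symm))
  · exact Or.inl h
  · exact Or.inr h
  · exfalso
    apply F.hb
    refine hk.trans ?_
    obtain ⟨c, hc⟩ := isConj_iff.1 h
    exact (isConj_iff.2 ⟨f c, by rw [← map_inv, ← map_mul, ← map_mul, ← hc]; rfl⟩ : IsConj (f (b0 : K)) (f k)).symm

/-- if `n` conjugates `t` to an element commuting with `iota A₈`, then `iota A₈` is in the conjugate of `f K` -/
theorem alt_mem {n z' : Γ} (hn : n * f τ * n⁻¹ = z') (hc : ∀ s : A8, z' * f (iota s) = f (iota s) * z') (s : A8) :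
    ∃ k ∈ K, n⁻¹ * f (iota s) * n = f k := by
  let T : Subgroup A8 := (K.map f).comap ((MulAut.conj n⁻¹).toMonoidHom.comp (f.comp iota))
  have memT : ∀ s : A8, s ∈ T ↔ ∃ k ∈ K, n⁻¹ * f (iota s) * n = f k := by
    intro s
    constructor
    · rintro ⟨k, hk, h⟩
      refine ⟨k, hk, ?_⟩
      have h1 : f k = n⁻¹ * f (iota s) * n⁻¹⁻¹ := h
      rw [h1, inv_inv]
    · rintro ⟨k, hk, h⟩
      refine ⟨k, hk, ?_⟩
      show f k = n⁻¹ * f (iota s) * n⁻¹⁻¹
      rw [← h, inv_inv]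
  have hT : T = ⊤ := by
    apply top_of_gens
    intro i hi
    rw [memT, iota_cyc hi]
    have h1 := hc ⟨cyc 6 i, cyc_mem 6 i hi⟩
    rw [iota_cyc hi, ← hn] at h1
    refine F.mem_of_cube ?_ ?_
    · calc n⁻¹ * f (xg i) * n * f τ = n⁻¹ * (f (xg i) * (n * f τ * n⁻¹)) * n := by group
        _ = n⁻¹ * (n * f τ * n⁻¹ * f (xg i)) * n := by rw [h1]
        _ = f τ * (n⁻¹ * f (xg i) * n) := by group
    · have h2 : xg i * xg i * xg i = 1 := by
        have h3 := rel.cube i hi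
        rwa [pow_succ, pow_two] at h3
      calc n⁻¹ * f (xg i) * n * (n⁻¹ * f (xg i) * n) * (n⁻¹ * f (xg i) * n) =
            n⁻¹ * (f (xg i) * f (xg i) * f (xg i)) * n := by group
        _ = 1 := by rw [← map_mul, ← map_mul, h2, map_one]; group
  exact (memT s).1 (by rw [hT]; exact Subgroup.mem_top s)

omit F in
theorem gz_comm (s : A8) : f gz * f (iota s) = f (iota s) * f gz := by
  rw [← map_mul, ← map_mul, (z_iota s).eq]

theorem rgz_comm (s : A8) : r * f gz * f (iota s) = f (iota s) * (r * f gz) := by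
  rw [mul_assoc, gz_comm, ← mul_assoc, F.hrK _ (iota_mem_K s), mul_assoc]

/-- the class of `a` is fused to `t` -/
theorem conj_a (hz : IsConj (f τ) (f gz)) : IsConj (f τ) (f a) := by
  obtain ⟨n, hn⟩ := isConj_iff.1 hz
  obtain ⟨k, hk, h1⟩ := F.alt_mem hn gz_comm p_w4
  have h2 : n⁻¹ * f (gz * iota p_w4) * n = f (τ * k) := by
    rw [map_mul, map_mul, ← h1, ← hn]; group
  have h3 : IsConj (f gz) (f (gz * iota p_w4)) := by
    rw [z_w4]
    refine isConj_iff.2 ⟨f (hw [0, 2, 2, 2, 0, 3, 4, 3, 0, 2, 4, 2])⁻¹, ?_⟩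
    rw [← map_inv, ← map_mul, ← map_mul, inv_inv]
  have h4 : IsConj (f τ) (f (τ * k)) := by
    refine hz.trans (h3.trans (isConj_iff.2 ⟨n⁻¹, ?_⟩))
    rw [inv_inv]; exact h2
  have h5 : τ * k ∈ K := K.mul_mem τ_mem_K hk
  rcases F.cases_inner (k := ⟨τ * k, h5⟩) h4 with h | h
  · exfalso
    have h6 : τ * k = τ := congrArg Subtype.val h
    have h7 : k = 1 := mul_eq_left.1 h6
    rw [h7, map_one] at h1
    have h8 : f (iota p_w4) = 1 := by
      have h9 : f (iota p_w4) = n * (n⁻¹ * f (iota p_w4) * n) * n⁻¹ := by group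
      rw [h9, h1]; group
    have h10 : iota p_w4 = 1 := F.inj (h8.trans (map_one f).symm)
    have h11 : p_w4 = 1 := iota_inj (h10.trans (map_one iota).symm)
    exact absurd h11 (by decide)
  · refine h4.trans ?_
    obtain ⟨c, hc⟩ := isConj_iff.1 h
    exact (isConj_iff.2 ⟨f c, by
      rw [← map_inv, ← map_mul, ← map_mul]
      exact congrArg f (congrArg Subtype.val hc)⟩ : IsConj (f a) (f (τ * k))).symm

/-- the involution `(..)(..)` of `A₈` is of type `a` -/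
def cf : H0 := hw [0, 2, 2, 2, 0, 2, 0, 2, 0]

omit F in
theorem f1_eq : iota Local.f1 = cf⁻¹ * a * cf := f1_conj

omit F in
theorem isConj_f1 : IsConj a (iota Local.f1) := by
  rw [f1_eq]
  exact isConj_iff.2 ⟨cf⁻¹, by rw [inv_inv]⟩

/-- an element conjugating `z'` to `t` can be chosen in the centraliser of `f (iota f1)` -/
theorem exists_conj (ha : IsConj (f τ) (f a)) {n z' : Γ} (hn : n * f τ * n⁻¹ = z')
    (hc : ∀ s : A8, z' * f (iota s) = f (iota s) * z') (hz' : ∀ k ∈ K, z' ≠ f k) :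
    ∃ m : Γ, m * f (iota Local.f1) = f (iota Local.f1) * m ∧ m * z' * m⁻¹ = f τ := by
  obtain ⟨k, hk, h1⟩ := F.alt_mem hn hc Local.f1
  have hp : IsConj (f τ) (f (iota Local.f1)) := by
    refine ha.trans ?_
    obtain ⟨c, hc⟩ := isConj_iff.1 isConj_f1
    exact isConj_iff.2 ⟨f c, by rw [← map_inv, ← map_mul, ← map_mul, hc]⟩
  have h2 : IsConj (f τ) (f k) := by
    refine hp.trans (isConj_iff.2 ⟨n⁻¹, ?_⟩)
    rw [inv_inv]; exact h1
  rcases F.cases_inner (k := ⟨k, hk⟩) h2 with h | h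
  · exfalso
    have h3 : k = τ := congrArg Subtype.val h
    apply hz' _ (iota_mem_K Local.f1)
    rw [← hn, ← h3, ← h1]; group
  · have h3 : IsConj a0 (⟨iota Local.f1, iota_mem_K _⟩ : K) := isConj_of (g := a0) s8_a isConj_f1
    obtain ⟨l, hl⟩ := isConj_iff.1 (h.symm.trans h3)
    have hl' : (l : H0) * k * (l : H0)⁻¹ = iota Local.f1 := congrArg Subtype.val hl
    refine ⟨f l * n⁻¹, ?_, ?_⟩
    · have h4 : f l * n⁻¹ * f (iota Local.f1) * (f l * n⁻¹)⁻¹ = f (iota Local.f1) := by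
        calc f l * n⁻¹ * f (iota Local.f1) * (f l * n⁻¹)⁻¹ = f l * (n⁻¹ * f (iota Local.f1) * n) * (f l)⁻¹ := by
              group
          _ = f (iota Local.f1) := by rw [h1, ← map_mul, ← map_inv, ← map_mul, hl']
      exact mul_inv_eq_iff_eq_mul.1 h4
    · calc f l * n⁻¹ * z' * (f l * n⁻¹)⁻¹ = f l * f τ * (f l)⁻¹ := by rw [← hn]; group
        _ = f τ := by rw [← map_mul, τ_comm, map_mul]; group

/-- **`z` and `r z` are not both fused to `t`.** -/
theorem not_isConj_rz (hz : IsConj (f τ) (f gz)) : ¬ IsConj (f τ) (r * f gz) := by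
  intro hrz
  have ha := F.conj_a hz
  obtain ⟨n1, hn1⟩ := isConj_iff.1 hz
  obtain ⟨n2, hn2⟩ := isConj_iff.1 hrz
  obtain ⟨m1, hm1, hm1z⟩ := F.exists_conj ha hn1 gz_comm (fun k hk h => gz_notMem_K (by
    rw [F.inj h]; exact hk))
  obtain ⟨m2, hm2, hm2z⟩ := F.exists_conj ha hn2 F.rgz_comm (fun k hk h => F.r_notMem
    ⟨k * gz⁻¹, by rw [map_mul, ← h, map_inv]; group⟩)
  have hp : IsConj (f τ) (f (iota Local.f1)) := by
    refine ha.trans ?_
    obtain ⟨c, hc⟩ := isConj_iff.1 isConj_f1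
    exact isConj_iff.2 ⟨f c, by rw [← map_inv, ← map_mul, ← map_mul, hc]⟩
  obtain ⟨q, hq⟩ := isConj_iff.1 hp
  -- `q⁻¹ t q` is in `f K`
  have hcomm : ∀ x : Γ, x * f (iota Local.f1) = f (iota Local.f1) * x → q⁻¹ * x * q * f τ = f τ * (q⁻¹ * x * q) := by
    intro x hx
    rw [← hq] at hx
    calc q⁻¹ * x * q * f τ = q⁻¹ * (x * (q * f τ * q⁻¹)) * q := by group
      _ = q⁻¹ * (q * f τ * q⁻¹ * x) * q := by rw [hx]
      _ = f τ * (q⁻¹ * x * q) := by group
  let T : Subgroup H0 := (K.map f).comap ((MulAut.conj q⁻¹).toMonoidHom.comp (f.comp (MulAut.conj cf⁻¹).toMonoidHom))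
  have memT : ∀ s : H0, s ∈ T ↔ ∃ k ∈ K, q⁻¹ * f (cf⁻¹ * s * cf) * q = f k := by
    intro s
    have e1 : ((MulAut.conj q⁻¹).toMonoidHom.comp (f.comp (MulAut.conj cf⁻¹).toMonoidHom)) s =
        q⁻¹ * f (cf⁻¹ * s * cf) * q := by
      show q⁻¹ * f (cf⁻¹ * s * cf⁻¹⁻¹) * q⁻¹⁻¹ = _
      rw [inv_inv, inv_inv]
    rw [Subgroup.mem_comap, e1]
    constructor
    · rintro ⟨k, hk, h⟩
      exact ⟨k, hk, h.symm⟩
    · rintro ⟨k, hk, h⟩
      exact ⟨k, hk, h.symm⟩
  have hτT : τ ∈ T := by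
    apply τ_mem
    intro g hgK hga hg3
    rw [memT]
    refine F.mem_of_cube (hcomm _ ?_) ?_
    · rw [← map_mul, ← map_mul, f1_eq]
      congr 1
      calc cf⁻¹ * g * cf * (cf⁻¹ * a * cf) = cf⁻¹ * (g * a) * cf := by group
        _ = cf⁻¹ * (a * g) * cf := by rw [hga]
        _ = cf⁻¹ * a * cf * (cf⁻¹ * g * cf) := by group
    · have h1 : (cf⁻¹ * g * cf) * (cf⁻¹ * g * cf) * (cf⁻¹ * g * cf) = 1 := by
        calc (cf⁻¹ * g * cf) * (cf⁻¹ * g * cf) * (cf⁻¹ * g * cf) = cf⁻¹ * (g * g * g) * cf := by group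
          _ = 1 := by rw [hg3]; group
      calc q⁻¹ * f (cf⁻¹ * g * cf) * q * (q⁻¹ * f (cf⁻¹ * g * cf) * q) * (q⁻¹ * f (cf⁻¹ * g * cf) * q) =
            q⁻¹ * (f (cf⁻¹ * g * cf) * f (cf⁻¹ * g * cf) * f (cf⁻¹ * g * cf)) * q := by group
        _ = 1 := by rw [← map_mul, ← map_mul, h1, map_one]; group
  obtain ⟨kt, hkt, hkt'⟩ := (memT τ).1 hτT
  have hτc : cf⁻¹ * τ * cf = τ := by rw [mul_assoc, ← τ_comm, inv_mul_cancel_left]
  rw [hτc] at hkt'
  -- `z` and `r z` are in the conjugate of `f K`, hence `r`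
  have key : ∀ m z' : Γ, m * f (iota Local.f1) = f (iota Local.f1) * m → m * z' * m⁻¹ = f τ →
      ∃ k ∈ K, q⁻¹ * z' * q = f k := by
    intro m z' hm hmz
    have hm' : m⁻¹ * f (iota Local.f1) = f (iota Local.f1) * m⁻¹ := by
      rw [inv_mul_eq_iff_eq_mul, ← mul_assoc, hm, mul_inv_cancel_right]
    obtain ⟨l, hl, hl'⟩ := F.conj_mem (hcomm _ hm') hkt
    refine ⟨l, hl, ?_⟩
    rw [← hl', ← hkt', ← hmz]; group
  obtain ⟨k1, hk1, hk1'⟩ := key _ _ hm1 hm1z
  obtain ⟨k2, hk2, hk2'⟩ := key _ _ hm2 hm2z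
  obtain ⟨k, hk, hrk⟩ : ∃ k ∈ K, q⁻¹ * r * q = f k := by
    refine ⟨k2 * k1⁻¹, K.mul_mem hk2 (K.inv_mem hk1), ?_⟩
    rw [map_mul, map_inv, ← hk1', ← hk2']; group
  have hkk : q⁻¹ * f τ * q = f (k * k) := by
    rw [map_mul, ← hrk, ← F.hr]; group
  have hkkK : k * k ∈ K := K.mul_mem hk hk
  have h1 : IsConj (f τ) (f (k * k)) := isConj_iff.2 ⟨q⁻¹, by rw [inv_inv]; exact hkk⟩
  rcases F.cases_inner (k := ⟨k * k, hkkK⟩) h1 with h | h
  · have h2 : k * k = τ := congrArg Subtype.val h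
    rw [h2] at hkk
    have h3 : f τ = q * f τ * q⁻¹ := by
      calc f τ = q * (q⁻¹ * f τ * q) * q⁻¹ := by group
        _ = q * f τ * q⁻¹ := by rw [hkk]
    rw [hq] at h3
    have h4 := F.inj h3
    rw [f1_eq] at h4
    have h5 : a = τ := by
      calc a = cf * (cf⁻¹ * a * cf) * cf⁻¹ := by group
        _ = cf * τ * cf⁻¹ := by rw [← h4]
        _ = τ := by rw [τ_comm]; group
    exact a_ne_τ h5
  · obtain ⟨l, hl⟩ := isConj_iff.1 h
    have hl' : (l : H0) * a * (l : H0)⁻¹ = k * k := congrArg Subtype.val hl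
    refine false_of_root (v := (l : H0)⁻¹ * k * l) ?_ ?_
    · calc (l : H0)⁻¹ * k * l * ((l : H0)⁻¹ * k * l) = (l : H0)⁻¹ * (k * k) * l := by group
        _ = a := by rw [← hl']; group
    · intro c hcK hca
      have hd : (l : H0) * c * (l : H0)⁻¹ * (k * k) = k * k * ((l : H0) * c * (l : H0)⁻¹) := by
        rw [← hl']
        calc (l : H0) * c * (l : H0)⁻¹ * ((l : H0) * a * (l : H0)⁻¹) = (l : H0) * (c * a) * (l : H0)⁻¹ := by group
          _ = (l : H0) * (a * c) * (l : H0)⁻¹ := by rw [hca]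
          _ = (l : H0) * a * (l : H0)⁻¹ * ((l : H0) * c * (l : H0)⁻¹) := by group
      obtain ⟨e, he⟩ : ∃ e : H0, e = (l : H0) * c * (l : H0)⁻¹ := ⟨_, rfl⟩
      rw [← he] at hd
      have hy : q * f e * q⁻¹ * f τ = f τ * (q * f e * q⁻¹) := by
        have h2 : f τ = q * f (k * k) * q⁻¹ := by rw [← hkk]; group
        rw [h2]
        calc q * f e * q⁻¹ * (q * f (k * k) * q⁻¹) = q * (f e * f (k * k)) * q⁻¹ := by group
          _ = q * f (e * (k * k)) * q⁻¹ := by rw [← map_mul]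
          _ = q * f (k * k * e) * q⁻¹ := by rw [hd]
          _ = q * f (k * k) * q⁻¹ * (q * f e * q⁻¹) := by rw [map_mul _ (k * k)]; group
      have hr' : r = q * f k * q⁻¹ := by rw [← hrk]; group
      have h2 : q * f e * q⁻¹ * r * (q * f e * q⁻¹)⁻¹ = q * f (e * k * e⁻¹) * q⁻¹ := by
        rw [hr', map_mul, map_mul, map_inv]; group
      rcases F.conj_r hy with h3 | h3
      · left
        have h4 : e * k * e⁻¹ = k := by
          apply F.inj
          rw [h2] at h3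
          calc f (e * k * e⁻¹) = q⁻¹ * (q * f (e * k * e⁻¹) * q⁻¹) * q := by group
            _ = f k := by rw [h3, ← hrk]
        calc c * ((l : H0)⁻¹ * k * l) * c⁻¹ = (l : H0)⁻¹ * (e * k * e⁻¹) * l := by rw [he]; group
          _ = (l : H0)⁻¹ * k * l := by rw [h4]
      · right
        have h4 : e * k * e⁻¹ = k * (k * k) := by
          apply F.inj
          rw [h2] at h3
          calc f (e * k * e⁻¹) = q⁻¹ * (q * f (e * k * e⁻¹) * q⁻¹) * q := by group
            _ = (q⁻¹ * r * q) * (q⁻¹ * f τ * q) := by rw [h3]; group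
            _ = f (k * (k * k)) := by rw [hrk, hkk, ← map_mul]
        calc c * ((l : H0)⁻¹ * k * l) * c⁻¹ = (l : H0)⁻¹ * (e * k * e⁻¹) * l := by rw [he]; group
          _ = (l : H0)⁻¹ * k * l * ((l : H0)⁻¹ * (k * k) * l) := by rw [h4]; group
          _ = (l : H0)⁻¹ * k * l * a := by rw [← hl']; group

end Hyp

end Cfsg.Agent.StandardComponent.HS.NotBoth
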