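import Mathlib

/-!
# Homomorphisms with a kernel of odd order: conjugacy, centralizers and lifts of involutions
-/

set_option autoImplicit false

namespace Cfsg.Agent.StandardComponent.HS.OddKer

variable {N Q : Type*} [Group N] [Group Q] {π : N →* Q}

/-- an element of the kernel has odd order -/
theorem pow_card {k : N} (hk : k ∈ π.ker) : k ^ Nat.card π.ker = 1 := by
  have h := pow_card_eq_one' (x := (⟨k, hk⟩ : π.ker))
  exact congrArg Subtype.val h

/-- two involutions with the same image are conjugate under the kernel. -/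
theorem conj_of_eq (hodd : Odd (Nat.card π.ker)) {a b : N} (ha : a * a = 1) (hb : b * b = 1) (hab : π a = π b) :
    ∃ k ∈ π.ker, k * a * k⁻¹ = b := by
  obtain ⟨m, hm⟩ := hodd
  have hb' : b⁻¹ = b := inv_eq_of_mul_eq_one_left hb
  have ha' : a⁻¹ = a := inv_eq_of_mul_eq_one_left ha
  have hker : a * b ∈ π.ker := by
    rw [MonoidHom.mem_ker, map_mul, hab, ← map_mul, hb, map_one]
  have h1 : (a * b) ^ (2 * m + 1) = 1 := by
    rw [← hm]; exact pow_card hker
  have h2 : ∀ n : ℕ, a * (a * b) ^ n = ((a * b) ^ n)⁻¹ * a := by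
    intro n
    have h3 : a * (a * b) * a⁻¹ = (a * b)⁻¹ := by
      rw [mul_inv_rev, hb', ha', ← mul_assoc, ha, one_mul]
    calc a * (a * b) ^ n = a * (a * b) ^ n * a⁻¹ * a := by group
      _ = (a * (a * b) * a⁻¹) ^ n * a := by rw [conj_pow]
      _ = ((a * b) ^ n)⁻¹ * a := by rw [h3, inv_pow]
  refine ⟨(a * b) ^ m, Subgroup.pow_mem _ hker m, ?_⟩
  have h4 : a * ((a * b) ^ m)⁻¹ = (a * b) ^ m * a := by
    have h5 := h2 m
    have h6 : (a * b) ^ m = a * ((a * b) ^ m)⁻¹ * a := by
      calc (a * b) ^ m = a⁻¹ * (a * (a * b) ^ m) := by group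
        _ = a * (((a * b) ^ m)⁻¹ * a) := by rw [h5, ha']
        _ = a * ((a * b) ^ m)⁻¹ * a := by group
    calc a * ((a * b) ^ m)⁻¹ = a * ((a * b) ^ m)⁻¹ * (a * a) := by rw [ha, mul_one]
      _ = (a * ((a * b) ^ m)⁻¹ * a) * a := by group
      _ = (a * b) ^ m * a := by rw [← h6]
  calc (a * b) ^ m * a * ((a * b) ^ m)⁻¹ = (a * b) ^ m * (a * ((a * b) ^ m)⁻¹) := by group
    _ = (a * b) ^ m * ((a * b) ^ m * a) := by rw [h4]
    _ = (a * b) ^ (2 * m + 1) * (b⁻¹ * a⁻¹) * a := by
        rw [pow_succ, two_mul, pow_add]; group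
    _ = b := by rw [h1, hb']; group

/-- centralizers of involutions are mapped onto centralizers -/
theorem exists_commute (hodd : Odd (Nat.card π.ker)) {a : N} (ha : a * a = 1) {y : N}
    (hy : π y * π a = π a * π y) : ∃ y' : N, π y' = π y ∧ y' * a = a * y' := by
  have h1 : (y * a * y⁻¹) * (y * a * y⁻¹) = 1 := by
    calc (y * a * y⁻¹) * (y * a * y⁻¹) = y * (a * a) * y⁻¹ := by group
      _ = 1 := by rw [ha]; group
  have h2 : π (y * a * y⁻¹) = π a := by
    rw [map_mul, map_mul, map_inv, hy]; group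
  obtain ⟨k, hk, hk2⟩ := conj_of_eq hodd h1 ha h2
  refine ⟨k * y, by rw [map_mul, (MonoidHom.mem_ker).1 hk, one_mul], ?_⟩
  calc k * y * a = (k * (y * a * y⁻¹) * k⁻¹) * (k * y) := by group
    _ = a * (k * y) := by rw [hk2]

/-- involutions lift to involutions, inside the powers of any lift -/
theorem exists_pow (hodd : Odd (Nat.card π.ker)) {y : N} (hy : π y * π y = 1) :
    ∃ n : ℕ, y ^ n * y ^ n = 1 ∧ π (y ^ n) = π y := by
  refine ⟨Nat.card π.ker, ?_, ?_⟩
  · have h1 : y * y ∈ π.ker := by rw [MonoidHom.mem_ker, map_mul, hy]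
    calc y ^ Nat.card π.ker * y ^ Nat.card π.ker = (y * y) ^ Nat.card π.ker := by
          rw [Commute.mul_pow (Commute.refl y)]
      _ = 1 := pow_card h1
  · obtain ⟨m, hm⟩ := hodd
    rw [map_pow, hm, pow_succ, pow_mul, pow_two, hy, one_pow, one_mul]

/-- restriction to a subgroup keeps the oddness of the kernel -/
theorem odd_restrict (hodd : Odd (Nat.card π.ker)) (C : Subgroup N) : Odd (Nat.card (π.comp C.subtype).ker) := by
  have h1 : Nat.card (π.comp C.subtype).ker ∣ Nat.card π.ker := by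
    have h2 : ((π.comp C.subtype).ker).map C.subtype ≤ π.ker := by
      rintro _ ⟨x, hx, rfl⟩
      exact hx
    have h3 := Subgroup.card_dvd_of_le h2
    rwa [Subgroup.card_map_of_injective C.subtype_injective] at h3
  exact Odd.of_dvd_nat hodd h1

/-- three commuting involutions of the image lift to commuting involutions (the first lift is given). -/
theorem exists_lift_three (hodd : Odd (Nat.card π.ker)) {a : N} (ha : a * a = 1) {y z : N}
    (hy2 : π y * π y = 1) (hz2 : π z * π z = 1)
    (hya : π y * π a = π a * π y) (hza : π z * π a = π a * π z) (hzy : π z * π y = π y * π z) :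
    ∃ y' z' : N, π y' = π y ∧ π z' = π z ∧ y' * y' = 1 ∧ z' * z' = 1 ∧ y' * a = a * y' ∧ z' * a = a * z' ∧
      z' * y' = y' * z' := by
  obtain ⟨y1, hy1, hy1a⟩ := exists_commute hodd ha hya
  obtain ⟨n, hn2, hnπ⟩ := exists_pow hodd (y := y1) (by rw [hy1, hy2])
  have hca : y1 ^ n * a = a * y1 ^ n := (Commute.pow_left hy1a n)
  obtain ⟨z1, hz1, hz1a⟩ := exists_commute hodd ha hza
  -- inside the centralizer of `a`
  let C : Subgroup N := Subgroup.centralizer {a}
  have mem : ∀ g, g ∈ C ↔ g * a = a * g := by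
    intro g
    rw [Subgroup.mem_centralizer_iff]
    constructor
    · intro h; exact (h a rfl).symm
    · rintro h _ rfl; exact h.symm
  obtain ⟨z2, hz2', hz2c⟩ := exists_commute (π := π.comp C.subtype) (odd_restrict hodd C)
    (a := (⟨y1 ^ n, (mem _).2 hca⟩ : C)) (Subtype.ext hn2) (y := ⟨z1, (mem _).2 hz1a⟩) (by
      show π z1 * π (y1 ^ n) = π (y1 ^ n) * π z1
      rw [hz1, hnπ, hy1]; exact hzy)
  have h1 : π (z2 : N) = π z := hz2'.trans hz1
  have h2 : (z2 : N) * y1 ^ n = y1 ^ n * (z2 : N) := congrArg Subtype.val hz2c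
  have h3 : (z2 : N) * a = a * (z2 : N) := (mem _).1 z2.2
  obtain ⟨m, hm2, hmπ⟩ := exists_pow hodd (y := (z2 : N)) (by rw [h1, hz2])
  exact ⟨y1 ^ n, (z2 : N) ^ m, hnπ.trans hy1, hmπ.trans h1, hn2, hm2, hca, Commute.pow_left h3 m,
    Commute.pow_left h2 m⟩

/-- the order of the centralizer of an involution -/
theorem card_centralizer_dvd [Finite N] (hsurj : Function.Surjective π) (hodd : Odd (Nat.card π.ker)) {a : N}
    (ha : a * a = 1) :
    Nat.card (Subgroup.centralizer ({π a} : Set Q)) ∣ Nat.card (Subgroup.centralizer ({a} : Set N)) := by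
  have h1 : Subgroup.centralizer ({π a} : Set Q) ≤ (Subgroup.centralizer ({a} : Set N)).map π := by
    intro q hq
    rw [Subgroup.mem_centralizer_iff] at hq
    obtain ⟨y, rfl⟩ := hsurj q
    obtain ⟨y', h2, h3⟩ := exists_commute hodd ha (y := y) (hq _ rfl).symm
    refine ⟨y', ?_, h2⟩
    rw [SetLike.mem_coe, Subgroup.mem_centralizer_iff]
    rintro _ rfl
    exact h3.symm
  exact (Subgroup.card_dvd_of_le h1).trans (Subgroup.card_map_dvd _ _)

/-- the odd kernel does not contribute to the `2`-part -/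
theorem two_pow_dvd_of_centralizer [Finite N] (hodd : Odd (Nat.card π.ker)) {a : N}
    {k : ℕ} (h : 2 ^ k ∣ Nat.card (Subgroup.centralizer ({a} : Set N))) :
    2 ^ k ∣ Nat.card (Subgroup.centralizer ({π a} : Set Q)) := by
  set C := Subgroup.centralizer ({a} : Set N) with hC
  have h1 : C.map π ≤ Subgroup.centralizer ({π a} : Set Q) := by
    rintro _ ⟨x, hx, rfl⟩
    rw [SetLike.mem_coe, Subgroup.mem_centralizer_iff] at hx
    rw [Subgroup.mem_centralizer_iff]
    rintro _ rfl
    rw [← map_mul, ← map_mul, hx _ rfl]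
  have h2 : Nat.card C = Nat.card (π.comp C.subtype).ker * Nat.card (C.map π) := by
    have h3 := Subgroup.card_eq_card_quotient_mul_card_subgroup (π.comp C.subtype).ker
    rw [h3, mul_comm]
    congr 1
    rw [Nat.card_congr (QuotientGroup.quotientKerEquivRange (π.comp C.subtype)).toEquiv]
    congr 1
    rw [MonoidHom.range_comp, Subgroup.range_subtype]
  rw [h2] at h
  have h4 : Nat.Coprime (2 ^ k) (Nat.card (π.comp C.subtype).ker) := by
    apply Nat.Coprime.pow_left
    exact (Nat.coprime_two_left).2 (odd_restrict hodd C)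
  have h5 := h4.dvd_of_dvd_mul_left h
  by_cases hfin : Finite Q
  · exact h5.trans (Subgroup.card_dvd_of_le h1)
  · by_cases h6 : Finite (Subgroup.centralizer ({π a} : Set Q))
    · exact h5.trans (Subgroup.card_dvd_of_le h1)
    · rw [not_finite_iff_infinite] at h6
      rw [Nat.card_eq_zero_of_infinite]
      exact dvd_zero _

end Cfsg.Agent.StandardComponent.HS.OddKer
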