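import Cfsg.Agent.StandardComponent.HS.FourOuter
import Cfsg.Agent.HN.FactB
import Cfsg.Agent.HN.FactF5

set_option autoImplicit false

/-!
S1752: pairs of commuting conjugates of `t`, where `L = φ K` is a standard subgroup and `t = φ τ`.
-/

namespace Cfsg.Agent.StandardComponent.HS.PairA

open Cfsg.Agent.HN.Pres Cfsg.Agent.HN.HS100 Cfsg.Agent.HN.P1408 Cfsg.Agent.HN.H0Basic
open Cfsg.Agent.HN.Syl Cfsg.Agent.HN.Classes Cfsg.Agent.HN.FusGen Cfsg.Agent.HN.FusOne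
open Cfsg.Agent.HN.FusK0
open Cfsg.Agent.StandardComponent.HS.FourK0 Cfsg.Agent.StandardComponent.HS.Four
open Cfsg.Agent.StandardComponent.HS.FourOuter
open Cfsg.Agent.HN
open Subgroup

variable {G : Type*} [Group G] {φ φ' : K →* G}

/-- `v` centralises `φ K`. -/
def Cen (φ : K →* G) (v : G) : Prop := ∀ k, v * φ k = φ k * v

/-- `φ K` is a standard subgroup (the output of `StdPhi.exists_phi`). -/
structure Std (φ : K →* G) : Prop where
  inj : Function.Injective φ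
  acts : ∀ g, g * φ τ0 = φ τ0 * g → ∃ h : H0, Acts φ g h
  cent : ∀ v, (∀ k, v * φ k = φ k * v) → v * v = 1 → v ≠ 1 → ∀ g, g * v = v * g → g * φ τ0 = φ τ0 * g
  tight : ∀ g, g * φ τ0 ≠ φ τ0 * g → ∀ D : Subgroup G, (∀ x ∈ D, ∀ k, x * φ k = φ k * x) →
    (∀ x ∈ D, ∀ k, x * (g * φ k * g⁻¹) = (g * φ k * g⁻¹) * x) → Odd (Nat.card D)

/-! ### generalities on `Acts` -/

theorem Acts.comm_iff (hφ : Function.Injective φ) {g : G} {h : H0} (H : Acts φ g h) (k : K) :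
    g * φ k = φ k * g ↔ h * (k : H0) = k * h := by
  have h1 := H k
  constructor
  · intro h2
    rw [h2, mul_assoc, mul_inv_cancel, mul_one] at h1
    have h3 : (k : H0) = h * k * h⁻¹ := congrArg Subtype.val (hφ h1)
    exact (mul_inv_eq_iff_eq_mul.1 h3.symm)
  · intro h2
    have h3 : conjK h k = k := Subtype.ext (by rw [coe_conjK, h2]; group)
    rw [h3] at h1
    exact mul_inv_eq_iff_eq_mul.1 h1

theorem acts_one {g : G} (H : Cen φ g) : Acts φ g 1 := by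
  intro k
  have h1 : conjK 1 k = k := Subtype.ext (by rw [coe_conjK]; group)
  rw [h1, H]
  group

theorem Acts.mul_τ {g : G} {h : H0} (H : Acts φ g h) : Acts φ g (h * τ) := by
  intro k
  have h1 : conjK (h * τ) k = conjK h k := Subtype.ext (by
    rw [coe_conjK, coe_conjK]
    calc h * τ * k * (h * τ)⁻¹ = h * (τ * k) * τ⁻¹ * h⁻¹ := by group
      _ = h * (k * τ) * τ⁻¹ * h⁻¹ := by rw [τ_comm]
      _ = h * k * h⁻¹ := by group)
  rw [h1]
  exact H k

theorem cen_of_acts {g : G} {h : H0} (H : Acts φ g h) (hh : h = 1 ∨ h = τ) : Cen φ g := by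
  have key : ∀ {h : H0}, Acts φ g h → h = 1 → Cen φ g := by
    rintro h H rfl k
    have h1 := H k
    have h2 : conjK 1 k = k := Subtype.ext (by rw [coe_conjK]; group)
    rw [h2] at h1
    exact mul_inv_eq_iff_eq_mul.1 h1
  rcases hh with hh | hh
  · exact key H hh
  · exact key (Acts.mul_τ H) (by rw [hh, τ_mul_τ])

theorem Acts.sq_cases (hφ : Function.Injective φ) {g : G} {h : H0} (H : Acts φ g h) (hc : Cen φ (g * g)) :
    h * h = 1 ∨ h * h = τ := by
  have h1 := Acts.unique hφ (acts_one hc) (H.mul H)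
  rwa [one_mul] at h1

/-- An element of order 3 acts as an element of order 3 of `K`. -/
theorem acts_cube (hφ : Function.Injective φ) {g : G} {h : H0} (H : Acts φ g h) (hg : g * g * g = 1) :
    ∃ k : K, k * k * k = 1 ∧ Acts φ g k := by
  have h1 := (H.mul H).mul H
  rw [hg] at h1
  have h2 : h * h * h = 1 ∨ h * h * h = τ := by
    have h3 := Acts.unique hφ (acts_one (g := 1) fun k => by group) h1
    rwa [one_mul] at h3
  obtain ⟨h', hh', h3⟩ : ∃ h', Acts φ g h' ∧ h' * h' * h' = 1 := by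
    rcases h2 with h2 | h2
    · exact ⟨h, H, h2⟩
    · refine ⟨h * τ, Acts.mul_τ H, ?_⟩
      calc h * τ * (h * τ) * (h * τ) = h * (τ * h) * (τ * h) * τ := by group
        _ = h * (h * τ) * (h * τ) * τ := by rw [← τ_comm h]
        _ = h * h * (τ * h) * (τ * τ) := by group
        _ = h * h * (h * τ) * (τ * τ) := by rw [← τ_comm h]
        _ = (h * h * h) * τ := by rw [τ_mul_τ]; group
        _ = 1 := by rw [h2, τ_mul_τ]
  have hK : h' ∈ K := by
    have h4 : h' = (h' * h') * (h' * h') := by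
      calc h' = (h' * h' * h') * h' := by rw [h3, one_mul]
        _ = (h' * h') * (h' * h') := by group
    rw [h4]
    exact K.mul_mem (sq_mem_K h') (sq_mem_K h')
  exact ⟨⟨h', hK⟩, Subtype.ext h3, hh'⟩

/-- An element of order 3 commuting with `v` modulo `τ` commutes with `v`. -/
theorem comm_of_cube {g v : H0} (hg : g * g * g = 1) (h : g * v * g⁻¹ = v ∨ g * v * g⁻¹ = v * τ) : g * v = v * g := by
  rcases h with h | h
  · exact mul_inv_eq_iff_eq_mul.1 h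
  · exfalso
    have h1 : ∀ w : H0, g * w * g⁻¹ = w * τ → g * (w * τ) * g⁻¹ = w := by
      intro w hw
      calc g * (w * τ) * g⁻¹ = g * w * (τ * g⁻¹) := by group
        _ = g * w * (g⁻¹ * τ) := by rw [τ_comm]
        _ = g * w * g⁻¹ * τ := by group
        _ = w := by rw [hw, mul_assoc, τ_mul_τ, mul_one]
    have h2 : g * g * g * v * (g * g * g)⁻¹ = v * τ := by
      calc g * g * g * v * (g * g * g)⁻¹ = g * (g * (g * v * g⁻¹) * g⁻¹) * g⁻¹ := by group
        _ = g * v * g⁻¹ := by rw [h, h1 v h, h]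
        _ = v * τ := h
    rw [hg, one_mul, inv_one, mul_one] at h2
    exact τ_ne_one (mul_eq_left.1 h2.symm)

/-! ### conjugation -/

/-- the conjugate homomorphism -/
def conjHom (φ : K →* G) (g : G) : K →* G := (MulAut.conj g).toMonoidHom.comp φ

theorem conjHom_apply (φ : K →* G) (g : G) (k : K) : conjHom φ g k = g * φ k * g⁻¹ := rfl

theorem conjHom_conjHom (φ : K →* G) (g h : G) : conjHom (conjHom φ g) h = conjHom φ (h * g) := by
  ext k
  rw [conjHom_apply, conjHom_apply, conjHom_apply]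
  group

theorem conjHom_one (φ : K →* G) : conjHom φ 1 = φ := by
  ext k
  rw [conjHom_apply]
  group

theorem comm_conj {g x y : G} : x * (g * y * g⁻¹) = g * y * g⁻¹ * x ↔ g⁻¹ * x * g * y = y * (g⁻¹ * x * g) := by
  constructor
  · intro h
    calc g⁻¹ * x * g * y = g⁻¹ * (x * (g * y * g⁻¹)) * g := by group
      _ = g⁻¹ * (g * y * g⁻¹ * x) * g := by rw [h]
      _ = y * (g⁻¹ * x * g) := by group
  · intro h
    calc x * (g * y * g⁻¹) = g * (g⁻¹ * x * g * y) * g⁻¹ := by group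
      _ = g * (y * (g⁻¹ * x * g)) * g⁻¹ := by rw [h]
      _ = g * y * g⁻¹ * x := by group

theorem cen_conjHom {g v : G} : Cen (conjHom φ g) v ↔ Cen φ (g⁻¹ * v * g) :=
  forall_congr' fun _ => comm_conj

theorem acts_conjHom {g v : G} {h : H0} (H : Acts φ (g⁻¹ * v * g) h) : Acts (conjHom φ g) v h := by
  intro k
  rw [conjHom_apply, conjHom_apply, ← H k]
  group

theorem Std.conj (S : Std φ) (g : G) : Std (conjHom φ g) where
  inj k l h := S.inj (by
    rw [conjHom_apply, conjHom_apply] at h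
    exact mul_left_cancel (mul_right_cancel h))
  acts x hx := by
    obtain ⟨h, hh⟩ := S.acts (g⁻¹ * x * g) (comm_conj.1 hx)
    exact ⟨h, acts_conjHom hh⟩
  cent v hv hv2 hv1 x hx := by
    refine comm_conj.2 (S.cent (g⁻¹ * v * g) (cen_conjHom.1 hv) ?_ ?_ _ ?_)
    · calc g⁻¹ * v * g * (g⁻¹ * v * g) = g⁻¹ * (v * v) * g := by group
        _ = 1 := by rw [hv2]; group
    · intro h
      apply hv1
      calc v = g * (g⁻¹ * v * g) * g⁻¹ := by group
        _ = 1 := by rw [h]; group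
    · calc g⁻¹ * x * g * (g⁻¹ * v * g) = g⁻¹ * (x * v) * g := by group
        _ = g⁻¹ * (v * x) * g := by rw [hx]
        _ = g⁻¹ * v * g * (g⁻¹ * x * g) := by group
  tight x hx D hD hD' := by
    have h1 := S.tight (g⁻¹ * x * g) (fun h => hx (comm_conj.2 h)) (D.map (MulAut.conj g⁻¹).toMonoidHom) ?_ ?_
    · have h2 : Nat.card (D.map (MulAut.conj g⁻¹).toMonoidHom) = Nat.card D :=
        (Nat.card_congr (D.equivMapOfInjective _ (MulAut.conj g⁻¹).injective).toEquiv).symm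
      rwa [h2] at h1
    · rintro _ ⟨y, hy, rfl⟩ k
      have h2 := comm_conj.1 (hD y hy k)
      simp only [MulEquiv.toMonoidHom_eq_coe, MonoidHom.coe_coe, MulAut.conj_apply, inv_inv]
      exact h2
    · rintro _ ⟨y, hy, rfl⟩ k
      have h2 := hD' y hy k
      simp only [MulEquiv.toMonoidHom_eq_coe, MonoidHom.coe_coe, MulAut.conj_apply, inv_inv]
      rw [conjHom_apply] at h2
      calc g⁻¹ * y * g * (g⁻¹ * x * g * φ k * (g⁻¹ * x * g)⁻¹)
          = g⁻¹ * (y * (x * (g * φ k * g⁻¹) * x⁻¹)) * g := by group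
        _ = g⁻¹ * (x * (g * φ k * g⁻¹) * x⁻¹ * y) * g := by rw [h2]
        _ = g⁻¹ * x * g * φ k * (g⁻¹ * x * g)⁻¹ * (g⁻¹ * y * g) := by group

/-! ### pairs -/

/-- Two standard subgroups `φ K` and `φ' K`, conjugate in `G`, such that `t = φ τ` and `t' = φ' τ` are different and
commute. -/
structure Two (φ φ' : K →* G) : Prop where
  std : Std φ
  conj : ∃ g, φ' = conjHom φ g
  ne : φ' τ0 ≠ φ τ0
  comm : φ' τ0 * φ τ0 = φ τ0 * φ' τ0

theorem Two.std' (T : Two φ φ') : Std φ' := by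
  obtain ⟨g, rfl⟩ := T.conj
  exact T.std.conj g

theorem Two.symm (T : Two φ φ') : Two φ' φ where
  std := T.std'
  conj := by
    obtain ⟨g, rfl⟩ := T.conj
    exact ⟨g⁻¹, by rw [conjHom_conjHom, inv_mul_cancel, conjHom_one]⟩
  ne := T.ne.symm
  comm := T.comm.symm

/-- conjugating a pair -/
theorem Two.conj_both (T : Two φ φ') (g : G) : Two (conjHom φ g) (conjHom φ' g) where
  std := T.std.conj g
  conj := by
    obtain ⟨c, rfl⟩ := T.conj
    refine ⟨g * c * g⁻¹, ?_⟩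
    rw [conjHom_conjHom, conjHom_conjHom]
    congr 1
    group
  ne h := T.ne (by
    rw [conjHom_apply, conjHom_apply] at h
    exact mul_left_cancel (mul_right_cancel h))
  comm := by
    rw [conjHom_apply, conjHom_apply]
    calc g * φ' τ0 * g⁻¹ * (g * φ τ0 * g⁻¹) = g * (φ' τ0 * φ τ0) * g⁻¹ := by group
      _ = g * (φ τ0 * φ' τ0) * g⁻¹ := by rw [T.comm]
      _ = g * φ τ0 * g⁻¹ * (g * φ' τ0 * g⁻¹) := by group

/-- conjugating `φ'` by an element of `C(t)` -/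
theorem Two.conj_right (T : Two φ φ') {g : G} (hg : g * φ τ0 = φ τ0 * g) : Two φ (conjHom φ' g) where
  std := T.std
  conj := by
    obtain ⟨c, rfl⟩ := T.conj
    exact ⟨g * c, conjHom_conjHom _ _ _⟩
  ne h := by
    rw [conjHom_apply, mul_inv_eq_iff_eq_mul, ← hg] at h
    exact T.ne (mul_left_cancel h)
  comm := by
    rw [conjHom_apply]
    have h1 : g⁻¹ * φ τ0 = φ τ0 * g⁻¹ := by
      rw [inv_mul_eq_iff_eq_mul, ← mul_assoc, hg]; group
    calc g * φ' τ0 * g⁻¹ * φ τ0 = g * φ' τ0 * (g⁻¹ * φ τ0) := by group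
      _ = g * (φ' τ0 * φ τ0) * g⁻¹ := by rw [h1]; group
      _ = (g * φ τ0) * φ' τ0 * g⁻¹ := by rw [T.comm]; group
      _ = φ τ0 * (g * φ' τ0 * g⁻¹) := by rw [hg]; group

theorem Two.t_ne (T : Two φ φ') : φ τ0 ≠ 1 := fun h => τ0_ne (T.std.inj (h.trans (map_one φ).symm))

theorem Std.t_ne (S : Std φ) : φ τ0 ≠ 1 := fun h => τ0_ne (S.inj (h.trans (map_one φ).symm))

theorem cen_t : Cen φ (φ τ0) := fun k => (t_comm k).symm

theorem Two.odd (T : Two φ φ') (D : Subgroup G) (hD : ∀ x ∈ D, Cen φ x) (hD' : ∀ x ∈ D, Cen φ' x) :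
    Odd (Nat.card D) := by
  obtain ⟨g, rfl⟩ := T.conj
  refine T.std.tight g (fun h => T.ne ?_) D hD hD'
  rw [conjHom_apply, h]
  group

theorem Two.eq_one (T : Two φ φ') {v : G} (hv : Cen φ v) (hv' : Cen φ' v) (hv2 : v * v = 1) : v = 1 := by
  have h1 := T.odd (Subgroup.zpowers v) ?_ ?_
  · rw [Nat.card_zpowers] at h1
    have h2 : orderOf v ∣ 2 := orderOf_dvd_of_pow_eq_one (by rw [pow_two, hv2])
    rcases (Nat.dvd_prime Nat.prime_two).1 h2 with h3 | h3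
    · exact orderOf_eq_one_iff.1 h3
    · rw [h3] at h1
      exact absurd h1 (by decide)
  · rintro x ⟨n, rfl⟩ k
    exact ((show Commute v (φ k) from hv k).zpow_left n)
  · rintro x ⟨n, rfl⟩ k
    exact ((show Commute v (φ' k) from hv' k).zpow_left n)

theorem Cen.mul {v w : G} (hv : Cen φ v) (hw : Cen φ w) : Cen φ (v * w) := fun k => by
  rw [mul_assoc, hw, ← mul_assoc, hv, mul_assoc]

theorem Cen.inv {v : G} (hv : Cen φ v) : Cen φ v⁻¹ := fun k => by
  rw [inv_mul_eq_iff_eq_mul, ← mul_assoc, hv, mul_assoc, mul_inv_cancel, mul_one]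

theorem cen_one : Cen φ (1 : G) := fun k => by rw [one_mul, mul_one]

/-- (C1) the only involution of `C(L)` commuting with `t'` is `t`. -/
theorem Two.C1 (T : Two φ φ') {v : G} (hv : Cen φ v) (hv2 : v * v = 1) (hv1 : v ≠ 1)
    (hvt : v * φ' τ0 = φ' τ0 * v) : v = φ τ0 := by
  obtain ⟨h, hh⟩ := T.std'.acts v hvt
  obtain ⟨s, hs⟩ := T.std'.acts (φ τ0) T.comm.symm
  have hsq : h * h = 1 ∨ h * h = τ := Acts.sq_cases T.std'.inj hh (by rw [hv2]; exact cen_one)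
  have h1 : h ≠ 1 := fun e => hv1 (T.eq_one hv (cen_of_acts hh (Or.inl e)) hv2)
  have h2 : h ≠ τ := fun e => hv1 (T.eq_one hv (cen_of_acts hh (Or.inr e)) hv2)
  have hsc : ∀ k ∈ K, k * h = h * k → s * k = k * s := by
    intro k hk hkh
    have h3 := (Acts.comm_iff T.std'.inj hh ⟨k, hk⟩).2 hkh.symm
    have h4 := T.std.cent v hv hv2 hv1 _ h3.symm
    exact (Acts.comm_iff T.std'.inj hs ⟨k, hk⟩).1 h4.symm
  have hs1 : s ≠ 1 ∧ s ≠ τ := by
    constructor
    · exact fun e => T.t_ne (T.eq_one cen_t (cen_of_acts hs (Or.inl e)) t_sq)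
    · exact fun e => T.t_ne (T.eq_one cen_t (cen_of_acts hs (Or.inr e)) t_sq)
  have key : s * h = 1 ∨ s * h = τ := by
    rcases FactF1.cent_cent (h := h) (g := s) (by rw [pow_two]; exact hsq) h1 h2 hsc with e | e | e | e
    · exact absurd e hs1.1
    · exact absurd e hs1.2
    · rw [e]; exact hsq
    · rw [e, mul_assoc, ← τ_comm h, ← mul_assoc]
      rcases hsq with e' | e'
      · right; rw [e', one_mul]
      · left; rw [e', τ_mul_τ]
  have h5 : φ τ0 * v = 1 := by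
    refine T.eq_one (cen_t.mul hv) (cen_of_acts (hs.mul hh) key) ?_
    calc φ τ0 * v * (φ τ0 * v) = φ τ0 * (v * φ τ0) * v := by group
      _ = φ τ0 * (φ τ0 * v) * v := by rw [hv]
      _ = (φ τ0 * φ τ0) * (v * v) := by group
      _ = 1 := by rw [t_sq, hv2, one_mul]
  have h6 : φ τ0 * (φ τ0 * v) = φ τ0 := by rw [h5, mul_one]
  rwa [← mul_assoc, t_sq, one_mul] at h6

/-- `t'` acts on `L` as an inner automorphism given by an involution: then `t' ∈ L`. -/
theorem Two.kindA (T : Two φ φ') {k : K} (h : Acts φ (φ' τ0) k) (hk : k * k = 1) : ∃ l : K, φ' τ0 = φ l := by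
  set y : G := φ' τ0 * (φ k)⁻¹ with hy
  have e0 : φ' τ0 = y * φ k := by rw [hy]; group
  have hyc : Cen φ y := by
    have h1 := h.mul (acts_of (φ := φ) k).inv
    rw [mul_inv_cancel] at h1
    exact cen_of_acts h1 (Or.inl rfl)
  have e1 : y * y = 1 := by
    have h1 : φ' τ0 * φ' τ0 = 1 := t_sq
    rw [e0] at h1
    calc y * y = y * (y * φ k) * (φ k)⁻¹ := by group
      _ = y * (φ k * y) * (φ k)⁻¹ := by rw [hyc]
      _ = (y * φ k) * (y * φ k) * ((φ k)⁻¹ * (φ k)⁻¹) := by group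
      _ = 1 := by rw [h1, ← mul_inv_rev, ← map_mul, hk, map_one]; group
  have e2 : y * φ' τ0 = φ' τ0 * y := by
    rw [e0, hyc k, ← mul_assoc, hyc k]
  by_cases hy1 : y = 1
  · exact ⟨k, by rw [e0, hy1, one_mul]⟩
  · refine ⟨τ0 * k, ?_⟩
    rw [e0, T.C1 hyc e1 hy1 e2, map_mul]

/-! ### the parity argument -/

/-- the index of the centraliser of `φ a0` in `C(t)` -/
theorem Std.index_a [Finite G] (F : Std φ) : ((centralizer {φ a0}).subgroupOf (centralizer {φ τ0})).index = 5775 := by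
  set C : Subgroup G := centralizer {φ τ0} with hC
  set A : Subgroup C := (centralizer {φ a0}).subgroupOf C with hA
  have memA : ∀ g : C, g ∈ A ↔ (g : G) * φ a0 = φ a0 * g := fun g => by
    rw [hA, mem_subgroupOf, mem_centralizer_singleton_iff]
  set L : Subgroup C := (toC φ).range with hL
  have hLn : L.Normal := by
    refine ⟨?_⟩
    rintro _ ⟨k, rfl⟩ g
    obtain ⟨h, hh⟩ := F.acts g (mem_centralizer_singleton_iff.1 g.2)
    exact ⟨conjK h k, Subtype.ext (hh k).symm⟩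
  have hsup : A ⊔ L = ⊤ := by
    rw [eq_top_iff]
    rintro g -
    obtain ⟨h, hh⟩ := F.acts g (mem_centralizer_singleton_iff.1 g.2)
    have h1 : IsConj a0 (conjK h a0) := by
      refine isConj_of (g := a0) s8_a ?_
      exact isConj_iff.2 ⟨h, rfl⟩
    obtain ⟨l, hl⟩ := isConj_iff.1 h1
    have h2 : (g : G) * φ a0 * (g : G)⁻¹ = φ l * φ a0 * (φ l)⁻¹ := by
      rw [hh, ← hl, map_mul, map_mul, map_inv]
    have h3 : (toC φ l)⁻¹ * g ∈ A := by
      rw [memA]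
      change (φ l)⁻¹ * (g : G) * φ a0 = φ a0 * ((φ l)⁻¹ * (g : G))
      calc (φ l)⁻¹ * (g : G) * φ a0 = (φ l)⁻¹ * ((g : G) * φ a0 * (g : G)⁻¹) * g := by group
        _ = (φ l)⁻¹ * (φ l * φ a0 * (φ l)⁻¹) * g := by rw [h2]
        _ = φ a0 * ((φ l)⁻¹ * (g : G)) := by group
    have h4 : g = toC φ l * ((toC φ l)⁻¹ * g) := by group
    rw [h4]
    exact mul_mem (mem_sup_right ⟨l, rfl⟩) (mem_sup_left h3)
  have e1 : A.relIndex L * L.index = (A ⊓ L).index := by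
    have := relIndex_inf_mul_relIndex A L ⊤
    rwa [inf_top_eq, relIndex_top_right, relIndex_top_right] at this
  have e2 : L.relIndex A * A.index = (L ⊓ A).index := by
    have := relIndex_inf_mul_relIndex L A ⊤
    rwa [inf_top_eq, relIndex_top_right, relIndex_top_right] at this
  have e3 : L.relIndex A = L.index := by
    have h1 : L.relIndex (A ⊔ L) = L.relIndex A := relIndex_sup_right ..
    rw [← h1, hsup, relIndex_top_right]
  have e4 : A.index = A.relIndex L := by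
    rw [e3] at e2
    rw [inf_comm, ← e2, mul_comm] at e1
    exact (Nat.eq_of_mul_eq_mul_left (Nat.pos_of_ne_zero index_ne_zero_of_finite) e1).symm
  have e5 : (A.comap (toC φ)).index = A.relIndex L := index_comap A (toC φ)
  have e6 : A.comap (toC φ) = (centralizer {a} : Subgroup H0).subgroupOf K := by
    ext k
    rw [mem_comap, memA, mem_subgroupOf, mem_centralizer_singleton_iff]
    constructor
    · intro h
      have h1 : φ (k * a0) = φ (a0 * k) := by rw [map_mul, map_mul]; exact h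
      exact congrArg Subtype.val (F.inj h1)
    · intro h
      have h1 : k * a0 = a0 * k := Subtype.ext h
      change φ k * φ a0 = φ a0 * φ k
      rw [← map_mul, ← map_mul, h1]
  rw [e4, ← e5, e6]
  exact FactF4.relIndex_centralizer_a

theorem b0_eq' : b0 = a0 * τ0 := b0_eq

/-- the index of the centraliser of `φ b0` in `C(t)` -/
theorem Std.index_b [Finite G] (F : Std φ) : ((centralizer {φ b0}).subgroupOf (centralizer {φ τ0})).index = 5775 := by
  rw [← F.index_a]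
  congr 1
  ext g
  have hg := mem_centralizer_singleton_iff.1 g.2
  rw [mem_subgroupOf, mem_centralizer_singleton_iff, mem_subgroupOf, mem_centralizer_singleton_iff, b0_eq', map_mul]
  constructor
  · intro h
    have h1 : (g : G) * φ a0 * φ τ0 = φ a0 * g * φ τ0 := by
      rw [mul_assoc, h, mul_assoc, mul_assoc, hg]
    exact mul_right_cancel h1
  · intro h
    rw [← mul_assoc, h, mul_assoc, hg, ← mul_assoc]

/-- An element of `C(t)` whose centraliser in `C(t)` has odd index acts as `1, τ`, or an element of the classes of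
`a` or `a τ`. -/
theorem Std.odd_cases [Finite G] (F : Std φ) {u : G} {h : H0} (hu : Acts φ u h)
    (hodd : ¬ 2 ∣ ((centralizer {u}).subgroupOf (centralizer {φ τ0})).index) : h ∈ K ∧ h * h = 1 := by
  obtain ⟨c, hc⟩ := FactF4.exists_conj_le isPGroup_S0 hodd
  obtain ⟨hc', hcc⟩ := F.acts c (mem_centralizer_singleton_iff.1 c.2)
  have hu' : Acts φ ((c : G) * u * (c : G)⁻¹) (hc' * h * hc'⁻¹) := (Acts.mul (Acts.mul hcc hu) (Acts.inv hcc))
  have h4 := FactF4.F4 (h := hc' * h * hc'⁻¹) (fun s hs hsK => ?_)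
  · have h8 : hc'⁻¹ * (hc' * h * hc'⁻¹) * hc'⁻¹⁻¹ = h := by group
    have key : hc' * h * hc'⁻¹ ∈ K ∧ (hc' * h * hc'⁻¹) * (hc' * h * hc'⁻¹) = 1 := by
      rcases h4 with h4 | h4 | h4 | h4
      · rw [h4]; exact ⟨K.one_mem, one_mul 1⟩
      · rw [h4]; exact ⟨τ_mem_K, τ_mul_τ⟩
      · rw [h4, ← pow_two]; exact ⟨a0.2, a_sq'⟩
      · rw [h4, ← pow_two]; exact ⟨aτ_mem_K, aτ_sq⟩
    constructor
    · have h7 := (inferInstance : (K : Subgroup H0).Normal).conj_mem _ key.1 hc'⁻¹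
      rwa [h8] at h7
    · rw [← h8]
      calc hc'⁻¹ * (hc' * h * hc'⁻¹) * hc'⁻¹⁻¹ * (hc'⁻¹ * (hc' * h * hc'⁻¹) * hc'⁻¹⁻¹)
          = hc'⁻¹ * ((hc' * h * hc'⁻¹) * (hc' * h * hc'⁻¹)) * hc' := by group
        _ = 1 := by rw [key.2]; group
  · have h1 := hc (toC φ ⟨s, hsK⟩) ⟨⟨s, hsK⟩, mem_S0.2 hs, rfl⟩
    rw [mem_subgroupOf, mem_centralizer_singleton_iff] at h1
    have h2 : (c : G)⁻¹ * φ ⟨s, hsK⟩ * c * u = u * ((c : G)⁻¹ * φ ⟨s, hsK⟩ * c) := h1
    have h3 : φ ⟨s, hsK⟩ * (c * u * (c : G)⁻¹) * (φ ⟨s, hsK⟩)⁻¹ = c * u * (c : G)⁻¹ := by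
      calc φ ⟨s, hsK⟩ * (c * u * (c : G)⁻¹) * (φ ⟨s, hsK⟩)⁻¹
          = c * ((c : G)⁻¹ * φ ⟨s, hsK⟩ * c * u) * (c : G)⁻¹ * (φ ⟨s, hsK⟩)⁻¹ := by group
        _ = c * (u * ((c : G)⁻¹ * φ ⟨s, hsK⟩ * c)) * (c : G)⁻¹ * (φ ⟨s, hsK⟩)⁻¹ := by rw [h2]
        _ = c * u * (c : G)⁻¹ := by group
    have h5 : Acts φ ((c : G) * u * (c : G)⁻¹) (s * (hc' * h * hc'⁻¹) * s⁻¹) := by
      have h6 := Acts.mul (Acts.mul (acts_of (φ := φ) ⟨s, hsK⟩) hu') (Acts.inv (acts_of (φ := φ) ⟨s, hsK⟩))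
      rwa [h3] at h6
    exact Acts.unique F.inj hu' h5

theorem card_centralizer_conj (g t : G) :
    Nat.card (centralizer {g * t * g⁻¹} : Subgroup G) = Nat.card (centralizer {t} : Subgroup G) := by
  have h1 : (centralizer {g * t * g⁻¹} : Subgroup G) = (centralizer {t} : Subgroup G).map (MulAut.conj g).toMonoidHom := by
    ext x
    rw [mem_centralizer_singleton_iff, comm_conj]
    constructor
    · intro h
      refine ⟨g⁻¹ * x * g, mem_centralizer_singleton_iff.2 h, ?_⟩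
      simp only [MulEquiv.toMonoidHom_eq_coe, MonoidHom.coe_coe, MulAut.conj_apply]
      group
    · rintro ⟨y, hy, rfl⟩
      have hy' := mem_centralizer_singleton_iff.1 hy
      simp only [MulEquiv.toMonoidHom_eq_coe, MonoidHom.coe_coe, MulAut.conj_apply]
      have h2 : g⁻¹ * (g * y * g⁻¹) * g = y := by group
      rw [h2, hy']
  rw [h1]
  exact (Nat.card_congr (((centralizer {t} : Subgroup G)).equivMapOfInjective _ (MulAut.conj g).injective).toEquiv).symm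

/-- relative indices of the centralisers of `t` and `t'` -/
theorem Two.index_eq [Finite G] (T : Two φ φ') :
    ((centralizer {φ τ0}).subgroupOf (centralizer {φ' τ0})).index =
      ((centralizer {φ' τ0}).subgroupOf (centralizer {φ τ0})).index := by
  have h1 := FactF4.relIndex_mul_card' (centralizer {φ τ0} : Subgroup G) (centralizer {φ' τ0})
  have h2 := FactF4.relIndex_mul_card' (centralizer {φ' τ0} : Subgroup G) (centralizer {φ τ0})
  have h3 : Nat.card (centralizer {φ' τ0} : Subgroup G) = Nat.card (centralizer {φ τ0} : Subgroup G) := by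
    obtain ⟨g, rfl⟩ := T.conj
    exact card_centralizer_conj g (φ τ0)
  rw [h3, ← h2, inf_comm] at h1
  exact Nat.eq_of_mul_eq_mul_right Nat.card_pos h1

/-- (P6) `t' ∈ L` implies `t ∈ L'`. -/
theorem Two.mem_symm [Finite G] (T : Two φ φ') (h : ∃ k : K, φ' τ0 = φ k) : ∃ k : K, φ τ0 = φ' k := by
  obtain ⟨k, hk⟩ := h
  have key : ∀ {φ'' : K →* G}, Two φ φ'' → (φ'' τ0 = φ a0 ∨ φ'' τ0 = φ b0) → ∃ k : K, φ τ0 = φ'' k := by
    intro φ'' T h
    have h1 : ((centralizer {φ'' τ0}).subgroupOf (centralizer {φ τ0})).index = 5775 := by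
      rcases h with h | h
      · rw [h]; exact T.std.index_a
      · rw [h]; exact T.std.index_b
    rw [← T.index_eq] at h1
    obtain ⟨h0, hh⟩ := T.std'.acts (φ τ0) T.comm.symm
    obtain ⟨h2, h3⟩ := T.std'.odd_cases hh (by rw [h1]; norm_num)
    exact T.symm.kindA (k := ⟨h0, h2⟩) hh (Subtype.ext h3)
  have hk2 : k * k = 1 := T.std.inj (by rw [map_mul, map_one, ← hk, t_sq])
  have hconj : ∀ c : K, (φ' τ0 = φ c * φ a0 * (φ c)⁻¹ ∨ φ' τ0 = φ c * φ b0 * (φ c)⁻¹) → ∃ k : K, φ τ0 = φ' k := by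
    intro c hc
    have hc1 : (φ c)⁻¹ * φ τ0 = φ τ0 * (φ c)⁻¹ := by
      rw [← map_inv, t_comm]
    obtain ⟨l, hl⟩ := key (T.conj_right hc1) (by
      rw [conjHom_apply]
      rcases hc with hc | hc
      · left; rw [hc]; group
      · right; rw [hc]; group)
    refine ⟨l, ?_⟩
    rw [conjHom_apply, inv_inv] at hl
    calc φ τ0 = φ c * ((φ c)⁻¹ * φ τ0) := by group
      _ = φ c * (φ τ0 * (φ c)⁻¹) := by rw [hc1]
      _ = φ c * ((φ c)⁻¹ * φ' l * φ c * (φ c)⁻¹) := by rw [hl]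
      _ = φ' l := by group
  rcases cases_K hk2 with h3 | h3 | h3 | h3
  · exfalso
    rw [h3, map_one] at hk
    exact T.symm.t_ne hk
  · exfalso
    rw [h3] at hk
    exact T.ne hk
  · obtain ⟨c, hc⟩ := isConj_iff.1 h3
    exact hconj c (Or.inl (by rw [hk, ← hc, map_mul, map_mul, map_inv]))
  · obtain ⟨c, hc⟩ := isConj_iff.1 h3
    exact hconj c (Or.inr (by rw [hk, ← hc, map_mul, map_mul, map_inv]))

/-! ### type B -/

theorem pow_three' {H : Type*} [Group H] (g : H) : g ^ 3 = g * g * g := by rw [pow_succ, pow_two]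

/-- (B2) for an arbitrary element of `K` with square `τ`. -/
theorem B2' {k : K} (hk : k * k = τ0) : ∃ p q : K, p * k = k * p ∧ q * k = k * q ∧ p * p * p = 1 ∧ q * q * q = 1 ∧
    (p * q) * (p * q) = 1 ∧ p * q ≠ 1 := by
  obtain ⟨c, hc⟩ := isConj_iff.1 (isConj_x0 hk)
  obtain ⟨p, hp, q, hq, h1, h2, h3, h4, h5, h6, -⟩ := FactB.B2
  have e1 : (⟨p, hp⟩ : K) * x0 = x0 * ⟨p, hp⟩ := Subtype.ext h1
  have e2 : (⟨q, hq⟩ : K) * x0 = x0 * ⟨q, hq⟩ := Subtype.ext h2
  have e3 : (⟨p, hp⟩ : K) * ⟨p, hp⟩ * ⟨p, hp⟩ = 1 := Subtype.ext (by rw [pow_three'] at h3; exact h3)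
  have e4 : (⟨q, hq⟩ : K) * ⟨q, hq⟩ * ⟨q, hq⟩ = 1 := Subtype.ext (by rw [pow_three'] at h4; exact h4)
  have e5 : ((⟨p, hp⟩ : K) * ⟨q, hq⟩) * (⟨p, hp⟩ * ⟨q, hq⟩) = 1 := Subtype.ext (by rw [pow_two] at h5; exact h5)
  have e6 : (⟨p, hp⟩ : K) * ⟨q, hq⟩ ≠ 1 := fun h => h6 (congrArg Subtype.val h)
  generalize (⟨p, hp⟩ : K) = p' at *
  generalize (⟨q, hq⟩ : K) = q' at *
  refine ⟨c * p' * c⁻¹, c * q' * c⁻¹, ?_, ?_, ?_, ?_, ?_, ?_⟩
  · rw [← hc]
    calc c * p' * c⁻¹ * (c * x0 * c⁻¹) = c * (p' * x0) * c⁻¹ := by group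
      _ = c * (x0 * p') * c⁻¹ := by rw [e1]
      _ = _ := by group
  · rw [← hc]
    calc c * q' * c⁻¹ * (c * x0 * c⁻¹) = c * (q' * x0) * c⁻¹ := by group
      _ = c * (x0 * q') * c⁻¹ := by rw [e2]
      _ = _ := by group
  · calc _ = c * (p' * p' * p') * c⁻¹ := by group
      _ = 1 := by rw [e3]; group
  · calc _ = c * (q' * q' * q') * c⁻¹ := by group
      _ = 1 := by rw [e4]; group
  · calc _ = c * ((p' * q') * (p' * q')) * c⁻¹ := by group
      _ = 1 := by rw [e5]; group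
  · intro h
    apply e6
    calc p' * q' = c⁻¹ * (c * p' * c⁻¹ * (c * q' * c⁻¹)) * c := by group
      _ = 1 := by rw [h]; group

/-- An element commuting with `g` and acting: the actions commute modulo `τ`. -/
theorem acts_comm (hφ : Function.Injective φ) {g g' : G} {h h' : H0} (H : Acts φ g h) (H' : Acts φ g' h')
    (hc : g * g' = g' * g) : h * h' * h⁻¹ = h' ∨ h * h' * h⁻¹ = h' * τ := by
  have h1 := (H.mul H').mul H.inv
  have h2 : g * g' * g⁻¹ = g' := by rw [hc]; group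
  rw [h2] at h1
  exact Acts.unique hφ H' h1

/-- type B does not occur -/
theorem Two.not_B [Finite G] (T : Two φ φ') {k : K} (h : Acts φ (φ' τ0) k) : k * k ≠ τ0 := by
  intro hk
  have hk1 : k * k ≠ 1 := fun e => τ0_ne (hk.symm.trans e)
  -- `t'` is not in `L`
  have hL : ¬ ∃ l : K, φ' τ0 = φ l := by
    rintro ⟨l, hl⟩
    have hl2 : l * l = 1 := T.std.inj (by rw [map_mul, map_one, ← hl, t_sq])
    have h1 : (k : H0) = l ∨ (k : H0) = l * τ := by
      refine Acts.unique T.std.inj ?_ h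
      rw [hl]
      exact acts_of l
    rcases h1 with h1 | h1
    · have h2 : k = l := Subtype.ext h1
      rw [h2] at hk1
      exact hk1 hl2
    · have h2 : k = l * τ0 := Subtype.ext h1
      apply hk1
      calc k * k = l * (τ0 * l) * τ0 := by rw [h2]; group
        _ = l * (l * τ0) * τ0 := by rw [← τ0_comm l]
        _ = (l * l) * (τ0 * τ0) := by group
        _ = 1 := by rw [hl2, τ0_sq, one_mul]
  have hL' : ¬ ∃ l : K, φ τ0 = φ' l := fun e => hL (T.symm.mem_symm e)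
  set y : G := φ' τ0 * (φ k)⁻¹ with hy
  have e0 : φ' τ0 = y * φ k := by rw [hy]; group
  have hyc : Cen φ y := by
    have h1 := h.mul (acts_of (φ := φ) k).inv
    rw [mul_inv_cancel] at h1
    exact cen_of_acts h1 (Or.inl rfl)
  have e1 : y * y = φ τ0 := by
    have h1 : φ' τ0 * φ' τ0 = 1 := t_sq
    rw [e0] at h1
    have h2 : (φ k)⁻¹ * (φ k)⁻¹ = φ τ0 := by
      rw [← mul_inv_rev, ← map_mul, hk, ← map_inv]
      congr 1
      exact inv_eq_of_mul_eq_one_left τ0_sq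
    calc y * y = y * (y * φ k) * (φ k)⁻¹ := by group
      _ = y * (φ k * y) * (φ k)⁻¹ := by rw [hyc]
      _ = (y * φ k) * (y * φ k) * ((φ k)⁻¹ * (φ k)⁻¹) := by group
      _ = φ τ0 := by rw [h1, h2, one_mul]
  have e2 : y * φ' τ0 = φ' τ0 * y := by
    rw [e0, hyc k, ← mul_assoc, hyc k]
  -- the action of `y` on `L'`
  obtain ⟨v, hv⟩ := T.std'.acts y e2
  have hvv := hv.mul hv
  rw [e1] at hvv
  have hv4 : (v * v) * (v * v) = 1 ∨ (v * v) * (v * v) = τ :=
    Acts.sq_cases T.std'.inj hvv (by rw [t_sq]; exact cen_one)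
  rcases hv4 with hv4 | hv4
  · exact hL' (T.symm.kindA (k := ⟨v * v, sq_mem_K v⟩) hvv (Subtype.ext hv4))
  obtain ⟨p, q, hp, hq, hp3, hq3, hpq, hpq1⟩ := B2' hk
  have key : ∀ p : K, p * k = k * p → p * p * p = 1 → Cen φ' (φ p) := by
    intro p hp hp3
    have f1 : φ p * y = y * φ p := (hyc p).symm
    have f2 : φ p * φ' τ0 = φ' τ0 * φ p := by
      have f2' : φ p * φ k = φ k * φ p := by rw [← map_mul, hp, map_mul]
      rw [e0]
      calc φ p * (y * φ k) = φ p * y * φ k := (mul_assoc _ _ _).symm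
        _ = y * φ p * φ k := by rw [f1]
        _ = y * (φ p * φ k) := mul_assoc _ _ _
        _ = y * (φ k * φ p) := by rw [f2']
        _ = y * φ k * φ p := (mul_assoc _ _ _).symm
    obtain ⟨g, hg⟩ := T.std'.acts (φ p) f2
    obtain ⟨s, hs3, hs⟩ := acts_cube T.std'.inj hg (by rw [← map_mul, ← map_mul, hp3, map_one])
    have hs3' : (s : H0) * s * s = 1 := congrArg Subtype.val hs3
    have f3 := comm_of_cube hs3' (acts_comm T.std'.inj hs hv f1)
    have f4 : v ^ 4 = τ := by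
      rw [← hv4, show 4 = 2 * 2 by norm_num, pow_mul, pow_two, pow_two]
    have f5 := FactB.B1 f4 (by rw [pow_three']; exact hs3') f3
    exact cen_of_acts hs (Or.inl f5)
  have hpc := key p hp hp3
  have hqc := key q hq hq3
  have h6 : φ (p * q) = φ' τ0 := by
    refine T.symm.C1 (v := φ (p * q)) ?_ ?_ ?_ ?_
    · rw [map_mul]; exact hpc.mul hqc
    · rw [← map_mul, hpq, map_one]
    · intro e
      exact hpq1 (T.std.inj (by rw [e, map_one]))
    · exact t_comm _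
  exact hL ⟨p * q, h6.symm⟩

/-- An element `h` of `H0` outside `K` with `h ^ 2 ∈ ⟨τ⟩` is an involution, of the class of `z` or of `d`. -/
theorem outer_cases {h : H0} (hK : h ∉ K) (h2 : h * h = 1 ∨ h * h = τ) : h * h = 1 ∧ (IsConj gz h ∨ IsConj d h) := by
  rcases Syl.sq_cases (g := h) (by rw [pow_two]; exact h2) with e | e | e | e | e | e | e
  · exact absurd (by rw [e]; exact K.one_mem) hK
  · exact absurd (by rw [e]; exact τ_mem_K) hK
  · exact absurd ((mem_K_of_isConj e).1 a0.2) hK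
  · exact absurd ((mem_K_of_isConj e).1 aτ_mem_K) hK
  · exact absurd ((mem_K_of_isConj e).1 gx_mem) hK
  · obtain ⟨c, rfl⟩ := isConj_iff.1 e
    refine ⟨?_, Or.inl e⟩
    calc c * gz * c⁻¹ * (c * gz * c⁻¹) = c * (gz ^ 2) * c⁻¹ := by rw [pow_two]; group
      _ = 1 := by rw [z_sq']; group
  · obtain ⟨c, rfl⟩ := isConj_iff.1 e
    refine ⟨?_, Or.inr e⟩
    calc c * d * c⁻¹ * (c * d * c⁻¹) = c * (d ^ 2) * c⁻¹ := by rw [pow_two]; group
      _ = 1 := by rw [d_sq']; group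

/-- the kinds of pairs -/
theorem Two.kind [Finite G] (T : Two φ φ') : (∃ k : K, φ' τ0 = φ k) ∨
    ∃ h : H0, h ∉ K ∧ h * h = 1 ∧ (IsConj gz h ∨ IsConj d h) ∧ Acts φ (φ' τ0) h := by
  obtain ⟨h, hh⟩ := T.std.acts (φ' τ0) T.comm
  have h2 : h * h = 1 ∨ h * h = τ := Acts.sq_cases T.std.inj hh (by rw [t_sq]; exact cen_one)
  by_cases hK : h ∈ K
  · left
    rcases h2 with h2 | h2
    · exact T.kindA (k := ⟨h, hK⟩) hh (Subtype.ext h2)
    · exact absurd (Subtype.ext h2) (T.not_B (k := ⟨h, hK⟩) hh)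
  · right
    obtain ⟨h3, h4⟩ := outer_cases hK h2
    exact ⟨h, hK, h3, h4, hh⟩

/-- (P3) -/
theorem Two.P3 [Finite G] (T : Two φ φ') {y : G} (hyt : y * φ' τ0 = φ' τ0 * y) (hy2 : y * y = φ τ0) :
    (∃ k : K, φ τ0 = φ' k) ∧ ∃ k : K, φ' τ0 = φ k := by
  obtain ⟨v, hv⟩ := T.std'.acts y hyt
  have hvv := hv.mul hv
  rw [hy2] at hvv
  have h1 : ∃ k : K, φ τ0 = φ' k := by
    rcases T.symm.kind with h | ⟨h, hK, -, -, hh⟩
    · exact h
    · exact absurd ((mem_K_of_eq (Acts.unique T.std'.inj hh hvv)).1 (sq_mem_K v)) hK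
  exact ⟨h1, T.symm.mem_symm h1⟩

/-- (P9) -/
theorem Two.P9 [Finite G] (T : Two φ φ') (hout : ¬ ∃ k : K, φ' τ0 = φ k) {p q w : K} (hp : p * p * p = 1)
    (hq : q * q * q = 1) (hpt : φ p * φ' τ0 = φ' τ0 * φ p) (hqt : φ q * φ' τ0 = φ' τ0 * φ q)
    (hw : w = p * q * p⁻¹ * q⁻¹) (hw2 : w * w = 1) : ∃ l : K, φ w = φ' l := by
  -- decomposition of the elements of order 3
  have key : ∀ p : K, p * p * p = 1 → φ p * φ' τ0 = φ' τ0 * φ p →
      ∃ (s : K) (c : G), φ p = c * φ' s ∧ Cen φ' c ∧ c * φ τ0 = φ τ0 * c := by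
    intro p hp hpt
    obtain ⟨g, hg⟩ := T.std'.acts (φ p) hpt
    obtain ⟨s, hs3, hs⟩ := acts_cube T.std'.inj hg (by rw [← map_mul, ← map_mul, hp, map_one])
    have hs3' : (s : H0) * s * s = 1 := congrArg Subtype.val hs3
    obtain ⟨ht, hht⟩ := T.std'.acts (φ τ0) T.comm.symm
    have f3 := comm_of_cube hs3' (acts_comm T.std'.inj hs hht (t_comm p))
    have f4 : φ τ0 * φ' s = φ' s * φ τ0 := (Acts.comm_iff T.std'.inj hht s).2 f3.symm
    refine ⟨s, φ p * (φ' s)⁻¹, by group, ?_, ?_⟩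
    · have h1 := hs.mul (acts_of (φ := φ') s).inv
      rw [mul_inv_cancel] at h1
      exact cen_of_acts h1 (Or.inl rfl)
    · have h2 : (φ' s)⁻¹ * φ τ0 = φ τ0 * (φ' s)⁻¹ := by
        rw [inv_mul_eq_iff_eq_mul, ← mul_assoc, ← f4]; group
      rw [mul_assoc, h2, ← mul_assoc, t_comm, mul_assoc]
  obtain ⟨s, c, e1, e2, e3⟩ := key p hp hpt
  obtain ⟨s', c', e1', e2', e3'⟩ := key q hq hqt
  set y : G := c * c' * c⁻¹ * c'⁻¹ with hy
  set l : K := s * s' * s⁻¹ * s'⁻¹ with hl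
  have hyc : Cen φ' y := ((e2.mul e2').mul e2.inv).mul e2'.inv
  have hci : ∀ {c : G}, c * φ τ0 = φ τ0 * c → c⁻¹ * φ τ0 = φ τ0 * c⁻¹ := by
    intro c h
    rw [inv_mul_eq_iff_eq_mul, ← mul_assoc, h]; group
  have hyt : y * φ τ0 = φ τ0 * y := by
    rw [hy]
    calc c * c' * c⁻¹ * c'⁻¹ * φ τ0 = c * c' * c⁻¹ * (c'⁻¹ * φ τ0) := by group
      _ = c * c' * (c⁻¹ * φ τ0) * c'⁻¹ := by rw [hci e3']; group
      _ = c * (c' * φ τ0) * c⁻¹ * c'⁻¹ := by rw [hci e3]; group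
      _ = (c * φ τ0) * c' * c⁻¹ * c'⁻¹ := by rw [e3']; group
      _ = φ τ0 * (c * c' * c⁻¹ * c'⁻¹) := by rw [e3]; group
  have hwy : φ w = y * φ' l := by
    have h1 : ∀ (c : G) (s : K), Cen φ' c → (c * φ' s)⁻¹ = c⁻¹ * φ' s⁻¹ := by
      intro c s hc
      rw [mul_inv_rev, map_inv]
      have := hc.inv s⁻¹
      rw [map_inv] at this
      exact this.symm
    rw [hw, map_mul, map_mul, map_mul, map_inv, map_inv, e1, e1', h1 c s e2, h1 c' s' e2', hy, hl]
    calc c * φ' s * (c' * φ' s') * (c⁻¹ * φ' s⁻¹) * (c'⁻¹ * φ' s'⁻¹)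
        = c * (φ' s * c') * (φ' s' * c⁻¹) * (φ' s⁻¹ * c'⁻¹) * φ' s'⁻¹ := by group
      _ = c * (c' * φ' s) * (c⁻¹ * φ' s') * (c'⁻¹ * φ' s⁻¹) * φ' s'⁻¹ := by
          rw [e2' s, e2.inv s', e2'.inv s⁻¹]
      _ = c * c' * (φ' s * c⁻¹) * (φ' s' * c'⁻¹) * φ' s⁻¹ * φ' s'⁻¹ := by group
      _ = c * c' * (c⁻¹ * φ' s) * (c'⁻¹ * φ' s') * φ' s⁻¹ * φ' s'⁻¹ := by rw [e2.inv s, e2'.inv s']
      _ = c * c' * c⁻¹ * (φ' s * c'⁻¹) * φ' s' * φ' s⁻¹ * φ' s'⁻¹ := by group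
      _ = c * c' * c⁻¹ * (c'⁻¹ * φ' s) * φ' s' * φ' s⁻¹ * φ' s'⁻¹ := by rw [e2'.inv s]
      _ = c * c' * c⁻¹ * c'⁻¹ * φ' (s * s' * s⁻¹ * s'⁻¹) := by
          rw [map_mul, map_mul, map_mul]; group
  have hyy : y * y = φ' (l * l)⁻¹ := by
    have h1 : φ w * φ w = 1 := by rw [← map_mul, hw2, map_one]
    rw [hwy] at h1
    have h2 : y * y * φ' (l * l) = 1 := by
      rw [map_mul, ← h1]
      calc y * y * (φ' l * φ' l) = y * (y * φ' l) * φ' l := by group
        _ = y * (φ' l * y) * φ' l := by rw [hyc]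
        _ = y * φ' l * (y * φ' l) := by group
    rw [map_inv]
    exact eq_inv_of_mul_eq_one_left h2
  have hcen : ∀ k : K, k * (l * l)⁻¹ = (l * l)⁻¹ * k := by
    intro k
    apply T.std'.inj
    rw [map_mul, map_mul, ← hyy]
    exact ((hyc.mul hyc) k).symm
  have hz : y * y = 1 ∨ y * y = φ' τ0 := by
    have h1 : ((l * l)⁻¹ : K) = 1 ∨ ((l * l)⁻¹ : K) = τ0 := by
      rcases eq_of_central (h := ((l * l)⁻¹ : K)) (fun k hk => (congrArg Subtype.val (hcen ⟨k, hk⟩)).symm) with e | e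
      · exact Or.inl (Subtype.ext e)
      · exact Or.inr (Subtype.ext e)
    rcases h1 with e | e
    · left; rw [hyy, e, map_one]
    · right; rw [hyy, e]
  rcases hz with hz | hz
  · by_cases hy1 : y = 1
    · exact ⟨l, by rw [hwy, hy1, one_mul]⟩
    · refine ⟨τ0 * l, ?_⟩
      rw [hwy, T.symm.C1 hyc hz hy1 hyt]
      exact (map_mul φ' τ0 l).symm
  · exact absurd (T.symm.P3 hyt hz).1 hout

/-- (F5) for all outer involutions. -/
theorem F5_of {h h' : H0} (hc : IsConj h h') (H : FactF5.F5 h) : ∃ p q k w : K, p * p * p = 1 ∧ q * q * q = 1 ∧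
    h' * p = p * h' ∧ h' * q = q * h' ∧ w = p * q * p⁻¹ * q⁻¹ ∧ w * w = 1 ∧ w ≠ 1 ∧
    (k : H0) * h' * (k : H0)⁻¹ = h' * w := by
  obtain ⟨c, rfl⟩ := isConj_iff.1 hc
  obtain ⟨p, hp, q, hq, k, hk, hp3, hq3, hph, hqh, w, hw, hwK, hw2, hw1, -, hkh⟩ := H
  refine ⟨conjK c ⟨p, hp⟩, conjK c ⟨q, hq⟩, conjK c ⟨k, hk⟩, conjK c ⟨w, hwK⟩, ?_, ?_, ?_, ?_, ?_, ?_, ?_, ?_⟩
  · rw [← map_mul, ← map_mul, show (⟨p, hp⟩ : K) * ⟨p, hp⟩ * ⟨p, hp⟩ = 1 from
      Subtype.ext (by rw [pow_three'] at hp3; exact hp3), map_one]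
  · rw [← map_mul, ← map_mul, show (⟨q, hq⟩ : K) * ⟨q, hq⟩ * ⟨q, hq⟩ = 1 from
      Subtype.ext (by rw [pow_three'] at hq3; exact hq3), map_one]
  · rw [coe_conjK]
    calc c * h * c⁻¹ * (c * p * c⁻¹) = c * (h * p) * c⁻¹ := by group
      _ = c * (p * h) * c⁻¹ := by rw [hph]
      _ = _ := by group
  · rw [coe_conjK]
    calc c * h * c⁻¹ * (c * q * c⁻¹) = c * (h * q) * c⁻¹ := by group
      _ = c * (q * h) * c⁻¹ := by rw [hqh]
      _ = _ := by group
  · rw [← map_inv, ← map_inv, ← map_mul, ← map_mul, ← map_mul]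
    congr 1
    exact Subtype.ext hw
  · rw [← map_mul, show (⟨w, hwK⟩ : K) * ⟨w, hwK⟩ = 1 from Subtype.ext hw2, map_one]
  · intro e
    apply hw1
    have e1 : c * w * c⁻¹ = 1 := congrArg Subtype.val e
    exact conj_eq_one_iff.1 e1
  · rw [coe_conjK, coe_conjK]
    calc c * k * c⁻¹ * (c * h * c⁻¹) * (c * k * c⁻¹)⁻¹ = c * (k * h * k⁻¹) * c⁻¹ := by group
      _ = c * (h * w) * c⁻¹ := by rw [hkh]
      _ = _ := by group

/-- From an arbitrary pair one gets a pair with `t' ∈ L`. -/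
theorem Two.exists_inner [Finite G] (T : Two φ φ') :
    ∃ φ₁ φ₂ : K →* G, Two φ₁ φ₂ ∧ (∃ k : K, φ₂ τ0 = φ₁ k) ∧ ∃ g, φ₁ = conjHom φ g := by
  by_cases hin : ∃ k : K, φ' τ0 = φ k
  · exact ⟨φ, φ', T, hin, 1, (conjHom_one φ).symm⟩
  rcases T.kind with h | ⟨h, hK, h2, hcl, hh⟩
  · exact absurd h hin
  obtain ⟨p, q, k, w, hp3, hq3, hph, hqh, hw, hw2, hw1, hkh⟩ : ∃ p q k w : K, p * p * p = 1 ∧ q * q * q = 1 ∧
      h * p = p * h ∧ h * q = q * h ∧ w = p * q * p⁻¹ * q⁻¹ ∧ w * w = 1 ∧ w ≠ 1 ∧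
      (k : H0) * h * (k : H0)⁻¹ = h * w := by
    rcases hcl with hc | hc
    · exact F5_of hc FactF5.z
    · exact F5_of hc FactF5.d
  have hpt := ((Acts.comm_iff T.std.inj hh p).2 hph).symm
  have hqt := ((Acts.comm_iff T.std.inj hh q).2 hqh).symm
  obtain ⟨l, hl⟩ := T.P9 hin hp3 hq3 hpt hqt hw hw2
  have hwh : h * (w : H0) = w * h := by
    rw [hw]
    have e1 : h * ((p : K) : H0)⁻¹ = (p : H0)⁻¹ * h := by
      rw [eq_inv_mul_iff_mul_eq, ← mul_assoc, ← hph]; group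
    have e2 : h * ((q : K) : H0)⁻¹ = (q : H0)⁻¹ * h := by
      rw [eq_inv_mul_iff_mul_eq, ← mul_assoc, ← hqh]; group
    change h * ((p : H0) * q * (p : H0)⁻¹ * (q : H0)⁻¹) = (p : H0) * q * (p : H0)⁻¹ * (q : H0)⁻¹ * h
    calc h * ((p : H0) * q * (p : H0)⁻¹ * (q : H0)⁻¹) = (h * p) * q * (p : H0)⁻¹ * (q : H0)⁻¹ := by group
      _ = p * (h * q) * (p : H0)⁻¹ * (q : H0)⁻¹ := by rw [hph]; group
      _ = p * q * (h * (p : H0)⁻¹) * (q : H0)⁻¹ := by rw [hqh]; group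
      _ = p * q * (p : H0)⁻¹ * (h * (q : H0)⁻¹) := by rw [e1]; group
      _ = _ := by rw [e2]; group
  -- conjugating `t'` by `φ k`
  have e1 : φ k * φ' τ0 * (φ k)⁻¹ = φ' (l * τ0) := by
    have e2 : φ' τ0 * (φ k)⁻¹ * (φ' τ0)⁻¹ = φ (conjK h k⁻¹) := by
      rw [← map_inv]; exact hh k⁻¹
    have e3 : k * conjK h k⁻¹ = w := by
      apply Subtype.ext
      change (k : H0) * (h * (k : H0)⁻¹ * h⁻¹) = w
      calc (k : H0) * (h * (k : H0)⁻¹ * h⁻¹) = (k * h * (k : H0)⁻¹) * h⁻¹ := by group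
        _ = h * w * h⁻¹ := by rw [hkh]
        _ = w := by rw [hwh]; group
    calc φ k * φ' τ0 * (φ k)⁻¹ = φ k * (φ' τ0 * (φ k)⁻¹ * (φ' τ0)⁻¹) * φ' τ0 := by group
      _ = φ w * φ' τ0 := by rw [e2, ← map_mul, e3]
      _ = φ' (l * τ0) := by rw [hl, ← map_mul]
  have hT : Two φ' (conjHom φ' (φ k)) :=
    { std := T.std'
      conj := ⟨φ k, rfl⟩
      ne := by
        rw [conjHom_apply, e1]
        intro e
        have e4 := T.std'.inj e
        have e5 : l = 1 := mul_eq_right.1 e4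
        rw [e5, map_one] at hl
        exact hw1 (T.std.inj (by rw [hl, map_one]))
      comm := by
        rw [conjHom_apply, e1, ← map_mul, ← map_mul, ← τ0_comm] }
  obtain ⟨g, hg⟩ := T.conj
  refine ⟨φ', conjHom φ' (φ k), hT, ⟨l * τ0, ?_⟩, g, hg⟩
  rw [conjHom_apply, e1]

/-- (Step 3) there is a conjugate `t'` of `t` with `t' = φ a` or `t' = φ b`. -/
theorem Std.exists_a [Finite G] (S : Std φ)
    (hex : ∃ g, g * φ τ0 * g⁻¹ ≠ φ τ0 ∧ g * φ τ0 * g⁻¹ * φ τ0 = φ τ0 * (g * φ τ0 * g⁻¹)) :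
    ∃ φ' : K →* G, Two φ φ' ∧ (φ' τ0 = φ a0 ∨ φ' τ0 = φ b0) := by
  obtain ⟨g, hg, hgc⟩ := hex
  have T : Two φ (conjHom φ g) := ⟨S, ⟨g, rfl⟩, hg, hgc⟩
  obtain ⟨φ₁, φ₂, T₁, ⟨k, hk⟩, c, rfl⟩ := T.exists_inner
  -- back to `φ`
  have T₂ := T₁.conj_both c⁻¹
  rw [conjHom_conjHom, inv_mul_cancel, conjHom_one] at T₂
  have hk' : conjHom φ₂ c⁻¹ τ0 = φ k := by
    rw [conjHom_apply, hk, conjHom_apply]; group
  generalize conjHom φ₂ c⁻¹ = φ₃ at T₂ hk'
  have hk2 : k * k = 1 := S.inj (by rw [map_mul, map_one, ← hk', t_sq])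
  have hcomm : ∀ c : K, (φ c)⁻¹ * φ τ0 = φ τ0 * (φ c)⁻¹ := fun c => by rw [← map_inv, t_comm]
  rcases cases_K hk2 with h3 | h3 | h3 | h3
  · exfalso
    rw [h3, map_one] at hk'
    exact T₂.symm.t_ne hk'
  · exfalso
    rw [h3] at hk'
    exact T₂.ne hk'
  · obtain ⟨c, hc⟩ := isConj_iff.1 h3
    refine ⟨_, T₂.conj_right (hcomm c), Or.inl ?_⟩
    rw [conjHom_apply, hk', ← hc, map_mul, map_mul, map_inv]; group
  · obtain ⟨c, hc⟩ := isConj_iff.1 h3
    refine ⟨_, T₂.conj_right (hcomm c), Or.inr ?_⟩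
    rw [conjHom_apply, hk', ← hc, map_mul, map_mul, map_inv]; group

end Cfsg.Agent.StandardComponent.HS.PairA
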