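import Cfsg.Agent.StandardComponent.HS.Ctx
import Cfsg.Agent.HN.FactFA
import Cfsg.Agent.HN.FactFA8
import Cfsg.Agent.HN.FactO
import Cfsg.Agent.HN.FactF4

set_option autoImplicit false
set_option linter.unusedSectionVars false

/-!
S1752, step 4: a pair `φ, φ'` of conjugate embeddings of `K` with `φ' τ0 ∈ φ K` and `φ τ0 ∈ φ' K`.
-/

namespace Cfsg.Agent.StandardComponent.HS

open Cfsg.Agent.HN.Pres Cfsg.Agent.HN.HS100 Cfsg.Agent.HN.H0Basic Cfsg.Agent.HN.FusK0 Cfsg.Agent.HN.Syl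
open Cfsg.Agent.HN.Classes Cfsg.Agent.HN.Twist Cfsg.Agent.HN.FusOne
open Cfsg.Agent.StandardComponent.HS.Four
open scoped commutatorElement

variable {G : Type*} [Group G]

/-- a pair of conjugate embeddings with centres in each other -/
structure AP (φ φ' : K →* G) (k l : K) : Prop where
  ctx : Ctx φ
  ctx' : Ctx φ'
  ex : ∃ g, φ' = cj g φ
  ne : φ' τ0 ≠ φ τ0
  hk : φ' τ0 = φ k
  hl : φ τ0 = φ' l

theorem τ0_sq : (τ0 : K) * τ0 = 1 := Subtype.ext τ_mul_τ

theorem τ0_comm (k : K) : k * τ0 = τ0 * k := Subtype.ext (τ_comm _)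

theorem τ0_ne : (τ0 : K) ≠ 1 := fun h => τ_ne_one (congrArg Subtype.val h)

namespace AP

variable {φ φ' : K →* G} {k l : K} (P : AP φ φ' k l)
include P

theorem symm : AP φ' φ l k where
  ctx := P.ctx'
  ctx' := P.ctx
  ex := by
    obtain ⟨g, hg⟩ := P.ex
    exact ⟨g⁻¹, by rw [hg, cj_cj, inv_mul_cancel, cj_one]⟩
  ne := P.ne.symm
  hk := P.hl
  hl := P.hk

theorem not_cen {v : G} (h1 : v ≠ 1) (h2 : v * v = 1) (hv : Cen φ v) : ¬ Cen φ' v := by
  obtain ⟨g, hg⟩ := P.ex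
  rw [hg]
  refine P.ctx.not_cen ?_ h1 h2 hv
  have := P.ne
  rw [hg] at this
  exact this

theorem k_sq : k * k = 1 := P.ctx.inj (by rw [map_mul, ← P.hk, P.ctx'.t_sq, map_one])

theorem k_ne : k ≠ 1 := by
  rintro rfl
  exact P.ctx'.t_ne (P.hk.trans (map_one φ))

theorem k_ne' : k ≠ τ0 := by
  rintro rfl
  exact P.ne P.hk

theorem comm {v : G} (hv : Cen φ v) : v * φ' τ0 = φ' τ0 * v := by
  rw [P.hk]
  exact hv k

theorem uniq {v : G} (h1 : v ≠ 1) (h2 : v * v = 1) (hv : Cen φ v) : v = φ τ0 := by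
  obtain ⟨g, hg⟩ := P.ex
  have e : g * φ τ0 * g⁻¹ = φ' τ0 := by rw [hg, cj_apply]
  refine P.ctx.C1 (g := g) ?_ ?_ h1 h2 hv ?_
  · rw [e]; exact P.ne
  · rw [e]; exact (P.comm (cen_τ0 φ)).symm
  · rw [e]; exact P.comm hv

theorem acts {v : G} (hv : Cen φ v) : ∃ h : H0, Acts φ' v h ∧ h * l = l * h := by
  obtain ⟨h, hh⟩ := P.ctx'.act v (P.comm hv)
  refine ⟨h, hh, conjK_eq_iff.1 (P.ctx'.inj ?_)⟩
  rw [← hh, ← P.hl, hv τ0, mul_assoc, mul_inv_cancel, mul_one]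

theorem sq_t {y : G} (hy : y * y = φ τ0) {v : H0} (hv : Acts φ' y v) : v * v = l ∨ v * v = l * τ := by
  have h1 := hv.mul hv
  rw [hy, P.hl] at h1
  exact (Acts.of_range l).unique P.ctx'.inj h1

/-- `m = φ' c` with `c` commuting with `l` normalises `Cen φ`. -/
theorem cen_comm {y : G} (hy : Cen φ y) {v : H0} (hv : Acts φ' y v) {c : K} (hc : c * l = l * c) :
    Cen φ (φ' (conjK v c * c⁻¹)) := by
  have h1 : φ' c * φ τ0 = φ τ0 * φ' c := by rw [P.hl, ← map_mul, ← map_mul, hc]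
  obtain ⟨h, hh⟩ := P.ctx.act _ h1
  have h2 : Acts φ (φ' c * y⁻¹ * (φ' c)⁻¹) (h * 1 * h⁻¹) := (hh.mul (Acts.of_cen hy.inv)).mul hh.inv
  rw [mul_one, mul_inv_cancel] at h2
  have h3 := hy.mul h2.cen
  rw [map_mul, map_inv, ← hv]
  have e : y * (φ' c * y⁻¹ * (φ' c)⁻¹) = y * φ' c * y⁻¹ * (φ' c)⁻¹ := by group
  rwa [e] at h3

theorem cen_sq {e : K} (he : Cen φ (φ' e)) (h : e * e = 1) : e = 1 ∨ e = l := by
  by_cases h1 : e = 1
  · exact Or.inl h1
  · right
    apply P.ctx'.inj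
    rw [← P.hl]
    refine P.uniq (fun h2 => h1 (P.ctx'.inj (h2.trans (map_one φ').symm))) ?_ he
    rw [← map_mul, h, map_one]

theorem cen_sq' {e : K} (he : Cen φ (φ' e)) : e * e ≠ τ0 := by
  intro h
  have h1 := he.mul he
  rw [← map_mul, h] at h1
  exact P.ne (P.uniq P.ctx'.t_ne P.ctx'.t_sq h1)

end AP

/-- the subgroup `C(φ K)` -/
def CenS (φ : K →* G) : Subgroup G where
  carrier := {v | Cen φ v}
  mul_mem' h h' := Cen.mul h h'
  one_mem' := fun k => by rw [one_mul, mul_one]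
  inv_mem' h := Cen.inv h

theorem mem_CenS {φ : K →* G} {v : G} : v ∈ CenS φ ↔ Cen φ v := Iff.rfl

/-! ### normalised pairs -/

/-- normalised pair -/
structure NP (φ φ' : K →* G) (k l : K) : Prop extends AP φ φ' k l where
  nk : k = a0 ∨ k = b0
  nl : l = a0 ∨ l = b0

theorem comm_a_of {l : K} (hl : l = a0 ∨ l = b0) {c : H0} : c * l = l * c ↔ c * a = a * c := by
  rcases hl with rfl | rfl
  · rfl
  · change c * (a * τ) = a * τ * c ↔ _
    rw [← mul_assoc, mul_assoc a τ c, ← τ_comm c, ← mul_assoc]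
    exact mul_left_inj τ

theorem commK_of {l : K} (hl : l = a0 ∨ l = b0) {c : K} : c * l = l * c ↔ (c : H0) * a = a * c := by
  rw [← comm_a_of hl]
  constructor
  · intro h; exact congrArg Subtype.val h
  · intro h; exact Subtype.ext h

theorem mem_l {l : K} (hl : l = a0 ∨ l = b0) {e : H0} (he : e = l) : e = a ∨ e = a * τ := by
  rcases hl with rfl | rfl
  · exact Or.inl he
  · exact Or.inr he

theorem xu_mul {v w : H0} (hv : Cfsg.Agent.HN.FactFA.XU v) (hw : Cfsg.Agent.HN.FactFA.XU w) :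
    v * w⁻¹ = 1 ∨ v * w⁻¹ = τ ∨ v * w⁻¹ = a ∨ v * w⁻¹ = a * τ := by
  have h1 : ∀ u, Cfsg.Agent.HN.FactFA.XU u → ∃ c : H0, (c = 1 ∨ c = τ ∨ c = a ∨ c = a * τ) ∧
      u = c * Cfsg.Agent.HN.FactFA.u0 := by
    intro u hu
    have hinv : Cfsg.Agent.HN.FactFA.u0⁻¹ = a * τ * Cfsg.Agent.HN.FactFA.u0 := by
      rw [← Cfsg.Agent.HN.FactFA.u0_sq, inv_eq_iff_mul_eq_one]
      have : Cfsg.Agent.HN.FactFA.u0 * (Cfsg.Agent.HN.FactFA.u0 ^ 2 * Cfsg.Agent.HN.FactFA.u0) =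
          (Cfsg.Agent.HN.FactFA.u0 ^ 2) ^ 2 := by
        simp only [pow_two, mul_assoc]
      rw [this, Cfsg.Agent.HN.FactFA.u0_sq, aτ_sq]
    rcases hu with rfl | rfl | rfl | rfl
    · exact ⟨1, Or.inl rfl, (one_mul _).symm⟩
    · exact ⟨a * τ, Or.inr (Or.inr (Or.inr rfl)), hinv⟩
    · exact ⟨τ, Or.inr (Or.inl rfl), τ_comm _⟩
    · refine ⟨a, Or.inr (Or.inr (Or.inl rfl)), ?_⟩
      rw [hinv, mul_assoc, mul_assoc, ← mul_assoc τ, ← τ_comm, mul_assoc, τ_mul_τ, mul_one]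
  obtain ⟨c, hc, rfl⟩ := h1 v hv
  obtain ⟨d, hd, rfl⟩ := h1 w hw
  have e : c * Cfsg.Agent.HN.FactFA.u0 * (d * Cfsg.Agent.HN.FactFA.u0)⁻¹ = c * d⁻¹ := by group
  rw [e]
  have ha : a⁻¹ = a := inv_eq_of_mul_eq_one_left a_sq
  have haτ : (a * τ)⁻¹ = a * τ := inv_eq_of_mul_eq_one_left (by rw [← pow_two]; exact aτ_sq)
  have hd' : d⁻¹ = d := by
    rcases hd with rfl | rfl | rfl | rfl
    · exact inv_one
    · exact τ_inv
    · exact ha
    · exact haτ
  rw [hd']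
  have h2 : τ * a = a * τ := (τ_comm a).symm
  have h3 : τ * (a * τ) = a := by rw [← mul_assoc, h2, mul_assoc, τ_mul_τ, mul_one]
  have h4 : a * (a * τ) = τ := by rw [← mul_assoc, a_sq, one_mul]
  have h5 : a * τ * τ = a := by rw [mul_assoc, τ_mul_τ, mul_one]
  have h6 : a * τ * a = τ := by rw [mul_assoc, h2, h4]
  have h7 : a * τ * (a * τ) = 1 := by rw [← pow_two]; exact aτ_sq
  rcases hc with rfl | rfl | rfl | rfl <;> rcases hd with rfl | rfl | rfl | rfl <;>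
    simp only [one_mul, mul_one, τ_mul_τ, a_sq, h2, h3, h4, h5, h6, h7, true_or, or_true]

theorem u0_eq' : Cfsg.Agent.HN.FactFA.u0 = Cfsg.Agent.HN.FactFA8.u0 := by
  rw [Cfsg.Agent.HN.FactFA.u0, Cfsg.Agent.HN.FactFA8.u0]
  exact hw_eq (by decide +kernel)

namespace NP

variable {φ φ' : K →* G} {k l : K} (P : NP φ φ' k l)
include P

theorem symm : NP φ' φ l k where
  toAP := P.toAP.symm
  nk := P.nl
  nl := P.nk

/-- elements of `Cen φ` with square `t` act on `φ' K` as one of `u0, u0⁻¹, u0 τ, u0⁻¹ τ`. -/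
theorem HA {y : G} (hy : Cen φ y) {v : H0} (hv : Acts φ' y v) (c : H0) (hc : c ∈ K) (hca : c * a = a * c)
    (h : ⁅v, c⁆ ^ 2 = 1 ∨ ⁅v, c⁆ ^ 2 = τ) : ⁅v, c⁆ = 1 ∨ ⁅v, c⁆ = l := by
  have h1 := P.cen_comm hy hv (c := ⟨c, hc⟩) ((commK_of P.nl).2 hca)
  have e : ((conjK v ⟨c, hc⟩ * (⟨c, hc⟩ : K)⁻¹ : K) : H0) = ⁅v, c⁆ := rfl
  rcases h with h | h
  · rcases P.cen_sq h1 (Subtype.ext (by rw [← pow_two]; exact h)) with h2 | h2
    · exact Or.inl (congrArg Subtype.val h2)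
    · exact Or.inr (congrArg Subtype.val h2)
  · exact absurd (Subtype.ext (by rw [← pow_two]; exact h)) (P.cen_sq' h1)

theorem sq_cases {y : G} (hy2 : y * y = φ τ0) {v : H0} (hv : Acts φ' y v) : v ^ 2 = a ∨ v ^ 2 = a * τ := by
  rw [pow_two]
  rcases P.sq_t hy2 hv with h | h
  · exact mem_l P.nl h
  · rcases P.nl with hl | hl
    · rw [hl] at h; exact Or.inr h
    · rw [hl] at h
      left
      rw [h]
      change a * τ * τ = a
      rw [mul_assoc, τ_mul_τ, mul_one]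

theorem XU {y : G} (hy : Cen φ y) (hy2 : y * y = φ τ0) {v : H0} (hv : Acts φ' y v) :
    Cfsg.Agent.HN.FactFA.XU v := by
  apply Cfsg.Agent.HN.FactFA.FA (P.sq_cases hy2 hv)
  intro c hc hca h
  rcases P.HA hy hv c hc hca h with h1 | h1
  · exact Or.inl h1
  · right; right
    exact mem_l P.nl h1

/-- no elements of order 8 -/
theorem no8 {y : G} (hy : Cen φ y) (h : y * y * (y * y) = φ τ0) : False := by
  obtain ⟨v, hv, -⟩ := P.acts hy
  have h1 := P.XU (hy.mul hy) h (hv.mul hv)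
  obtain ⟨n1, n2, n3, n4⟩ := Cfsg.Agent.HN.FactFA8.no_sqrt v
  rw [← u0_eq'] at n1 n2 n3 n4
  rcases h1 with h2 | h2 | h2 | h2
  · exact n1 h2
  · exact n2 h2
  · exact n3 h2
  · exact n4 h2

/-- two elements of order 4 -/
theorem two {y z : G} (hy : Cen φ y) (hz : Cen φ z) (hy2 : y * y = φ τ0) (hz2 : z * z = φ τ0) :
    Cen φ' (y * z⁻¹) ∨ Cen φ' (y * z⁻¹ * φ τ0) := by
  obtain ⟨v, hv, -⟩ := P.acts hy
  obtain ⟨w, hw, -⟩ := P.acts hz
  have h1 := hv.mul hw.inv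
  have hl : Acts φ' (φ τ0) l := by rw [P.hl]; exact Acts.of_range l
  have h2 := h1.mul hl
  have ha : a⁻¹ = a := inv_eq_of_mul_eq_one_left a_sq
  rcases xu_mul (P.XU hy hy2 hv) (P.XU hz hz2 hw) with h3 | h3 | h3 | h3
  · left; rw [h3] at h1; exact h1.cen
  · left; rw [h3] at h1; exact h1.cen_τ
  · right
    rw [h3] at h2
    rcases P.nl with h4 | h4
    · rw [h4] at h2
      change Acts φ' _ (a * a) at h2
      rw [a_sq] at h2
      exact h2.cen
    · rw [h4] at h2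
      change Acts φ' _ (a * (a * τ)) at h2
      rw [← mul_assoc, a_sq, one_mul] at h2
      exact h2.cen_τ
  · right
    rw [h3] at h2
    rcases P.nl with h4 | h4
    · rw [h4] at h2
      change Acts φ' _ (a * τ * a) at h2
      rw [show a * τ * a = τ by rw [mul_assoc, ← τ_comm, ← mul_assoc, a_sq, one_mul]] at h2
      exact h2.cen_τ
    · rw [h4] at h2
      change Acts φ' _ (a * τ * (a * τ)) at h2
      rw [← pow_two, aτ_sq] at h2
      exact h2.cen

end NP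

/-! ### elements of odd order -/

/-- `C_K(a)` -/
def CK : Subgroup K := (Subgroup.centralizer {a} : Subgroup H0).subgroupOf K

theorem mem_CK {c : K} : c ∈ CK ↔ (c : H0) * a = a * c := by
  rw [CK, Subgroup.mem_subgroupOf, Subgroup.mem_centralizer_singleton_iff]

theorem card_CK : Nat.card CK = 15360 := by
  rw [← Cfsg.Agent.HN.FactF4.card_centralizer_a_inf, CK]
  rw [← Subgroup.subgroupOf_map_subtype]
  exact Nat.card_congr (CK.equivMapOfInjective K.subtype K.subtype_injective).toEquiv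

/-- `{c ∈ K | φ' c ∈ C(φ K)}` -/
def XX (φ φ' : K →* G) : Subgroup K := (CenS φ).comap φ'

theorem mem_XX {φ φ' : K →* G} {c : K} : c ∈ XX φ φ' ↔ Cen φ (φ' c) := Iff.rfl

/-- Two elements of order `p` of `C_K(a)` with product an involution. -/
def FO (p : ℕ) : Prop := ∃ p₁ ∈ K, ∃ p₂ ∈ K, p₁ * a = a * p₁ ∧ p₂ * a = a * p₂ ∧ p₁ ^ p = 1 ∧ p₂ ^ p = 1 ∧
  (p₁ * p₂) ^ 2 = 1 ∧ p₁ * p₂ ≠ 1 ∧ p₁ * p₂ ≠ τ ∧ p₁ * p₂ ≠ a ∧ p₁ * p₂ ≠ a * τ

namespace NP

variable {φ φ' : K →* G} {k l : K} (P : NP φ φ' k l)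
include P

theorem XX_le : XX φ φ' ≤ CK := by
  intro c hc
  rw [mem_CK, ← commK_of P.nl]
  apply P.ctx'.inj
  rw [map_mul, map_mul, ← P.hl]
  exact hc τ0

theorem XX_conj {c d : K} (hc : c ∈ XX φ φ') (hd : d ∈ CK) : d * c * d⁻¹ ∈ XX φ φ' := by
  rw [mem_XX] at hc ⊢
  have h1 : φ' d * φ τ0 = φ τ0 * φ' d := by
    rw [P.hl, ← map_mul, ← map_mul, (commK_of P.nl).2 (mem_CK.1 hd)]
  obtain ⟨h, hh⟩ := P.ctx.act _ h1
  have h2 := (hh.mul (Acts.of_cen hc)).mul hh.inv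
  rw [mul_one, mul_inv_cancel] at h2
  rw [map_mul, map_mul, map_inv]
  exact h2.cen

theorem XX_sq {c : K} (hc : c ∈ XX φ φ') (h : c * c = 1) : c = 1 ∨ c = l := P.cen_sq hc h

theorem not_dvd {p m : ℕ} [hp : Fact p.Prime] (hpm : 15360 = p * m) (hm : ¬ p ∣ m) (hF : FO p) {c : K}
    (hc : c ∈ XX φ φ') : ¬ p ∣ orderOf c := by
  intro hdvd
  obtain ⟨n, hn⟩ := hdvd
  have hpos : 0 < orderOf c := orderOf_pos c
  have hn0 : n ≠ 0 := by rintro rfl; omega
  set d := c ^ n with hd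
  have hdX : d ∈ XX φ φ' := (XX φ φ').pow_mem hc n
  have hod : orderOf d = p := by
    rw [hd, orderOf_pow, hn, Nat.gcd_eq_right (Dvd.intro_left p rfl), Nat.mul_div_cancel _ (Nat.pos_of_ne_zero hn0)]
  obtain ⟨p₁, k1, p₂, k2, c1, c2, o1, o2, i2, n1, n2, n3, n4⟩ := hF
  have key : ∀ q : H0, ∀ hq : q ∈ K, q * a = a * q → q ^ p = 1 → (⟨q, hq⟩ : K) ∈ XX φ φ' := by
    intro q hq hqa hqp
    by_cases hq1 : q = 1
    · subst hq1
      exact (XX φ φ').one_mem
    have hoq : orderOf (⟨q, hq⟩ : K) = p :=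
      orderOf_eq_prime (Subtype.ext hqp) (fun h => hq1 (congrArg Subtype.val h))
    obtain ⟨e, j, hj⟩ := Cfsg.Agent.HN.FactO.exists_conj_pow (C := CK) (p := p) (m := m)
      (h := ⟨d, P.XX_le hdX⟩) (k := ⟨⟨q, hq⟩, mem_CK.2 hqa⟩) (by rw [card_CK, hpm]) hm
      (by rw [Subgroup.orderOf_mk, hod]) (by rw [Subgroup.orderOf_mk, hoq])
    have h1 : (⟨q, hq⟩ : K) = (e : K) * d ^ j * (e : K)⁻¹ := congrArg Subtype.val hj
    rw [h1]
    exact P.XX_conj ((XX φ φ').pow_mem hdX j) e.2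
  have h1 := (XX φ φ').mul_mem (key p₁ k1 c1 o1) (key p₂ k2 c2 o2)
  rcases P.XX_sq h1 (Subtype.ext (by rw [← pow_two]; exact i2)) with h2 | h2
  · exact n1 (congrArg Subtype.val h2)
  · rcases mem_l P.nl (congrArg Subtype.val h2) with h3 | h3
    · exact n3 h3
    · exact n4 h3

/-- The elements of `XX`. -/
theorem XX_cases (h3 : FO 3) (h5 : FO 5) {c : K} (hc : c ∈ XX φ φ') :
    c = 1 ∨ c = l ∨ Cfsg.Agent.HN.FactFA.XU c := by
  have ho : orderOf c ∣ 2 ^ 10 := by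
    have h1 : orderOf c ∣ 15360 := by
      rw [← card_CK, ← Subgroup.orderOf_mk c (P.XX_le hc)]
      exact orderOf_dvd_natCard _
    have f3 : Fact (Nat.Prime 3) := ⟨Nat.prime_three⟩
    have f5 : Fact (Nat.Prime 5) := ⟨Nat.prime_five⟩
    have n3 := P.not_dvd (p := 3) (m := 5120) (by norm_num) (by norm_num) h3 hc
    have n5 := P.not_dvd (p := 5) (m := 3072) (by norm_num) (by norm_num) h5 hc
    have h2 : (orderOf c).Coprime 15 := by
      have e3 : (orderOf c).Coprime 3 := ((Nat.Prime.coprime_iff_not_dvd Nat.prime_three).2 n3).symm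
      have e5 : (orderOf c).Coprime 5 := ((Nat.Prime.coprime_iff_not_dvd Nat.prime_five).2 n5).symm
      exact e3.mul_right e5
    exact h2.dvd_of_dvd_mul_right (by norm_num; exact h1)
  have h10 : c ^ 2 ^ 10 = 1 := orderOf_dvd_iff_pow_eq_one.1 ho
  have step : ∀ n, c ^ 2 ^ (n + 3) = 1 → c ^ 2 ^ (n + 2) = 1 := by
    intro n hn
    have e1 : c ^ 2 ^ (n + 2) * c ^ 2 ^ (n + 2) = 1 := by
      rw [← pow_add, ← two_mul, ← pow_succ']
      exact hn
    rcases P.XX_sq ((XX φ φ').pow_mem hc _) e1 with h | h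
    · exact h
    · exfalso
      refine P.no8 (y := φ' (c ^ 2 ^ n)) ((XX φ φ').pow_mem hc _) ?_
      rw [← map_mul, ← map_mul, P.hl, ← h, ← pow_add, ← pow_add]
      congr 2
      ring
  have h4 : c ^ 2 ^ 2 = 1 := by
    apply step 0; apply step 1; apply step 2; apply step 3; apply step 4; apply step 5; apply step 6; apply step 7
    exact h10
  have h4' : (c * c) * (c * c) = 1 := by
    rw [← h4, ← pow_two, ← pow_two, ← pow_mul]
    norm_num
  rcases P.XX_sq ((XX φ φ').mul_mem hc hc) h4' with h | h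
  · rcases P.XX_sq hc h with h | h
    · exact Or.inl h
    · exact Or.inr (Or.inl h)
  · right; right
    refine P.XU hc ?_ (Acts.of_range c)
    rw [← map_mul, h, P.hl]

theorem card_XX (h3 : FO 3) (h5 : FO 5) : Nat.card (XX φ φ') ≤ 6 := by
  classical
  let u := Cfsg.Agent.HN.FactFA.u0
  let F : Finset H0 := {1, (l : H0), u, u⁻¹, u * τ, u⁻¹ * τ}
  have h1 : Nat.card (XX φ φ') ≤ Nat.card F := by
    refine Nat.card_le_card_of_injective (fun c => ⟨((c : K) : H0), ?_⟩) ?_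
    · simp only [F, Finset.mem_insert, Finset.mem_singleton]
      rcases P.XX_cases h3 h5 c.2 with h | h | h
      · left; rw [h]; rfl
      · right; left; rw [h]
      · right; right; exact h
    · intro c d hcd
      have e : ((c : K) : H0) = ((d : K) : H0) := by
        have := congrArg Subtype.val hcd
        exact this
      exact Subtype.ext (Subtype.ext e)
  refine h1.trans ?_
  rw [Nat.card_eq_fintype_card, Fintype.card_coe]
  exact Finset.card_le_six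

/-- elements of `H0` by which `φ' (C_K(a))` acts on `φ K` -/
def BB (φ φ' : K →* G) : Subgroup H0 where
  carrier := {h | ∃ c ∈ CK, Acts φ (φ' c) h}
  mul_mem' := by
    rintro h h' ⟨c, hc, H⟩ ⟨c', hc', H'⟩
    exact ⟨c * c', CK.mul_mem hc hc', by rw [map_mul]; exact H.mul H'⟩
  one_mem' := ⟨1, CK.one_mem, by rw [map_one]; exact Acts.one⟩
  inv_mem' := by
    rintro h ⟨c, hc, H⟩
    exact ⟨c⁻¹, CK.inv_mem hc, by rw [map_inv]; exact H.inv⟩

theorem exists_act {c : K} (hc : c ∈ CK) : ∃ h, Acts φ (φ' c) h := by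
  apply P.ctx.act
  rw [P.hl, ← map_mul, ← map_mul, (commK_of P.nl).2 (mem_CK.1 hc)]

theorem card_BB (h3 : FO 3) (h5 : FO 5) : 2000 < Nat.card (BB φ φ') := by
  classical
  have hex : ∀ c : CK, ∃ h, Acts φ (φ' (c : K)) h := fun c => P.exists_act c.2
  choose f hf using hex
  have huniq : ∀ {g : G} {h h' : H0}, Acts φ g h → Acts φ g h' → Cfsg.Agent.HN.HS100.φ h = Cfsg.Agent.HN.HS100.φ h' := by
    intro g h h' H H'
    rcases H.unique P.ctx.inj H' with rfl | rfl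
    · rfl
    · rw [Cfsg.Agent.HN.Classes.φ_mul_τ]
  let F : CK →* Equiv.Perm (Fin 100) :=
    { toFun := fun c => Cfsg.Agent.HN.HS100.φ (f c)
      map_one' := by
        rw [← map_one Cfsg.Agent.HN.HS100.φ]
        refine huniq (hf 1) ?_
        have : φ' ((1 : CK) : K) = 1 := map_one φ'
        rw [this]
        exact Acts.one
      map_mul' := by
        intro c d
        rw [← map_mul]
        refine huniq (hf _) ?_
        have : φ' ((c * d : CK) : K) = φ' c * φ' d := map_mul φ' _ _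
        rw [this]
        exact (hf c).mul (hf d) }
  have hker : Nat.card F.ker ≤ 6 := by
    refine le_trans ?_ (P.card_XX h3 h5)
    refine Nat.card_le_card_of_injective (fun c => ⟨((c : CK) : K), ?_⟩) ?_
    · rw [mem_XX]
      have h1 : Cfsg.Agent.HN.HS100.φ (f c) = 1 := c.2
      rcases φ_eq_one_iff.1 h1 with h2 | h2
      · have := hf c; rw [h2] at this; exact this.cen
      · have := hf c; rw [h2] at this; exact this.cen_τ
    · intro c d hcd
      have e : ((c : CK) : K) = ((d : CK) : K) := by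
        have := congrArg Subtype.val hcd
        exact this
      exact Subtype.ext (Subtype.ext e)
  have hrange : Nat.card F.range ≤ Nat.card (BB φ φ') := by
    refine Nat.card_le_card_of_surjective
      (fun b => ⟨F ⟨b.2.choose, b.2.choose_spec.1⟩, ⟨_, rfl⟩⟩) ?_
    rintro ⟨_, c, rfl⟩
    refine ⟨⟨f c, ⟨c, c.2, hf c⟩⟩, Subtype.ext ?_⟩
    have h1 : f c ∈ BB φ φ' := ⟨c, c.2, hf c⟩
    change Cfsg.Agent.HN.HS100.φ (f _) = Cfsg.Agent.HN.HS100.φ (f c)
    exact huniq (hf _) h1.choose_spec.2 |>.trans rfl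
  have h1 : Nat.card CK = Nat.card F.range * Nat.card F.ker := by
    rw [Subgroup.card_eq_card_quotient_mul_card_subgroup F.ker]
    congr 1
    exact Nat.card_congr (QuotientGroup.quotientKerEquivRange F).toEquiv
  rw [card_CK] at h1
  have h2 : Nat.card F.range * Nat.card F.ker ≤ Nat.card (BB φ φ') * 6 := Nat.mul_le_mul hrange hker
  omega

/-- **elements of odd order of `Cen φ'` centralise `φ K`.** -/
theorem odd_cen' (h3 : FO 3) (h5 : FO 5) {y : G} (hy : Cen φ' y) (ho : Odd (orderOf y)) : Cen φ y := by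
  obtain ⟨g0, hg0, hgk⟩ := P.toAP.symm.acts hy
  -- an element of odd order
  have hpow : ∀ g : H0, Acts φ y g → g ^ orderOf y = 1 ∨ g ^ orderOf y = τ := by
    intro g hg
    have h1 := hg.pow (orderOf y)
    rw [pow_orderOf_eq_one] at h1
    rcases Acts.one.unique P.ctx.inj h1 with h2 | h2
    · exact Or.inl h2
    · exact Or.inr (by rw [h2, one_mul])
  obtain ⟨g, hg, hgk, hgo⟩ : ∃ g, Acts φ y g ∧ g * k = k * g ∧ g ^ orderOf y = 1 := by
    rcases hpow g0 hg0 with h | h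
    · exact ⟨g0, hg0, hgk, h⟩
    · refine ⟨g0 * τ, hg0.mul_τ, ?_, ?_⟩
      · rw [mul_assoc, ← τ_comm, ← mul_assoc, hgk, mul_assoc]
      · have hc : Commute g0 τ := τ_comm g0
        rw [hc.mul_pow, h]
        obtain ⟨m, hm⟩ := ho
        have : τ ^ orderOf y = τ := by
          rw [hm, pow_succ, pow_mul, pow_two, τ_mul_τ, one_pow, one_mul]
        rw [this, τ_mul_τ]
  have hodd : Odd (orderOf g) := Odd.of_dvd_nat ho (orderOf_dvd_of_pow_eq_one hgo)
  have hga : g * a = a * g := (comm_a_of P.nk).1 hgk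
  have h1 := Cfsg.Agent.HN.FactO.odd_comm hodd hga (B := BB φ φ') (by
    rintro b ⟨c, hc, hb⟩
    have h2 := hb.mul hg
    have h3 := hg.mul hb
    have h4 : φ' c * y = y * φ' c := (hy c).symm
    rw [h4] at h2
    rw [← map_mul, ← map_mul]
    rcases h2.unique P.ctx.inj h3 with h5 | h5
    · rw [h5]
    · rw [h5, Cfsg.Agent.HN.Classes.φ_mul_τ]) (P.card_BB h3 h5)
  rw [h1] at hg
  exact hg.cen

theorem odd_cen (h3 : FO 3) (h5 : FO 5) {y : G} (hy : Cen φ y) (ho : Odd (orderOf y)) : Cen φ' y :=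
  P.symm.odd_cen' h3 h5 hy ho

end NP

end Cfsg.Agent.StandardComponent.HS
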