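import Cfsg.Agent.StandardComponent.HS.PairA
import Cfsg.Agent.HN.FactF5a
import Cfsg.Agent.HN.FactF5b

set_option autoImplicit false

/-!
S1752: a function of the embedding `φ` which is constant on the pairs with `t' ∈ L` is constant on all pairs.
-/

namespace Cfsg.Agent.StandardComponent.HS.PairA

open Cfsg.Agent.HN.Pres Cfsg.Agent.HN.HS100 Cfsg.Agent.HN.P1408 Cfsg.Agent.HN.H0Basic
open Cfsg.Agent.HN.Syl Cfsg.Agent.HN.Classes Cfsg.Agent.HN.FusGen Cfsg.Agent.HN.FusOne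
open Cfsg.Agent.HN.FusK0
open Cfsg.Agent.StandardComponent.HS.FourK0 Cfsg.Agent.StandardComponent.HS.Four
open Cfsg.Agent.StandardComponent.HS.FourOuter
open Cfsg.Agent.HN
open Subgroup

variable {G : Type*} [Group G] {φ φ' : K →* G}

/-- two elements of order 3 of `C_K(h)` with commutator an involution conjugate to `e` -/
def F5e (e h : H0) : Prop :=
  ∃ p₁ ∈ K, ∃ p₂ ∈ K, p₁ ^ 3 = 1 ∧ p₂ ^ 3 = 1 ∧ p₁ * h = h * p₁ ∧ p₂ * h = h * p₂ ∧
    ∃ w : H0, w = p₁ * p₂ * p₁⁻¹ * p₂⁻¹ ∧ w ∈ K ∧ w * w = 1 ∧ w ≠ 1 ∧ w ≠ τ ∧ IsConj e w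

theorem F5e.conj {e h h' : H0} (hc : IsConj h h') (H : F5e e h) : ∃ p q w : K, p * p * p = 1 ∧ q * q * q = 1 ∧
    h' * p = p * h' ∧ h' * q = q * h' ∧ w = p * q * p⁻¹ * q⁻¹ ∧ w * w = 1 ∧ w ≠ τ0 ∧ IsConj e w := by
  obtain ⟨c, rfl⟩ := isConj_iff.1 hc
  obtain ⟨p, hp, q, hq, hp3, hq3, hph, hqh, w, hw, hwK, hw2, hw1, hwt, hew⟩ := H
  refine ⟨conjK c ⟨p, hp⟩, conjK c ⟨q, hq⟩, conjK c ⟨w, hwK⟩, ?_, ?_, ?_, ?_, ?_, ?_, ?_, ?_⟩
  · rw [← map_mul, ← map_mul, show (⟨p, hp⟩ : K) * ⟨p, hp⟩ * ⟨p, hp⟩ = 1 from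
      Subtype.ext (by rw [pow_three'] at hp3; exact hp3), map_one]
  · rw [← map_mul, ← map_mul, show (⟨q, hq⟩ : K) * ⟨q, hq⟩ * ⟨q, hq⟩ = 1 from
      Subtype.ext (by rw [pow_three'] at hq3; exact hq3), map_one]
  · rw [coe_conjK]
    calc c * h * c⁻¹ * (c * p * c⁻¹) = c * (h * p) * c⁻¹ := by group
      _ = c * (p * h) * c⁻¹ := by rw [hph]
      _ = _ := by group
  · rw [coe_conjK]
    calc c * h * c⁻¹ * (c * q * c⁻¹) = c * (h * q) * c⁻¹ := by group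
      _ = c * (q * h) * c⁻¹ := by rw [hqh]
      _ = _ := by group
  · rw [← map_inv, ← map_inv, ← map_mul, ← map_mul, ← map_mul]
    congr 1
    exact Subtype.ext hw
  · rw [← map_mul, show (⟨w, hwK⟩ : K) * ⟨w, hwK⟩ = 1 from Subtype.ext hw2, map_one]
  · intro e1
    apply hwt
    have e2 : c * w * c⁻¹ = τ := congrArg Subtype.val e1
    calc w = c⁻¹ * (c * w * c⁻¹) * c := by group
      _ = c⁻¹ * (τ * c) := by rw [e2]; group
      _ = c⁻¹ * (c * τ) := by rw [← τ_comm c]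
      _ = τ := by group
  · rw [coe_conjK]
    exact hew.trans (isConj_iff.2 ⟨c, rfl⟩)

/-- reduction of the outer pairs to the inner pairs -/
theorem Two.const_of [Finite G] {β : Type*} (f : (K →* G) → β)
    (hf : ∀ φ₁ φ₂, Two φ₁ φ₂ → (∃ k, φ₂ τ0 = φ₁ k) → f φ₁ = f φ₂) (T : Two φ φ') {e : K}
    (he : ∀ k : K, IsConj (e : H0) k → IsConj (φ τ0) (φ k)) (hz : F5e e gz) (hd : F5e e d) : f φ = f φ' := by
  by_cases hin : ∃ k : K, φ' τ0 = φ k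
  · exact hf _ _ T hin
  rcases T.kind with h | ⟨h, hK, h2, hcl, hh⟩
  · exact absurd h hin
  obtain ⟨p, q, w, hp3, hq3, hph, hqh, hw, hw2, hwt, hew⟩ : ∃ p q w : K, p * p * p = 1 ∧ q * q * q = 1 ∧
      h * p = p * h ∧ h * q = q * h ∧ w = p * q * p⁻¹ * q⁻¹ ∧ w * w = 1 ∧ w ≠ τ0 ∧ IsConj (e : H0) w := by
    rcases hcl with hc | hc
    · exact hz.conj hc
    · exact hd.conj hc
  have hpt := ((Acts.comm_iff T.std.inj hh p).2 hph).symm
  have hqt := ((Acts.comm_iff T.std.inj hh q).2 hqh).symm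
  obtain ⟨l, hl⟩ := T.P9 hin hp3 hq3 hpt hqt hw hw2
  obtain ⟨c, hc⟩ := isConj_iff.1 (he w hew)
  have e1 : φ w ≠ φ τ0 := fun e1 => hwt (T.std.inj e1)
  have T₁ : Two φ (conjHom φ c) :=
    { std := T.std
      conj := ⟨c, rfl⟩
      ne := by rw [conjHom_apply, hc]; exact e1
      comm := by rw [conjHom_apply, hc, t_comm] }
  obtain ⟨g, hg⟩ := T.conj
  have T₂ : Two φ' (conjHom φ c) :=
    { std := T.std'
      conj := ⟨c * g⁻¹, by rw [hg, conjHom_conjHom]; congr 1; group⟩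
      ne := by
        rw [conjHom_apply, hc]
        exact fun e2 => hin ⟨w, e2.symm⟩
      comm := by rw [conjHom_apply, hc, hl, t_comm] }
  rw [hf _ _ T₁ ⟨w, by rw [conjHom_apply, hc]⟩, hf _ _ T₂ ⟨l, by rw [conjHom_apply, hc, hl]⟩]

/-- A function of the embedding which is constant on the pairs with `t' ∈ L` is constant on all pairs. -/
theorem Two.const [Finite G] {β : Type*} (f : (K →* G) → β)
    (hf : ∀ φ₁ φ₂, Two φ₁ φ₂ → (∃ k, φ₂ τ0 = φ₁ k) → f φ₁ = f φ₂) (T : Two φ φ') : f φ = f φ' := by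
  obtain ⟨g, hg⟩ := T.conj
  have hgt : φ' τ0 = g * φ τ0 * g⁻¹ := by rw [hg, conjHom_apply]
  obtain ⟨φ'', ⟨-, ⟨c, rfl⟩, -, -⟩, h⟩ := T.std.exists_a ⟨g, by rw [← hgt]; exact T.ne, by rw [← hgt]; exact T.comm⟩
  rw [conjHom_apply] at h
  rcases h with h | h
  · refine T.const_of f hf (e := a0) (fun k hk => ?_) FactF5a.z FactF5a.d
    exact (isConj_iff.2 ⟨c, h⟩ : IsConj (φ τ0) (φ a0)).trans (φ.map_isConj (isConj_of (g := a0) s8_a hk))
  · refine T.const_of f hf (e := b0) (fun k hk => ?_) FactF5b.z FactF5b.d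
    exact (isConj_iff.2 ⟨c, h⟩ : IsConj (φ τ0) (φ b0)).trans (φ.map_isConj (isConj_of (g := b0) s8_aτ hk))

end Cfsg.Agent.StandardComponent.HS.PairA
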