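import Cfsg.Agent.StandardComponent.HS.PairC

set_option autoImplicit false

/-!
S1752: the odd part `W` of `C(L)` is normalised by every `g` such that `t` and its conjugate by `g` commute, if it is
the same for the pairs with `t' ∈ L`.
-/

namespace Cfsg.Agent.StandardComponent.HS.PairA

open Cfsg.Agent.HN.Pres Cfsg.Agent.HN.HS100 Cfsg.Agent.HN.P1408 Cfsg.Agent.HN.H0Basic
open Cfsg.Agent.HN.FusK0
open Cfsg.Agent.StandardComponent.HS.FourK0 Cfsg.Agent.StandardComponent.HS.Four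
open Cfsg.Agent.StandardComponent.HS.FourOuter
open Cfsg.Agent.HN
open Subgroup

variable {G : Type*} [Group G] {φ φ' : K →* G}

/-- the elements of odd order centralising `φ K` -/
def Wset (φ : K →* G) : Set G := {w | Cen φ w ∧ Odd (orderOf w)}

theorem mem_Wset {w : G} : w ∈ Wset φ ↔ Cen φ w ∧ Odd (orderOf w) := Iff.rfl

theorem orderOf_conj (g w : G) : orderOf (g * w * g⁻¹) = orderOf w := by
  have := orderOf_injective (MulAut.conj g).toMonoidHom (MulAut.conj g).injective w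
  simpa using this

theorem mem_Wset_conjHom {g w : G} : g * w * g⁻¹ ∈ Wset (conjHom φ g) ↔ w ∈ Wset φ := by
  rw [mem_Wset, mem_Wset, cen_conjHom, orderOf_conj]
  have h1 : g⁻¹ * (g * w * g⁻¹) * g = w := by group
  rw [h1]

/-- the elements of `C(t)` normalise `C(L)`. -/
theorem Std.cen_conj (S : Std φ) {g v : G} (hg : g * φ τ0 = φ τ0 * g) (hv : Cen φ v) : Cen φ (g * v * g⁻¹) := by
  obtain ⟨h, hh⟩ := S.acts g hg
  have h1 := (hh.mul (acts_one hv)).mul hh.inv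
  refine cen_of_acts h1 (Or.inl ?_)
  rw [mul_one, mul_inv_cancel]

theorem Std.nrm_of [Finite G] (S : Std φ)
    (hf : ∀ φ₁ φ₂ : K →* G, Two φ₁ φ₂ → (∃ k, φ₂ τ0 = φ₁ k) → Wset φ₁ = Wset φ₂) (g : G)
    (hg : Commute (φ τ0) (g * φ τ0 * g⁻¹)) {w : G} (hw : w ∈ Wset φ) : g * w * g⁻¹ ∈ Wset φ := by
  by_cases h1 : g * φ τ0 * g⁻¹ = φ τ0
  · exact ⟨S.cen_conj (mul_inv_eq_iff_eq_mul.1 h1) hw.1, by rw [orderOf_conj]; exact hw.2⟩
  · have T : Two φ (conjHom φ g) := ⟨S, ⟨g, rfl⟩, h1, hg.symm⟩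
    have h2 := (mem_Wset_conjHom (g := g)).2 hw
    rwa [← T.const Wset hf] at h2

/-- It is enough to show one inclusion of sets. -/
theorem Wset_eq_of {φ₁ φ₂ : K →* G} (T : Two φ₁ φ₂) [Finite G] (hk : ∃ k, φ₂ τ0 = φ₁ k)
    (H : ∀ φ₁ φ₂ : K →* G, Two φ₁ φ₂ → (∃ k, φ₂ τ0 = φ₁ k) → (∃ k, φ₁ τ0 = φ₂ k) → ∀ w ∈ Wset φ₁, Cen φ₂ w) :
    Wset φ₁ = Wset φ₂ := by
  have hk' := T.mem_symm hk
  apply Set.Subset.antisymm
  · exact fun w hw => ⟨H _ _ T hk hk' w hw, hw.2⟩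
  · exact fun w hw => ⟨H _ _ T.symm hk' hk w hw, hw.2⟩

/-- `nrm` from the statement that the odd elements of `C(L)` centralise `L'`, for the pairs with `t' ∈ L`, `t ∈ L'`. -/
theorem Std.nrm [Finite G] (S : Std φ)
    (H : ∀ φ₁ φ₂ : K →* G, Two φ₁ φ₂ → (∃ k, φ₂ τ0 = φ₁ k) → (∃ k, φ₁ τ0 = φ₂ k) → ∀ w ∈ Wset φ₁, Cen φ₂ w) (g : G)
    (hg : Commute (φ τ0) (g * φ τ0 * g⁻¹)) {w : G} (hw : w ∈ Wset φ) : g * w * g⁻¹ ∈ Wset φ :=
  S.nrm_of (fun _ _ T hk => Wset_eq_of T hk H) g hg hw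

end Cfsg.Agent.StandardComponent.HS.PairA
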