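import Cfsg.Agent.StandardComponent.HS.PairD
import Cfsg.Agent.HN.FactPair
import Cfsg.Agent.HN.FactFA8

set_option autoImplicit false

/-!
S1752, step 4: the 2-elements of `C(L)`, for a pair with `t' ∈ L` and `t = φ' a` or `t = φ' b`.
-/

namespace Cfsg.Agent.StandardComponent.HS.PairA

open Cfsg.Agent.HN.Pres Cfsg.Agent.HN.HS100 Cfsg.Agent.HN.P1408 Cfsg.Agent.HN.H0Basic
open Cfsg.Agent.HN.Syl Cfsg.Agent.HN.Classes Cfsg.Agent.HN.FusGen Cfsg.Agent.HN.FusOne
open Cfsg.Agent.HN.FusK0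
open Cfsg.Agent.StandardComponent.HS.FourK0 Cfsg.Agent.StandardComponent.HS.Four
open Cfsg.Agent.StandardComponent.HS.FourOuter
open Cfsg.Agent.HN Cfsg.Agent.HN.FactFA
open Subgroup
open scoped commutatorElement

variable {G : Type*} [Group G] {φ φ' : K →* G}

theorem u0_eq8 : u0 = FactFA8.u0 := hw_eq (by decide +kernel)

/-- A pair with `t' ∈ L`, `t = φ' e`, `e = a` or `e = b`. -/
structure AP (φ φ' : K →* G) (e : K) : Prop where
  two : Two φ φ'
  he : (e : H0) = a ∨ (e : H0) = a * τ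
  ht : φ τ0 = φ' e
  ht' : ∃ k : K, φ' τ0 = φ k

namespace AP

variable {e : K} (P : AP φ φ' e)

include P

/-- `C(L)` centralises `t'`. -/
theorem comm_t' {v : G} (hv : Cen φ v) : v * φ' τ0 = φ' τ0 * v := by
  obtain ⟨k, hk⟩ := P.ht'
  rw [hk]
  exact hv k

/-- `C(L)` has a single involution. -/
theorem inv_unique {v : G} (hv : Cen φ v) (h2 : v * v = 1) : v = 1 ∨ v = φ τ0 := by
  by_cases h1 : v = 1
  · exact Or.inl h1
  · exact Or.inr (P.two.C1 hv h2 h1 (P.comm_t' hv))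

/-- the commutator with `φ' c`. -/
theorem comm_mem {v : G} (hv : Cen φ v) {h : H0} (hh : Acts φ' v h) {c : K} (hc : c * e = e * c) :
    Cen φ (φ' (conjK h c * c⁻¹)) := by
  have h1 : φ' c * φ τ0 = φ τ0 * φ' c := by rw [P.ht, ← map_mul, hc, map_mul]
  have h2 : φ' (conjK h c * c⁻¹) = v * (φ' c * v⁻¹ * (φ' c)⁻¹) := by
    rw [map_mul, ← hh, map_inv]; group
  rw [h2]
  exact hv.mul (P.two.std.cen_conj h1 hv.inv)

/-- the elements of `L' ∩ C(L)` with square in `⟨t'⟩`. -/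
theorem small {f : K} (hf : Cen φ (φ' f)) (h2 : f * f = 1 ∨ f * f = τ0) : f = 1 ∨ f = e := by
  rcases h2 with h2 | h2
  · rcases P.inv_unique hf (by rw [← map_mul, h2, map_one]) with h3 | h3
    · left
      exact P.two.std'.inj (by rw [h3, map_one])
    · right
      exact P.two.std'.inj (by rw [h3, P.ht])
  · exfalso
    have h3 : Cen φ (φ' τ0) := by
      rw [← h2, map_mul]
      exact hf.mul hf
    rcases P.inv_unique h3 t_sq with h4 | h4
    · exact P.two.symm.t_ne h4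
    · exact P.two.ne h4

theorem acts_e : Acts φ' (φ τ0) e := by
  rw [P.ht]
  exact acts_of e

theorem e_comm_iff {c : K} : c * e = e * c ↔ (c : H0) * a = a * c := by
  have h1 : c * e = e * c ↔ (c : H0) * e = e * c := by
    constructor
    · exact fun h => congrArg Subtype.val h
    · exact fun h => Subtype.ext h
  rw [h1]
  rcases P.he with he | he
  · rw [he]
  · rw [he]
    constructor
    · intro h
      have h2 : (c : H0) * a * τ = a * c * τ := by
        rw [mul_assoc, h, mul_assoc, mul_assoc, ← τ_comm]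
      exact mul_right_cancel h2
    · intro h
      rw [← mul_assoc, h, mul_assoc, mul_assoc, ← τ_comm]

/-- The action on `L'` of the elements of order 4 of `C(L)`. -/
theorem acts_four {v : G} (hv : Cen φ v) (hv2 : v * v = φ τ0) {h : H0} (hh : Acts φ' v h) :
    (h = u0 ∨ h = u0⁻¹ ∨ h = u0 * τ ∨ h = u0⁻¹ * τ) ∧ (e : H0) = a := by
  have h1 : h ^ 2 = a ∨ h ^ 2 = a * τ := by
    have h2 := hh.mul hh
    rw [hv2] at h2
    have h3 := Acts.unique P.two.std'.inj P.acts_e h2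
    rw [pow_two]
    rcases P.he with he | he
    · rw [he] at h3; exact h3
    · rw [he, mul_assoc, τ_mul_τ, mul_one] at h3; exact h3.symm
  have key : ∀ c ∈ K, c * a = a * c → (⁅h, c⁆ ^ 2 = 1 ∨ ⁅h, c⁆ ^ 2 = τ) → (⁅h, c⁆ = 1 ∨ ⁅h, c⁆ = e) := by
    intro c hc hca h2
    have h3 : ⁅h, c⁆ = ((conjK h ⟨c, hc⟩ * (⟨c, hc⟩ : K)⁻¹ : K) : H0) := by
      rw [commutatorElement_def]
      rfl
    have h4 := P.comm_mem hv hh (P.e_comm_iff (c := ⟨c, hc⟩) |>.2 hca)
    rw [h3] at h2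
    rcases P.small h4 (by
      rcases h2 with h2 | h2
      · left; rw [pow_two] at h2; exact Subtype.ext h2
      · right; rw [pow_two] at h2; exact Subtype.ext h2) with h5 | h5
    · left; rw [h3, h5]; rfl
    · right; rw [h3, h5]
  constructor
  · refine FA h1 fun c hc hca h2 => ?_
    rcases key c hc hca h2 with h3 | h3
    · exact Or.inl h3
    · rcases P.he with he | he
      · exact Or.inr (Or.inr (Or.inl (h3.trans he)))
      · exact Or.inr (Or.inr (Or.inr (h3.trans he)))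
  · rcases P.he with he | he
    · exact he
    · exfalso
      refine FactPair.FAb h1 fun c hc hca h2 => ?_
      rw [← he]
      exact key c hc hca h2

/-- no element of order 8 -/
theorem no_eight {v : G} (hv : Cen φ v) (hv4 : v * v * (v * v) = φ τ0) : False := by
  obtain ⟨h, hh⟩ := P.two.std'.acts v (P.comm_t' hv)
  obtain ⟨h1, h2, h3, h4⟩ : h * h ≠ u0 ∧ h * h ≠ u0⁻¹ ∧ h * h ≠ u0 * τ ∧ h * h ≠ u0⁻¹ * τ := by
    rw [u0_eq8]
    exact FactFA8.no_sqrt h
  rcases (P.acts_four (hv.mul hv) hv4 (hh.mul hh)).1 with e | e | e | e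
  · exact h1 e
  · exact h2 e
  · exact h3 e
  · exact h4 e

/-- 2-elements of `C(L)` -/
theorem two_elt {v : G} (hv : Cen φ v) {k : ℕ} (hk : v ^ 2 ^ k = 1) : v = 1 ∨ v = φ τ0 ∨ v * v = φ τ0 := by
  have hpow : ∀ n : ℕ, Cen φ (v ^ n) := by
    intro n
    induction n with
    | zero => rw [pow_zero]; exact cen_one
    | succ n ih => rw [pow_succ]; exact ih.mul hv
  induction k with
  | zero =>
    left
    rwa [pow_zero, pow_one] at hk
  | succ k ih =>
    rw [pow_succ, pow_mul, pow_two] at hk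
    rcases P.inv_unique (hpow _) hk with h1 | h1
    · exact ih h1
    · match k with
      | 0 =>
        rw [pow_zero, pow_one] at h1
        exact Or.inr (Or.inl h1)
      | 1 =>
        rw [pow_one, pow_two] at h1
        exact Or.inr (Or.inr h1)
      | k + 2 =>
        exfalso
        refine P.no_eight (hpow (2 ^ k)) ?_
        rw [← h1, ← pow_add, ← pow_add]
        congr 1
        rw [pow_add]
        ring

/-- Two elements of order 4 of `C(L)` differ by an element of `W ⟨t⟩`. -/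
theorem four_eq {v r : G} (hv : Cen φ v) (hv2 : v * v = φ τ0) (hr : Cen φ r) (hr2 : r * r = φ τ0) :
    Cen φ' (v * r⁻¹) ∨ Cen φ' (v * r⁻¹ * φ τ0) := by
  obtain ⟨h, hh⟩ := P.two.std'.acts v (P.comm_t' hv)
  obtain ⟨s, hs⟩ := P.two.std'.acts r (P.comm_t' hr)
  obtain ⟨h1, he⟩ := P.acts_four hv hv2 hh
  obtain ⟨h2, -⟩ := P.acts_four hr hr2 hs
  have hu : u0 * u0 = a * τ := FactFA.u0_sq
  -- the square of `u0`
  have hT : ∀ g : H0, τ * g = g * τ := fun g => (τ_comm g).symm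
  have haa : a * a = 1 := a_sq
  have hu' : u0 = u0⁻¹ * (a * τ) := by rw [← hu]; group
  have huu : (a * τ) * (a * τ) = 1 := by
    calc a * τ * (a * τ) = a * (τ * a) * τ := by group
      _ = (a * a) * (τ * τ) := by rw [hT a]; group
      _ = 1 := by rw [haa, τ_mul_τ, one_mul]
  have hui : u0⁻¹ * u0⁻¹ = a * τ := by
    rw [← mul_inv_rev, hu]
    exact inv_eq_of_mul_eq_one_left huu
  have key : h * s⁻¹ = 1 ∨ h * s⁻¹ = τ ∨ h * s⁻¹ = a * τ ∨ h * s⁻¹ = a := by
    have hτi : (τ : H0)⁻¹ = τ := inv_eq_of_mul_eq_one_left τ_mul_τ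
    have e1 : (u0 * τ)⁻¹ = u0⁻¹ * τ := by rw [mul_inv_rev, hτi, hT]
    have e2 : (u0⁻¹ * τ)⁻¹ = u0 * τ := by rw [mul_inv_rev, hτi, inv_inv, hT]
    have e3 : ∀ x y : H0, x * τ * (y * τ) = x * y := by
      intro x y
      calc x * τ * (y * τ) = x * (τ * y) * τ := by group
        _ = x * y * (τ * τ) := by rw [hT y]; group
        _ = x * y := by rw [τ_mul_τ, mul_one]
    have e4 : ∀ x y : H0, x * τ * y = x * y * τ := by
      intro x y
      rw [mul_assoc, hT, mul_assoc]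
    have e5 : a * τ * τ = a := by rw [mul_assoc, τ_mul_τ, mul_one]
    rcases h1 with h1 | h1 | h1 | h1 <;> rcases h2 with h2 | h2 | h2 | h2 <;> rw [h1, h2]
    · left; group
    · right; right; left; rw [inv_inv, hu]
    · right; left; rw [e1, ← mul_assoc, mul_inv_cancel, one_mul]
    · right; right; right; rw [e2, ← mul_assoc, hu, e5]
    · right; right; left; exact hui
    · left; group
    · right; right; right; rw [e1, ← mul_assoc, hui, e5]
    · right; left; rw [e2, ← mul_assoc, inv_mul_cancel, one_mul]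
    · right; left; rw [e4, mul_inv_cancel, one_mul]
    · right; right; right; rw [inv_inv, e4, hu, e5]
    · left; rw [e1, e3, mul_inv_cancel]
    · right; right; left; rw [e2, e3, hu]
    · right; right; right; rw [e4, hui, e5]
    · right; left; rw [inv_inv, e4, inv_mul_cancel, one_mul]
    · right; right; left; rw [e1, e3, hui]
    · left; rw [e2, e3, inv_mul_cancel]
  have hact := hh.mul hs.inv
  have hact' := hact.mul P.acts_e
  rcases key with k1 | k1 | k1 | k1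
  · exact Or.inl (cen_of_acts hact (Or.inl k1))
  · exact Or.inl (cen_of_acts hact (Or.inr k1))
  · refine Or.inr (cen_of_acts hact' (Or.inr ?_))
    rw [k1, he, mul_assoc, hT, ← mul_assoc, haa, one_mul]
  · refine Or.inr (cen_of_acts hact' (Or.inl ?_))
    rw [k1, he, haa]

end AP

/-- The parts of an element of order prime to 2 and of order a power of 2. -/
theorem split [Finite G] (v : G) : ∃ (y x : G) (k : ℕ), v = y * x ∧ x ^ 2 ^ k = 1 ∧ Odd (orderOf y) ∧
    y ∈ zpowers v ∧ x ∈ zpowers v := by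
  obtain ⟨k, m, hm, hn⟩ := Nat.exists_eq_two_pow_mul_odd (n := orderOf v) (orderOf_pos v).ne'
  have hcop : IsCoprime ((2 ^ k : ℕ) : ℤ) (m : ℤ) := by
    rw [Nat.isCoprime_iff_coprime]
    exact Nat.Coprime.pow_left k (Nat.coprime_two_left.2 hm)
  obtain ⟨a, b, hab⟩ := hcop
  have hv : v ^ ((2 ^ k * m : ℕ) : ℤ) = 1 := by
    rw [zpow_natCast, ← hn, pow_orderOf_eq_one]
  refine ⟨v ^ (a * ((2 ^ k : ℕ) : ℤ)), v ^ (b * (m : ℤ)), k, ?_, ?_, ?_, ⟨_, rfl⟩, ⟨_, rfl⟩⟩
  · rw [← zpow_add, hab, zpow_one]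
  · rw [← zpow_natCast, ← zpow_mul]
    have : b * (m : ℤ) * ((2 ^ k : ℕ) : ℤ) = ((2 ^ k * m : ℕ) : ℤ) * b := by push_cast; ring
    rw [this, zpow_mul, hv, one_zpow]
  · refine Odd.of_dvd_nat hm (orderOf_dvd_of_pow_eq_one ?_)
    rw [← zpow_natCast, ← zpow_mul]
    have : a * ((2 ^ k : ℕ) : ℤ) * (m : ℤ) = ((2 ^ k * m : ℕ) : ℤ) * a := by push_cast; ring
    rw [this, zpow_mul, hv, one_zpow]

theorem Cen.zpowers {v y : G} (hv : Cen φ v) (hy : y ∈ zpowers v) : Cen φ y := by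
  obtain ⟨n, rfl⟩ := hy
  exact fun k => (show Commute v (φ k) from hv k).zpow_left n

/-- `C(L) ∩ C(L')` -/
def BB (φ φ' : K →* G) : Subgroup G where
  carrier := {v | Cen φ v ∧ Cen φ' v}
  mul_mem' := fun h h' => ⟨h.1.mul h'.1, h.2.mul h'.2⟩
  one_mem' := ⟨cen_one, cen_one⟩
  inv_mem' := fun h => ⟨h.1.inv, h.2.inv⟩

theorem mem_BB {v : G} : v ∈ BB φ φ' ↔ Cen φ v ∧ Cen φ' v := Iff.rfl

theorem Two.odd_BB (T : Two φ φ') : Odd (Nat.card (BB φ φ')) := T.odd _ (fun _ h => h.1) (fun _ h => h.2)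

theorem Two.mem_BB_iff [Finite G] (T : Two φ φ') (H : ∀ w ∈ Wset φ, Cen φ' w) {g : G} :
    g ∈ BB φ φ' ↔ g ∈ Wset φ := by
  constructor
  · intro h
    refine ⟨h.1, Odd.of_dvd_nat T.odd_BB ?_⟩
    have h1 : orderOf (⟨g, h⟩ : BB φ φ') ∣ Nat.card (BB φ φ') := orderOf_dvd_natCard _
    rwa [Subgroup.orderOf_mk] at h1
  · exact fun h => ⟨h.1, H g h⟩

/-- **(Step 4)** the structure of `C(L)`. -/
theorem AP.cases [Finite G] {e : K} (P : AP φ φ' e) (H : ∀ w ∈ Wset φ, Cen φ' w) :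
    (∀ v, Cen φ v → ∃ w ∈ BB φ φ', v = w ∨ v = w * φ τ0) ∨
    ∃ r, Cen φ r ∧ r * r = φ τ0 ∧
      ∀ v, Cen φ v → ∃ w ∈ BB φ φ', v = w ∨ v = w * φ τ0 ∨ v = w * r ∨ v = w * (r * φ τ0) := by
  by_cases hr : ∃ r, Cen φ r ∧ r * r = φ τ0
  · right
    obtain ⟨r, hr, hr2⟩ := hr
    refine ⟨r, hr, hr2, fun v hv => ?_⟩
    obtain ⟨y, x, k, hyx, hx, hy, hyv, hxv⟩ := split v
    have hyB : y ∈ BB φ φ' := P.two.mem_BB_iff H |>.2 ⟨hv.zpowers hyv, hy⟩
    have hxc := hv.zpowers hxv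
    rcases P.two_elt hxc hx with h1 | h1 | h1
    · exact ⟨y, hyB, Or.inl (by rw [hyx, h1, mul_one])⟩
    · exact ⟨y, hyB, Or.inr (Or.inl (by rw [hyx, h1]))⟩
    · rcases P.four_eq hxc h1 hr hr2 with h2 | h2
      · refine ⟨y * (x * r⁻¹), (BB φ φ').mul_mem hyB ⟨hxc.mul hr.inv, h2⟩, Or.inr (Or.inr (Or.inl ?_))⟩
        rw [hyx]; group
      · refine ⟨y * (x * r⁻¹ * φ τ0), (BB φ φ').mul_mem hyB ⟨(hxc.mul hr.inv).mul cen_t, h2⟩,
          Or.inr (Or.inr (Or.inr ?_))⟩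
        rw [hyx]
        have h3 : φ τ0 * (r * φ τ0) = r := by
          rw [hr τ0, ← mul_assoc, t_sq, one_mul]
        calc y * x = y * (x * r⁻¹ * r) := by group
          _ = y * (x * r⁻¹ * (φ τ0 * (r * φ τ0))) := by rw [h3]
          _ = y * (x * r⁻¹ * φ τ0) * (r * φ τ0) := by group
  · left
    intro v hv
    obtain ⟨y, x, k, hyx, hx, hy, hyv, hxv⟩ := split v
    have hyB : y ∈ BB φ φ' := P.two.mem_BB_iff H |>.2 ⟨hv.zpowers hyv, hy⟩
    have hxc := hv.zpowers hxv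
    rcases P.two_elt hxc hx with h1 | h1 | h1
    · exact ⟨y, hyB, Or.inl (by rw [hyx, h1, mul_one])⟩
    · exact ⟨y, hyB, Or.inr (by rw [hyx, h1])⟩
    · exact absurd ⟨x, hxc, h1⟩ hr

end Cfsg.Agent.StandardComponent.HS.PairA
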