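import Cfsg.Agent.SylowSp4.ExtTransfer
import Cfsg.Agent.StandardComponent.AltTransfer

/-!
# The end of the case `|R| = 4` of S1752 (abstract part)

`Y` contains `C_G(t)`, `Y₀` has index two in `Y`, `e ∈ Y ∖ Y₀` is an involution commuting with a four-group `V`
whose involutions are conjugate to `t` in `Y`, and `t^G ∩ Y₀ ⊆ t^Y`.  Then `G` has a subgroup of index two
(extremal form of Thompson's transfer lemma; no knowledge of the involutions of `Y ∖ Y₀` is needed).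
-/

set_option autoImplicit false

namespace Cfsg.Agent.StandardComponent.HS.SixEnd

open Subgroup

variable {G : Type*} [Group G]

/-- `t^G ∩ Y₀ ⊆ t^Y` and `C_G(t) ≤ Y`: an element conjugating a `Y`-conjugate of `t` into `Y₀` is in `Y`. -/
theorem mem_of_conj {Y₀ Y : Subgroup G} {t : G} (hCt : ∀ g, g * t = t * g → g ∈ Y)
    (hfus : ∀ x ∈ Y₀, IsConj t x → ∃ y ∈ Y, y * t * y⁻¹ = x)
    {v g : G} (hv : ∃ y ∈ Y, y * t * y⁻¹ = v) (hg : g * v * g⁻¹ ∈ Y₀) : g ∈ Y := by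
  obtain ⟨y, hy, rfl⟩ := hv
  obtain ⟨y', hy', he⟩ := hfus _ hg (isConj_iff.2 ⟨g * y, by group⟩)
  have h1 : (y'⁻¹ * g * y) * t = t * (y'⁻¹ * g * y) := by
    have h2 : y'⁻¹ * (g * (y * t * y⁻¹) * g⁻¹) * y' = t := by
      rw [← he]; group
    calc (y'⁻¹ * g * y) * t = (y'⁻¹ * (g * (y * t * y⁻¹) * g⁻¹) * y') * (y'⁻¹ * g * y) := by group
      _ = t * (y'⁻¹ * g * y) := by rw [h2]
  have h3 := hCt _ h1
  have h4 : g = y' * (y'⁻¹ * g * y) * y⁻¹ := by group
  rw [h4]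
  exact Y.mul_mem (Y.mul_mem hy' h3) (Y.inv_mem hy)

/-- the same for a four-group of `Y`-conjugates of `t` mapped into `Y`. -/
theorem mem_of_conj_four {Y₀ Y : Subgroup G} (hidx : Y₀.relIndex Y = 2) {t : G}
    (hCt : ∀ g, g * t = t * g → g ∈ Y)
    (hfus : ∀ x ∈ Y₀, IsConj t x → ∃ y ∈ Y, y * t * y⁻¹ = x)
    {v w g : G} (hv : ∃ y ∈ Y, y * t * y⁻¹ = v) (hw : ∃ y ∈ Y, y * t * y⁻¹ = w)
    (hvw : ∃ y ∈ Y, y * t * y⁻¹ = v * w) (hgv : g * v * g⁻¹ ∈ Y) (hgw : g * w * g⁻¹ ∈ Y) : g ∈ Y := by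
  by_cases h1 : g * v * g⁻¹ ∈ Y₀
  · exact mem_of_conj hCt hfus hv h1
  by_cases h2 : g * w * g⁻¹ ∈ Y₀
  · exact mem_of_conj hCt hfus hw h2
  refine mem_of_conj hCt hfus hvw ?_
  have hT2 : (Y₀.subgroupOf Y).index = 2 := hidx
  have h3 := Subgroup.mul_mem_iff_of_index_two hT2 (a := (⟨_, hgv⟩ : Y)) (b := ⟨_, hgw⟩)
  have h4 : (⟨_, hgv⟩ : Y) * ⟨_, hgw⟩ ∈ Y₀.subgroupOf Y := by
    rw [h3]
    exact ⟨fun h => absurd h h1, fun h => absurd h h2⟩
  have h5 : g * v * g⁻¹ * (g * w * g⁻¹) ∈ Y₀ := h4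
  have h6 : g * (v * w) * g⁻¹ = g * v * g⁻¹ * (g * w * g⁻¹) := by group
  rw [h6]
  exact h5

/-- **The end of the case `|R| = 4`.** -/
theorem false_of_index_two [Finite G] (hG : ∀ (f : G →* ℤˣ) (u : G), f u = 1) {Y₀ Y : Subgroup G} (hle : Y₀ ≤ Y)
    (hidx : Y₀.relIndex Y = 2) {t : G} (hCt : ∀ g, g * t = t * g → g ∈ Y)
    (hfus : ∀ x ∈ Y₀, IsConj t x → ∃ y ∈ Y, y * t * y⁻¹ = x)
    {v w e : G} (hvY : ∃ y ∈ Y, y * t * y⁻¹ = v) (hwY : ∃ y ∈ Y, y * t * y⁻¹ = w)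
    (hvwY : ∃ y ∈ Y, y * t * y⁻¹ = v * w) (ht2 : t * t = 1) (htY : t ∈ Y)
    (hvw : v * w = w * v) (he2 : e * e = 1) (heY : e ∈ Y) (heY₀ : e ∉ Y₀)
    (hev : e * v = v * e) (hew : e * w = w * e) : False := by
  have : Fact (Nat.Prime 2) := ⟨Nat.prime_two⟩
  have hv : v ∈ Y := by
    obtain ⟨y, hy, rfl⟩ := hvY
    exact Y.mul_mem (Y.mul_mem hy htY) (Y.inv_mem hy)
  have hw : w ∈ Y := by
    obtain ⟨y, hy, rfl⟩ := hwY
    exact Y.mul_mem (Y.mul_mem hy htY) (Y.inv_mem hy)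
  have hv2 : v * v = 1 := by
    obtain ⟨y, hy, rfl⟩ := hvY
    calc y * t * y⁻¹ * (y * t * y⁻¹) = y * (t * t) * y⁻¹ := by group
      _ = 1 := by rw [ht2]; group
  have hw2 : w * w = 1 := by
    obtain ⟨y, hy, rfl⟩ := hwY
    calc y * t * y⁻¹ * (y * t * y⁻¹) = y * (t * t) * y⁻¹ := by group
      _ = 1 := by rw [ht2]; group
  -- the elementary group `⟨v, w, e⟩` of order dividing 8
  let E : Subgroup G := Subgroup.closure {v, w, e}
  have hcomm : ∀ x ∈ ({v, w, e} : Set G), ∀ y ∈ ({v, w, e} : Set G), x * y = y * x := by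
    rintro x (rfl | rfl | rfl) y (rfl | rfl | rfl)
    · rfl
    · exact hvw
    · exact hev.symm
    · exact hvw.symm
    · rfl
    · exact hew.symm
    · exact hev
    · exact hew
    · rfl
  have hEcomm : ∀ x ∈ E, ∀ y ∈ E, x * y = y * x := by
    intro x hx y hy
    have h1 : E ≤ Subgroup.centralizer (E : Set G) := by
      rw [Subgroup.closure_le]
      intro a ha
      rw [SetLike.mem_coe, Subgroup.mem_centralizer_iff]
      intro b hb
      have h2 : E ≤ Subgroup.centralizer ({a} : Set G) := by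
        rw [Subgroup.closure_le]
        intro c hc
        rw [SetLike.mem_coe, Subgroup.mem_centralizer_iff]
        rintro _ rfl
        exact hcomm _ ha _ hc
      exact ((Subgroup.mem_centralizer_iff.1 (h2 hb)) a rfl).symm
    exact (Subgroup.mem_centralizer_iff.1 (h1 hy)) x hx
  have hE2 : ∀ x ∈ E, x * x = 1 := by
    intro x hx
    induction hx using Subgroup.closure_induction with
    | mem x hx =>
      rcases hx with rfl | rfl | rfl
      · exact hv2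
      · exact hw2
      · exact he2
    | one => rw [one_mul]
    | mul x y hx hy h1 h2 =>
      calc x * y * (x * y) = x * (y * x) * y := by group
        _ = x * (x * y) * y := by rw [hEcomm y hy x hx]
        _ = (x * x) * (y * y) := by group
        _ = 1 := by rw [h1, h2, one_mul]
    | inv x hx h1 => rw [← mul_inv_rev, h1, inv_one]
  have hEp : IsPGroup 2 E := by
    intro x
    refine ⟨1, Subtype.ext ?_⟩
    show (x : G) ^ 2 ^ 1 = 1
    rw [pow_one, pow_two]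
    exact hE2 x x.2
  have hEY : E ≤ Y := by
    rw [Subgroup.closure_le]
    rintro x (rfl | rfl | rfl)
    · exact hv
    · exact hw
    · exact heY
  have hvE : v ∈ E := Subgroup.subset_closure (by simp)
  have hwE : w ∈ E := Subgroup.subset_closure (by simp)
  have heE : e ∈ E := Subgroup.subset_closure (by simp)
  -- `|G : Y|` is odd
  have hodd : Odd Y.index := by
    refine AltTransfer.odd_index_of_unique hEp hEY fun g hg => ?_
    have h1 : g⁻¹ ∈ Y := by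
      refine mem_of_conj_four hidx hCt hfus hvY hwY hvwY ?_ ?_
      · rw [inv_inv]; exact hg v hvE
      · rw [inv_inv]; exact hg w hwE
    simpa using Y.inv_mem h1
  -- a Sylow subgroup of `Y` containing `E`
  have hEp' : IsPGroup 2 (E.subgroupOf Y) := by
    intro x
    refine ⟨1, ?_⟩
    apply Subtype.ext
    apply Subtype.ext
    show ((x : Y) : G) ^ 2 ^ 1 = 1
    rw [pow_one, pow_two]
    exact hE2 _ x.2
  obtain ⟨P, hP⟩ := hEp'.exists_le_sylow
  let S : Subgroup G := (P : Subgroup Y).map Y.subtype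
  have hES : E ≤ S := by
    intro x hx
    exact ⟨⟨x, hEY hx⟩, hP hx, rfl⟩
  have hSY : S ≤ Y := by
    rintro _ ⟨x, _, rfl⟩
    exact x.2
  have hSp : IsPGroup 2 S := P.isPGroup'.map _
  have hSidx : ¬ 2 ∣ S.index := by
    have h1 : S.index = (P : Subgroup Y).index * Y.index := by
      show ((P : Subgroup Y).map Y.subtype).index = _
      rw [Subgroup.index_map]
      simp [Subgroup.ker_subtype]
    rw [h1]
    intro h2
    rcases (Nat.Prime.dvd_mul Nat.prime_two).1 h2 with h3 | h3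
    · exact P.not_dvd_index' (by
        intro h4
        exact Subgroup.FiniteIndex.index_ne_zero h4) h3
    · exact (Nat.not_even_iff_odd.2 hodd) (even_iff_two_dvd.2 h3)
  let Q : Sylow 2 G := hSp.toSylow hSidx
  have hQ : (Q : Subgroup G) = S := rfl
  -- the subgroup of index two
  let T : Subgroup G := S ⊓ Y₀
  have hTS : T ≤ S := inf_le_left
  have hT : T.relIndex S = 2 := by
    have h0 : (Y₀.subgroupOf Y).index = 2 := hidx
    have h1 : ∀ a b : G, a ∈ Y → b ∈ Y → (a * b ∈ Y₀ ↔ (a ∈ Y₀ ↔ b ∈ Y₀)) := by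
      intro a b ha hb
      exact Subgroup.mul_mem_iff_of_index_two h0 (a := (⟨a, ha⟩ : Y)) (b := ⟨b, hb⟩)
    show (T.subgroupOf S).index = 2
    rw [Subgroup.index_eq_two_iff]
    refine ⟨⟨e, hES heE⟩, fun b => ?_⟩
    have h2 := h1 b e (hSY b.2) heY
    by_cases h3 : (b : G) ∈ Y₀
    · refine Or.inr ⟨⟨b.2, h3⟩, fun h => ?_⟩
      exact heY₀ ((h2.1 h.2).1 h3)
    · refine Or.inl ⟨⟨S.mul_mem b.2 (hES heE), h2.2 ⟨fun h => absurd h h3, fun h => absurd h heY₀⟩⟩, fun h => ?_⟩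
      exact h3 h.2
  obtain ⟨g, hg1, hg2⟩ := SylowSp4.ExtTransfer.exists_extremal Q T hTS hT e he2 (fun f => hG f e) E hEp
    (fun r hr => hEcomm r hr e heE)
  have hgY : g ∈ Y := by
    refine mem_of_conj_four hidx hCt hfus hvY hwY hvwY ?_ ?_
    · exact hSY (hg2 v hvE)
    · exact hSY (hg2 w hwE)
  -- contradiction
  have hn : (Y₀.subgroupOf Y).Normal := Subgroup.normal_of_index_eq_two hidx
  have h1 : g * e * g⁻¹ ∈ Y₀ := hg1.2
  have h2 := hn.conj_mem ⟨g * e * g⁻¹, hle h1⟩ h1 ⟨g⁻¹, Y.inv_mem hgY⟩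
  have h3 : g⁻¹ * (g * e * g⁻¹) * (g⁻¹)⁻¹ ∈ Y₀ := h2
  apply heY₀
  have h4 : g⁻¹ * (g * e * g⁻¹) * (g⁻¹)⁻¹ = e := by group
  rwa [h4] at h3

end Cfsg.Agent.StandardComponent.HS.SixEnd
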