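import Cfsg.Agent.StandardComponent.HS.SixEnd
import Cfsg.Agent.StandardComponent.HS.OddKer

/-!
# The end of the case `|R| = 4` of S1752: transfer from the quotient by an odd core
-/

set_option autoImplicit false

namespace Cfsg.Agent.StandardComponent.HS.SixQuot

open Subgroup Cfsg.Agent.StandardComponent.HS Cfsg.Agent.StandardComponent.HS.SixEnd

variable {G : Type*} [Group G]

/-- The data live in a quotient `Q` of `N ≤ G` by a normal subgroup of odd order. -/
theorem false_of_quotient [Finite G] (hG : ∀ (f : G →* ℤˣ) (u : G), f u = 1) {N : Subgroup G} {Q : Type*} [Group Q]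
    (π : N →* Q) (hsurj : Function.Surjective π) (hodd : Odd (Nat.card π.ker)) {t : G} (htN : t ∈ N) (ht2 : t * t = 1)
    (ht1 : t ≠ 1) (hCt : ∀ g, g * t = t * g → g ∈ N) {Q₀ Q₁ : Subgroup Q} (hle : Q₀ ≤ Q₁)
    (hidx : Q₀.relIndex Q₁ = 2) (hQt : ∀ q, q * π ⟨t, htN⟩ = π ⟨t, htN⟩ * q → q ∈ Q₁)
    {n : ℕ} (hn : ¬ 2 ^ n ∣ Nat.card (centralizer ({π ⟨t, htN⟩} : Set Q)))
    (hfus : ∀ u ∈ Q₀, u * u = 1 → u ≠ 1 → (∃ q ∈ Q₁, q * π ⟨t, htN⟩ * q⁻¹ = u) ∨
      2 ^ n ∣ Nat.card (centralizer ({u} : Set Q)))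
    {v e : Q} (hv : ∃ q ∈ Q₁, q * π ⟨t, htN⟩ * q⁻¹ = v)
    (htv : ∃ q ∈ Q₁, q * π ⟨t, htN⟩ * q⁻¹ = π ⟨t, htN⟩ * v)
    (htvc : v * π ⟨t, htN⟩ = π ⟨t, htN⟩ * v) (he2 : e * e = 1) (heQ : e ∈ Q₁) (heQ₀ : e ∉ Q₀)
    (het : e * π ⟨t, htN⟩ = π ⟨t, htN⟩ * e) (hev : e * v = v * e) : False := by
  set t' : N := ⟨t, htN⟩ with ht'
  have ht'2 : t' * t' = 1 := Subtype.ext ht2
  have hv2 : v * v = 1 := by
    obtain ⟨q, -, rfl⟩ := hv
    calc q * π t' * q⁻¹ * (q * π t' * q⁻¹) = q * (π t' * π t') * q⁻¹ := by group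
      _ = 1 := by rw [← map_mul, ht'2, map_one]; group
  obtain ⟨y, rfl⟩ := hsurj v
  obtain ⟨z, rfl⟩ := hsurj e
  obtain ⟨y', z', hy', hz', hy2, hz2, hya, hza, hzy⟩ :=
    OddKer.exists_lift_three hodd ht'2 hv2 he2 htvc het hev
  let Y₀ : Subgroup G := (Q₀.comap π).map N.subtype
  let Y : Subgroup G := (Q₁.comap π).map N.subtype
  have memY₀ : ∀ x : N, (x : G) ∈ Y₀ ↔ π x ∈ Q₀ := by
    intro x
    constructor
    · rintro ⟨x', hx', he⟩
      rw [← Subtype.ext he]; exact hx'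
    · intro hx
      exact ⟨x, hx, rfl⟩
  have memY : ∀ x : N, (x : G) ∈ Y ↔ π x ∈ Q₁ := by
    intro x
    constructor
    · rintro ⟨x', hx', he⟩
      rw [← Subtype.ext he]; exact hx'
    · intro hx
      exact ⟨x, hx, rfl⟩
  have hYN : ∀ x ∈ Y, x ∈ N := by
    rintro _ ⟨x, -, rfl⟩
    exact x.2
  have hY₀Y : Y₀ ≤ Y := Subgroup.map_mono (Subgroup.comap_mono hle)
  -- lifting conjugacy
  have lift : ∀ x : N, x * x = 1 → (∃ q ∈ Q₁, q * π t' * q⁻¹ = π x) → ∃ y ∈ Y, y * t * y⁻¹ = (x : G) := by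
    rintro x hx ⟨q, hq, hqx⟩
    obtain ⟨g, rfl⟩ := hsurj q
    have h1 : (g * t' * g⁻¹) * (g * t' * g⁻¹) = 1 := by
      calc (g * t' * g⁻¹) * (g * t' * g⁻¹) = g * (t' * t') * g⁻¹ := by group
        _ = 1 := by rw [ht'2]; group
    obtain ⟨k, hk, hkx⟩ := OddKer.conj_of_eq hodd h1 hx (by rw [map_mul, map_mul, map_inv, hqx])
    refine ⟨((k * g : N) : G), (memY _).2 ?_, ?_⟩
    · rw [map_mul, MonoidHom.mem_ker.1 hk, one_mul]; exact hq
    · rw [← hkx]
      show ((k * g : N) : G) * (t' : G) * ((k * g : N) : G)⁻¹ = _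
      push_cast
      group
  refine false_of_index_two hG hY₀Y ?_ (t := t) ?_ ?_ (v := t) (w := (y' : G)) (e := (z' : G)) ?_ ?_ ?_ ht2 ?_ ?_ ?_ ?_ ?_ ?_ ?_
  · -- index
    have h0 : (Q₀.subgroupOf Q₁).index = 2 := hidx
    rw [Subgroup.index_eq_two_iff] at h0
    obtain ⟨a, ha⟩ := h0
    obtain ⟨g, hg⟩ := hsurj (a : Q)
    have hgY : (g : G) ∈ Y := (memY g).2 (by rw [hg]; exact a.2)
    show (Y₀.subgroupOf Y).index = 2
    rw [Subgroup.index_eq_two_iff]
    refine ⟨⟨g, hgY⟩, fun b => ?_⟩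
    obtain ⟨b, hb⟩ := b
    have hbN := hYN b hb
    have hb' : π ⟨b, hbN⟩ ∈ Q₁ := (memY ⟨b, hbN⟩).1 hb
    have h1 := ha ⟨π ⟨b, hbN⟩, hb'⟩
    have e1 : ((⟨b, hb⟩ : Y) * ⟨g, hgY⟩ ∈ Y₀.subgroupOf Y) ↔
        ((⟨π ⟨b, hbN⟩, hb'⟩ : Q₁) * a ∈ Q₀.subgroupOf Q₁) := by
      rw [Subgroup.mem_subgroupOf, Subgroup.mem_subgroupOf]
      have h2 := memY₀ (⟨b, hbN⟩ * g)
      rw [map_mul, hg] at h2
      exact h2
    have e2 : ((⟨b, hb⟩ : Y) ∈ Y₀.subgroupOf Y) ↔ ((⟨π ⟨b, hbN⟩, hb'⟩ : Q₁) ∈ Q₀.subgroupOf Q₁) := by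
      rw [Subgroup.mem_subgroupOf, Subgroup.mem_subgroupOf]
      exact memY₀ ⟨b, hbN⟩
    rw [e1, e2]
    exact h1
  · -- centralizer
    intro g hg
    have hgN := hCt g hg
    refine (memY ⟨g, hgN⟩).2 (hQt _ ?_)
    rw [← map_mul, ← map_mul]
    exact congrArg π (Subtype.ext hg)
  · -- fusion
    rintro x hx hxt
    have hxN : x ∈ N := hYN x (hY₀Y hx)
    have hx2 : x * x = 1 := by
      obtain ⟨c, rfl⟩ := isConj_iff.1 hxt
      calc c * t * c⁻¹ * (c * t * c⁻¹) = c * (t * t) * c⁻¹ := by group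
        _ = 1 := by rw [ht2]; group
    have hx1 : x ≠ 1 := by
      rintro rfl
      exact ht1 (isConj_one_left.1 hxt)
    have hx'2 : (⟨x, hxN⟩ : N) * ⟨x, hxN⟩ = 1 := Subtype.ext hx2
    have h1 : π ⟨x, hxN⟩ * π ⟨x, hxN⟩ = 1 := by rw [← map_mul, hx'2, map_one]
    have h2 : π ⟨x, hxN⟩ ≠ 1 := by
      intro h
      have h3 : (⟨x, hxN⟩ : N) ∈ π.ker := MonoidHom.mem_ker.2 h
      obtain ⟨k, -, hk⟩ := OddKer.conj_of_eq hodd (a := (1 : N)) (b := ⟨x, hxN⟩) (one_mul 1) hx'2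
        (by rw [map_one, h])
      apply hx1
      have h4 : (⟨x, hxN⟩ : N) = 1 := by rw [← hk]; group
      exact congrArg Subtype.val h4
    rcases hfus _ ((memY₀ ⟨x, hxN⟩).1 hx) h1 h2 with h | h
    · exact lift ⟨x, hxN⟩ hx'2 h
    · exfalso
      have h3 : 2 ^ n ∣ Nat.card (centralizer ({(⟨x, hxN⟩ : N)} : Set N)) :=
        h.trans (OddKer.card_centralizer_dvd hsurj hodd hx'2)
      have h4 : 2 ^ n ∣ Nat.card (centralizer ({x} : Set G)) := by
        have h5 : (centralizer ({(⟨x, hxN⟩ : N)} : Set N)).map N.subtype ≤ centralizer ({x} : Set G) := by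
          rintro _ ⟨g, hg, rfl⟩
          rw [SetLike.mem_coe, Subgroup.mem_centralizer_iff] at hg
          rw [Subgroup.mem_centralizer_iff]
          rintro _ rfl
          exact congrArg Subtype.val (hg _ rfl)
        have h6 := Subgroup.card_dvd_of_le h5
        rw [Subgroup.card_map_of_injective N.subtype_injective] at h6
        exact h3.trans h6
      obtain ⟨c, hc⟩ := isConj_iff.1 hxt
      have h5 : Nat.card (centralizer ({x} : Set G)) = Nat.card (centralizer ({t} : Set G)) := by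
        have h6 : (centralizer ({t} : Set G)).map (MulAut.conj c).toMonoidHom = centralizer ({x} : Set G) := by
          ext g
          rw [Subgroup.mem_map]
          constructor
          · rintro ⟨g, hg, rfl⟩
            rw [Subgroup.mem_centralizer_iff] at hg ⊢
            rintro _ rfl
            have hg' := hg _ rfl
            show _ * (c * g * c⁻¹) = (c * g * c⁻¹) * _
            rw [← hc]
            calc c * t * c⁻¹ * (c * g * c⁻¹) = c * (t * g) * c⁻¹ := by group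
              _ = c * (g * t) * c⁻¹ := by rw [hg']
              _ = c * g * c⁻¹ * (c * t * c⁻¹) := by group
          · intro hg
            rw [Subgroup.mem_centralizer_iff] at hg
            have hg' := hg _ rfl
            refine ⟨c⁻¹ * g * c, ?_, by show c * (c⁻¹ * g * c) * c⁻¹ = g; group⟩
            rw [Subgroup.mem_centralizer_iff]
            intro u hu
            rw [Set.mem_singleton_iff.1 hu]
            rw [← hc] at hg'
            calc t * (c⁻¹ * g * c) = c⁻¹ * ((c * t * c⁻¹) * g) * c := by group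
              _ = c⁻¹ * (g * (c * t * c⁻¹)) * c := by rw [hg']
              _ = c⁻¹ * g * c * t := by group
        rw [← h6, Subgroup.card_map_of_injective (MulAut.conj c).injective]
      rw [h5] at h4
      apply hn
      apply OddKer.two_pow_dvd_of_centralizer hodd
      refine h4.trans ?_
      have h7 : centralizer ({t} : Set G) ≤ (centralizer ({t'} : Set N)).map N.subtype := by
        intro g hg
        rw [Subgroup.mem_centralizer_iff] at hg
        have hg' := hg _ rfl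
        refine ⟨⟨g, hCt g hg'.symm⟩, ?_, rfl⟩
        rw [SetLike.mem_coe, Subgroup.mem_centralizer_iff]
        rintro _ rfl
        exact Subtype.ext hg'
      have h8 := Subgroup.card_dvd_of_le h7
      rwa [Subgroup.card_map_of_injective N.subtype_injective] at h8
  · exact ⟨1, Y.one_mem, by group⟩
  · exact lift y' hy2 (by rw [hy']; exact hv)
  · have h1 : (t' * y') * (t' * y') = 1 := by
      calc (t' * y') * (t' * y') = t' * (y' * t') * y' := by group
        _ = (t' * t') * (y' * y') := by rw [hya]; group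
        _ = 1 := by rw [ht'2, hy2, one_mul]
    exact lift (t' * y') h1 (by rw [map_mul, hy']; exact htv)
  · exact (memY t').2 (hQt _ rfl)
  · exact (congrArg Subtype.val hya).symm
  · exact congrArg Subtype.val hz2
  · exact (memY z').2 (by rw [hz']; exact heQ)
  · intro h
    exact heQ₀ (by rw [← hz']; exact (memY₀ z').1 h)
  · exact congrArg Subtype.val hza
  · exact congrArg Subtype.val hzy

end Cfsg.Agent.StandardComponent.HS.SixQuot
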