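import Cfsg.Agent.StandardComponent.HS.FourOuter

set_option autoImplicit false

/-!
S1752, the case `|R| = 2`: a group `Γ` with `φ : K →* Γ` injective, `C(φ K) = {1, t}`, the centraliser of `t = φ τ0`
acting on `φ K` as a subgroup of `H0`.  An element acting as `gz` gives the centraliser `H0` or `T`.
-/

namespace Cfsg.Agent.StandardComponent.HS.TwoExt

open Cfsg.Agent.HN.Pres Cfsg.Agent.HN.HS100 Cfsg.Agent.HN.H0Basic Cfsg.Agent.HN.FusGen Cfsg.Agent.HN.FusK0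
open Cfsg.Agent.HN.Twist Cfsg.Agent.HN.FusOne Cfsg.Agent.HN.Classes Cfsg.Agent.HN.Syl
open Cfsg.Agent.StandardComponent.HS Cfsg.Agent.StandardComponent.HS.Four Cfsg.Agent.StandardComponent.HS.FourOuter

theorem out_mul {m h : H0} (hmK : m ∉ K) (hh : h ∉ K) : m * h ∈ K := by
  rw [mem_K_iff, map_mul]
  have h2 := (Int.units_eq_one_or (sgn m)).resolve_left hmK
  have h3 := (Int.units_eq_one_or (sgn h)).resolve_left hh
  rw [h2, h3]; rfl

open Classical in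
/-- extension of a homomorphism from `K` to the isoclinic group. -/
theorem exists_extT {Γ : Type*} [Group Γ] {φ : K →* Γ} {u : Γ} (hu : Acts φ u gz) (hu2 : u * u = φ τ0) :
    ∃ ψ : T →* Γ, (∀ k : K, ψ (ofH k) = φ k) ∧ ψ (ofH gz) = u ∧
      ∀ m, m ∉ K → ∃ k : K, ψ (ofH m) = φ k * u ∧ m = k * gz := by
  have hh : gz ∉ K := gz_notMem_K
  have hh2 : gz * gz = 1 := gz_sq'
  have hm : ∀ m : H0, m ∉ K → m * gz ∈ K := fun m hmK => out_mul hmK hh
  have hmn : ∀ m n : H0, m ∈ K → n ∉ K → m * n ∉ K := by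
    intro m n hmK hnK h1
    exact hnK (by
      have := K.mul_mem (K.inv_mem hmK) h1
      rwa [inv_mul_cancel_left] at this)
  have hnm : ∀ m n : H0, m ∉ K → n ∈ K → m * n ∉ K := by
    intro m n hmK hnK h1
    exact hmK (by
      have := K.mul_mem h1 (K.inv_mem hnK)
      rwa [mul_inv_cancel_right] at this)
  have hswap : ∀ k : K, u * φ k = φ (conjK gz k) * u := by
    intro k
    rw [← hu k]; group
  have hinv : (gz : H0)⁻¹ = gz := inv_eq_of_mul_eq_one_left hh2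
  let f : T → Γ := fun m' => if hmK : ofH.symm m' ∈ K then φ ⟨ofH.symm m', hmK⟩ else
    φ ⟨ofH.symm m' * gz, hm _ hmK⟩ * u
  have f1 : ∀ m (hmK : m ∈ K), f (ofH m) = φ ⟨m, hmK⟩ := fun m hmK => dif_pos hmK
  have f2 : ∀ m (hmK : m ∉ K), f (ofH m) = φ ⟨m * gz, hm m hmK⟩ * u := fun m hmK => dif_neg hmK
  have fmul : ∀ m' n', f (m' * n') = f m' * f n' := by
    intro m' n'
    obtain ⟨m, rfl⟩ : ∃ m, ofH m = m' := ⟨ofH.symm m', Equiv.apply_symm_apply _ _⟩
    obtain ⟨n, rfl⟩ : ∃ n, ofH n = n' := ⟨ofH.symm n', Equiv.apply_symm_apply _ _⟩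
    by_cases hmK : m ∈ K
    · rw [mul_even_left hmK]
      by_cases hnK : n ∈ K
      · rw [f1 _ (K.mul_mem hmK hnK), f1 _ hmK, f1 _ hnK, ← map_mul]
        rfl
      · rw [f2 _ (hmn m n hmK hnK), f1 _ hmK, f2 _ hnK, ← mul_assoc, ← map_mul]
        congr 2
        exact Subtype.ext (mul_assoc _ _ _)
    · by_cases hnK : n ∈ K
      · rw [mul_even_right _ hnK, f2 _ (hnm m n hmK hnK), f2 _ hmK, f1 _ hnK]
        calc φ ⟨m * n * gz, _⟩ * u = φ (⟨m * gz, hm m hmK⟩ * conjK gz ⟨n, hnK⟩) * u := by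
              congr 2
              apply Subtype.ext
              change m * n * gz = m * gz * (gz * n * gz⁻¹)
              rw [hinv]
              calc m * n * gz = m * 1 * n * gz := by group
                _ = m * (gz * gz) * n * gz := by rw [hh2]
                _ = m * gz * (gz * n * gz) := by group
          _ = φ ⟨m * gz, hm m hmK⟩ * (φ (conjK gz ⟨n, hnK⟩) * u) := by rw [map_mul, mul_assoc]
          _ = φ ⟨m * gz, hm m hmK⟩ * u * φ ⟨n, hnK⟩ := by rw [← hswap, mul_assoc]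
      · have hmnK : m * n * τ ∈ K := K.mul_mem (out_mul hmK hnK) τ_mem_K
        rw [mul_odd hmK hnK, f1 _ hmnK, f2 _ hmK, f2 _ hnK]
        calc φ ⟨m * n * τ, _⟩ = φ (⟨m * gz, hm m hmK⟩ * conjK gz ⟨n * gz, hm n hnK⟩ * τ0) := by
              congr 1
              apply Subtype.ext
              change m * n * τ = m * gz * (gz * (n * gz) * gz⁻¹) * τ
              rw [hinv]
              calc m * n * τ = m * 1 * n * 1 * τ := by group
                _ = m * (gz * gz) * n * (gz * gz) * τ := by rw [hh2]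
                _ = m * gz * (gz * (n * gz) * gz) * τ := by group
          _ = φ ⟨m * gz, hm m hmK⟩ * (φ (conjK gz ⟨n * gz, hm n hnK⟩)) * (u * u) := by
              rw [map_mul, map_mul, hu2]
          _ = φ ⟨m * gz, hm m hmK⟩ * (φ (conjK gz ⟨n * gz, hm n hnK⟩) * u) * u := by group
          _ = φ ⟨m * gz, hm m hmK⟩ * u * (φ ⟨n * gz, hm n hnK⟩ * u) := by rw [← hswap]; group
  refine ⟨MonoidHom.mk' f fmul, fun k => ?_, ?_, fun m hmK => ⟨⟨m * gz, hm m hmK⟩, f2 m hmK, ?_⟩⟩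
  · exact f1 k k.2
  · change f (ofH gz) = u
    rw [f2 gz hh]
    have h1 : (⟨gz * gz, hm gz hh⟩ : K) = 1 := Subtype.ext hh2
    rw [h1, map_one, one_mul]
  · change m = m * gz * gz
    rw [mul_assoc, hh2, mul_one]

/-- `C(φ K) = {1, t}` and the centraliser of `t = φ τ` acts on `φ K` as a subgroup of `H0`. -/
structure Two {Γ : Type*} [Group Γ] (φ : K →* Γ) : Prop where
  inj : Function.Injective φ
  hR : ∀ g, (∀ k, g * φ k = φ k * g) → g = 1 ∨ g = φ τ0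
  hM : ∀ g, g * φ τ0 = φ τ0 * g → ∃ h : H0, Acts φ g h

variable {Γ : Type*} [Group Γ] {φ : K →* Γ}

theorem acts_one : Acts φ (1 : Γ) (1 : H0) := by
  intro k
  rw [one_mul, inv_one, mul_one]
  congr 1
  apply Subtype.ext
  rw [coe_conjK]
  group

theorem acts_pow {g : Γ} {h : H0} (H : Acts φ g h) (n : ℕ) : Acts φ (g ^ n) (h ^ n) := by
  induction n with
  | zero => rw [pow_zero, pow_zero]; exact acts_one
  | succ n ih => rw [pow_succ, pow_succ]; exact Acts.mul ih H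

/-- two elements with the same action differ by an element commuting with `φ K`. -/
theorem comm_of_acts {x y : Γ} {h : H0} (hx : Acts φ x h) (hy : Acts φ y h) (k : K) :
    x⁻¹ * y * φ k = φ k * (x⁻¹ * y) := by
  have h3 : x * φ k * x⁻¹ = y * φ k * y⁻¹ := (hx k).trans (hy k).symm
  calc x⁻¹ * y * φ k = x⁻¹ * (y * φ k * y⁻¹) * y := by group
    _ = x⁻¹ * (x * φ k * x⁻¹) * y := by rw [h3]
    _ = φ k * (x⁻¹ * y) := by group

theorem not_φ (hφ : Function.Injective φ) {u : Γ} {h : H0} (hu : Acts φ u h) (hh : h ∉ K) (k : K) : u ≠ φ k := by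
  intro hk
  rw [hk] at hu
  exact hh ((mem_K_of_eq (Acts.unique hφ (acts_of k) hu)).2 k.2)

/-- an extension of `φ` to `H0` acts as it should. -/
theorem acts_ext {ψ : H0 →* Γ} {u : Γ} (hu : Acts φ u gz) (hψ : ∀ k : K, ψ k = φ k)
    (hψm : ∀ m, m ∉ K → ∃ k : K, ψ m = φ k * u ∧ m = k * gz) (m : H0) : Acts φ (ψ m) m := by
  by_cases hmK : m ∈ K
  · have h2 : ψ m = φ ⟨m, hmK⟩ := hψ ⟨m, hmK⟩
    rw [h2]
    exact acts_of _
  · obtain ⟨k, hk, hmk⟩ := hψm m hmK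
    rw [hk, hmk]
    exact Acts.mul (acts_of k) hu

theorem inj_ext {ψ : H0 →* Γ} {u : Γ} (hφ : Function.Injective φ) (hu : Acts φ u gz) (hψ : ∀ k : K, ψ k = φ k)
    (hψm : ∀ m, m ∉ K → ∃ k : K, ψ m = φ k * u ∧ m = k * gz) : Function.Injective ψ := by
  rw [injective_iff_map_eq_one]
  intro m hm1
  by_cases hmK : m ∈ K
  · have h2 : φ ⟨m, hmK⟩ = 1 := (hψ ⟨m, hmK⟩).symm.trans hm1
    exact congrArg Subtype.val (hφ (h2.trans (map_one φ).symm))
  · obtain ⟨k, hk, hmk⟩ := hψm m hmK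
    exfalso
    refine not_φ hφ hu gz_notMem_K k⁻¹ ?_
    rw [map_inv]
    exact (inv_eq_of_mul_eq_one_right (hk.symm.trans hm1)).symm

/-- the centraliser is `H0`. -/
theorem embH (F : Two φ) {u : Γ} (hu : Acts φ u gz) (hu2 : u * u = 1) :
    ∃ ψ : H0 →* Γ, Emb ψ τ ∧ (∀ k : K, ψ k = φ k) ∧ ψ gz = u := by
  obtain ⟨ψ, hψ, hψh, hψm⟩ := exists_ext gz_notMem_K gz_sq' hu hu2
  have hψτ : ψ τ = φ τ0 := hψ τ0
  refine ⟨ψ, ⟨inj_ext F.inj hu hψ hψm, ?_, τ_comm, τ_mul_τ, τ_ne_one⟩, hψ, hψh⟩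
  intro x hx
  rw [hψτ] at hx
  obtain ⟨m, hm⟩ := F.hM x hx
  rcases F.hR _ (comm_of_acts (acts_ext hu hψ hψm m) hm) with h3 | h3
  · exact ⟨m, inv_mul_eq_one.1 h3⟩
  · exact ⟨m * τ, by rw [map_mul, hψτ]; exact (inv_mul_eq_iff_eq_mul.1 h3).symm⟩

/-- the centraliser is the isoclinic group. -/
theorem embT (F : Two φ) {u : Γ} (hu : Acts φ u gz) (hu2 : u * u = φ τ0) :
    ∃ ψ : T →* Γ, Emb ψ τT ∧ (∀ k : K, ψ (ofH k) = φ k) := by
  obtain ⟨ψ, hψ, hψh, hψm⟩ := exists_extT hu hu2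
  have hψτ : ψ τT = φ τ0 := hψ τ0
  have hacts : ∀ m : H0, Acts φ (ψ (ofH m)) m := by
    intro m
    by_cases hmK : m ∈ K
    · have h2 : ψ (ofH m) = φ ⟨m, hmK⟩ := hψ ⟨m, hmK⟩
      rw [h2]
      exact acts_of _
    · obtain ⟨k, hk, hmk⟩ := hψm m hmK
      rw [hk, hmk]
      exact Acts.mul (acts_of k) hu
  refine ⟨ψ, ⟨?_, ?_, τT_comm, by rw [← pow_two]; exact τT_sq, τT_ne_one⟩, hψ⟩
  · rw [injective_iff_map_eq_one]
    intro m' hm1
    obtain ⟨m, rfl⟩ : ∃ m, ofH m = m' := ⟨ofH.symm m', Equiv.apply_symm_apply _ _⟩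
    by_cases hmK : m ∈ K
    · have h2 : φ ⟨m, hmK⟩ = 1 := (hψ ⟨m, hmK⟩).symm.trans hm1
      have h3 : m = 1 := congrArg Subtype.val (F.inj (h2.trans (map_one φ).symm))
      rw [h3]; rfl
    · obtain ⟨k, hk, hmk⟩ := hψm m hmK
      exfalso
      refine not_φ F.inj hu gz_notMem_K k⁻¹ ?_
      rw [map_inv]
      exact (inv_eq_of_mul_eq_one_right (hk.symm.trans hm1)).symm
  · intro x hx
    rw [hψτ] at hx
    obtain ⟨m, hm⟩ := F.hM x hx
    rcases F.hR _ (comm_of_acts (hacts m) hm) with h3 | h3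
    · exact ⟨ofH m, inv_mul_eq_one.1 h3⟩
    · exact ⟨ofH m * τT, by rw [map_mul, hψτ]; exact (inv_mul_eq_iff_eq_mul.1 h3).symm⟩

end Cfsg.Agent.StandardComponent.HS.TwoExt
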